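/-
Simply laced Chevalley packages in characteristic two: root pairings and conjugation of root elements.
-/
import Cfsg.Agent.Lib.Chev.Twist.SubfieldMax.Levels
import Cfsg.Agent.Lib.Chev.Aut.Types
import Cfsg.Agent.Lib.Chev.Inst
import Mathlib.Algebra.CharP.Two

set_option autoImplicit false
set_option linter.dupNamespace false
set_option linter.unusedSectionVars false
set_option linter.unusedSimpArgs false

namespace CfsgLib.Chev

open Cfsg.Lie Matrix

namespace Pack

variable (P : Pack)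

/-- The pairing of the coroot of `r` with the root `s`. -/
noncomputable def prP (r s : ℕ) : ℤ := sumN P.l fun i => P.C r i * P.A i s

/-- One commutator term, at the sum, with exponents one and an odd coefficient. -/
noncomputable def oneTerm (u : ℕ) (L : List (ℕ × ℤ × ℕ × ℕ)) : Bool :=
  List.rec false (fun a t _ => List.rec (Nat.beq a.1 u && (!(zeq (a.2.1 % 2) 0)) &&
    Nat.beq a.2.2.1 1 && Nat.beq a.2.2.2 1) (fun _ _ _ => false) t) L

/-- The tables are those of a simply laced system. -/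
noncomputable def lacedOK : Bool :=
  allN P.n fun r => allN P.n fun s =>
    Nat.beq s r || Nat.beq s (P.rev r) || forceZ (P.prP r s) fun p =>
      zeq p (P.prP s r) &&
        (bif zeq p (-1) then (!(zeq (P.N r s) 0)) && (Nat.blt (P.S r s) P.n && oneTerm (P.S r s) (P.terms r s))
          else zeq (P.N r s) 0 && (zeq p 0 || zeq p 1))

theorem oneTerm_spec {u : ℕ} {L : List (ℕ × ℤ × ℕ × ℕ)} (h : oneTerm u L = true) :
    ∃ c : ℤ, c % 2 ≠ 0 ∧ L = [(u, c, 1, 1)] := by
  rcases L with _ | ⟨⟨a, c, i, j⟩, _ | ⟨b, t⟩⟩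
  · simp [oneTerm] at h
  · simp [oneTerm, zeq_iff] at h
    refine ⟨c, ?_, by rw [h.1.1.1, h.1.2, h.2]⟩
    intro e
    simp [e, zeq] at h
  · simp [oneTerm] at h

end Pack

namespace Chev

variable {D : ChevalleyDatum} (Φ : Chev D)

/-- The pairing of roots. -/
def pair (r s : Fin D.nroots) : ℤ := ∑ k, Φ.C r k * Φ.A k s

/-- The properties of a simply laced system used here. -/
structure Laced : Prop where
  symm : ∀ r s, Φ.pair r s = Φ.pair s r
  cases : ∀ r s, s ≠ r → s ≠ r.rev → Φ.pair r s = -1 ∨ Φ.pair r s = 0 ∨ Φ.pair r s = 1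
  nz : ∀ r s, s ≠ r → s ≠ r.rev → (Φ.N r s ≠ 0 ↔ Φ.pair r s = -1)
  terms : ∀ r s, Φ.pair r s = -1 → s ≠ r → s ≠ r.rev →
    ∃ c : ℤ, c % 2 ≠ 0 ∧ D.commTerms r.val s.val = [((Φ.S r s).val, c, 1, 1)]

theorem pair_self' (r : Fin D.nroots) : Φ.pair r r = 2 := Φ.pair_self r

theorem pair_rev_left (r s : Fin D.nroots) : Φ.pair r.rev s = -Φ.pair r s := by
  simp only [pair, Φ.C_neg, neg_mul, Finset.sum_neg_distrib]

theorem pair_rev_right (r s : Fin D.nroots) : Φ.pair r s.rev = -Φ.pair r s := by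
  simp only [pair, Φ.toSys.A_neg, mul_neg, Finset.sum_neg_distrib]

theorem pair_add (t : Fin D.nroots) {r s : Fin D.nroots} (h : Φ.N r s ≠ 0) :
    Φ.pair t (Φ.S r s) = Φ.pair t r + Φ.pair t s := by
  simp only [pair, Φ.toSys.A_add h, mul_add, Finset.sum_add_distrib]

/-- The difference `s - r`. -/
def dif (r s : Fin D.nroots) : Fin D.nroots := Φ.S r.rev s

variable {Φ} (hL : Φ.Laced)

theorem Laced.ne_of_pair (r s : Fin D.nroots) (h : Φ.pair r s ≠ 2) : s ≠ r :=
  fun e => h (e ▸ Φ.pair_self' r)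

theorem Laced.ne_rev_of_pair (r s : Fin D.nroots) (h : Φ.pair r s ≠ -2) : s ≠ r.rev :=
  fun e => h (by rw [e, Φ.pair_rev_right, Φ.pair_self'])

include hL in
theorem Laced.range (r s : Fin D.nroots) : -2 ≤ Φ.pair r s ∧ Φ.pair r s ≤ 2 := by
  by_cases h1 : s = r
  · rw [h1, Φ.pair_self']; omega
  by_cases h2 : s = r.rev
  · rw [h2, Φ.pair_rev_right, Φ.pair_self']; omega
  rcases hL.cases r s h1 h2 with e | e | e <;> omega

include hL in
theorem Laced.eq_of_two {r s : Fin D.nroots} (h : Φ.pair r s = 2) : s = r := by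
  by_contra h1
  have h2 := Laced.ne_rev_of_pair r s (Φ := Φ) (by omega)
  rcases hL.cases r s h1 h2 with e | e | e <;> omega

include hL in
theorem Laced.eq_rev_of_neg_two {r s : Fin D.nroots} (h : Φ.pair r s = -2) : s = r.rev := by
  by_contra h1
  have h2 := Laced.ne_of_pair r s (Φ := Φ) (by omega)
  rcases hL.cases r s h2 h1 with e | e | e <;> omega

include hL in
theorem Laced.N_ne {r s : Fin D.nroots} (h : Φ.pair r s = -1) : Φ.N r s ≠ 0 :=
  (hL.nz r s (Laced.ne_of_pair (Φ := Φ) r s (by omega))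
    (Laced.ne_rev_of_pair (Φ := Φ) r s (by omega))).2 h

include hL in
theorem Laced.pair_sum {r s : Fin D.nroots} (h : Φ.pair r s = -1) (t : Fin D.nroots) :
    Φ.pair t (Φ.S r s) = Φ.pair t r + Φ.pair t s :=
  Φ.pair_add t (hL.N_ne h)

include hL in
theorem Laced.code_sum {r s : Fin D.nroots} (h : Φ.pair r s = -1) :
    Φ.toTables.code (Φ.S r s) = Φ.toTables.code r + Φ.toTables.code s :=
  Φ.toSys.code_add (hL.N_ne h)

include hL in
theorem Laced.pair_dif {r s : Fin D.nroots} (h : Φ.pair r s = 1) (t : Fin D.nroots) :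
    Φ.pair t (Φ.dif r s) = Φ.pair t s - Φ.pair t r := by
  rw [dif, hL.pair_sum (by rw [Φ.pair_rev_left, h]), Φ.pair_rev_right]
  ring

include hL in
theorem Laced.code_dif {r s : Fin D.nroots} (h : Φ.pair r s = 1) :
    Φ.toTables.code (Φ.dif r s) = Φ.toTables.code s - Φ.toTables.code r := by
  rw [dif, hL.code_sum (by rw [Φ.pair_rev_left, h]), Φ.toSys.code_neg]
  ring

theorem eq_of_code {r s : Fin D.nroots} (h : Φ.toTables.code r = Φ.toTables.code s) : r = s :=
  Φ.code_strictMono.injective h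

section Group

variable {F : Type*} [Field F] [CharP F 2]

theorem int_cast_odd {c : ℤ} (h : c % 2 ≠ 0) : (c : F) = 1 := by
  have e : c = 2 * (c / 2) + 1 := by omega
  rw [e, Int.cast_add, Int.cast_mul, Int.cast_two, CharTwo.two_eq_zero, zero_mul, zero_add,
    Int.cast_one]

theorem xg_sq (r : Fin D.nroots) (t : F) : Φ.toAlg.xg r t * Φ.toAlg.xg r t = 1 := by
  rw [← Φ.toAlg.xg_add, CharTwo.add_self_eq_zero, Φ.toAlg.xg_zero]

theorem xg_inv_self (r : Fin D.nroots) (t : F) : (Φ.toAlg.xg r t)⁻¹ = Φ.toAlg.xg r t :=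
  inv_eq_of_mul_eq_one_right (xg_sq r t)

include hL in
theorem Laced.commute {r s : Fin D.nroots} (h : 0 ≤ Φ.pair r s) (t u : F) :
    Commute (Φ.toAlg.xg r t) (Φ.toAlg.xg s u) := by
  by_cases h1 : s = r
  · subst h1
    show _ = _
    rw [← Φ.toAlg.xg_add, ← Φ.toAlg.xg_add, add_comm]
  refine Φ.toAlg.xg_commute (Laced.ne_rev_of_pair r s (Φ := Φ) (by omega)) ?_ t u
  by_contra hN
  have := (hL.nz r s h1 (Laced.ne_rev_of_pair r s (Φ := Φ) (by omega))).1 hN
  omega

include hL in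
theorem Laced.conj_eq {r s : Fin D.nroots} (h : Φ.pair r s = -1) (t u : F) :
    Φ.toAlg.xg s u * Φ.toAlg.xg r t * (Φ.toAlg.xg s u)⁻¹ =
      Φ.toAlg.xg r t * Φ.toAlg.xg (Φ.S r s) (t * u) := by
  have h1 := Laced.ne_of_pair r s (Φ := Φ) (by omega)
  have h2 := Laced.ne_rev_of_pair r s (Φ := Φ) (by omega)
  obtain ⟨c, hc, e⟩ := hL.terms r s h h1 h2
  have hcomm : Commute (Φ.toAlg.xg (Φ.S r s) (t * u)) (Φ.toAlg.xg s u) := by
    refine (hL.commute ?_ u (t * u)).symm
    rw [hL.pair_sum h, hL.symm s r, h, Φ.pair_self']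
    norm_num
  have hM : Φ.tval t u (D.commTerms r.val s.val) = Φ.toAlg.xg (Φ.S r s) (t * u) := by
    rw [e, tval, List.map_singleton, List.prod_singleton, dif_pos (Φ.S r s).isLt, int_cast_odd hc,
      pow_one, pow_one, CharTwo.neg_eq, one_mul]
  have h3 := Φ.comm_xg h1 h2 t u
  rw [hM] at h3
  rw [h3, mul_assoc (Φ.toAlg.xg r t), ← hcomm.eq, ← mul_assoc, mul_inv_cancel_right]

end Group

end Chev

namespace Pack

variable {D : ChevalleyDatum} (P : Pack) {hn : 0 < D.nroots} {hd : P.datumOK D = true}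
  {ht : P.tabOK = true} {hr : P.rootsOK = true} {hj : P.jacAll = true} {hw : P.weylOK = true}
  {hc : P.commOK = true}

local notation "Ψ" => P.toChev D hn hd ht hr hj hw hc

theorem pair_prP (r s : Fin D.nroots) : (Ψ).pair r s = P.prP r.val s.val := by
  have hl : D.rank = P.l := (P.rank_eq (hd := hd)).1
  rw [prP, sumN_eq, ← Fin.sum_congr' (fun i : Fin P.l => P.C r.val i.val * P.A i.val s.val) hl]
  rfl

/-- A checked package is simply laced. -/
theorem laced (h : P.lacedOK = true) : (Ψ).Laced := by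
  have hn' : D.nroots = P.n := (P.rank_eq (hd := hd)).2
  have key : ∀ r s : Fin D.nroots, s ≠ r → s ≠ r.rev →
      (Ψ).pair r s = (Ψ).pair s r ∧
      (((Ψ).pair r s = -1 ∧ (Ψ).N r s ≠ 0 ∧
        ∃ c : ℤ, c % 2 ≠ 0 ∧ D.commTerms r.val s.val = [(((Ψ).S r s).val, c, 1, 1)]) ∨
       ((Ψ).N r s = 0 ∧ ((Ψ).pair r s = 0 ∨ (Ψ).pair r s = 1))) := by
    intro r s h1 h2
    have hrs := allN_iff.1 (allN_iff.1 h r.val (hn' ▸ r.isLt)) s.val (hn' ▸ s.isLt)
    simp only [Bool.or_eq_true, forceZ_eq] at hrs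
    rcases hrs with (e | e) | e
    · exact absurd (Fin.ext (Nat.eq_of_beq_eq_true e)) h1
    · refine absurd (Fin.ext ?_) h2
      rw [Nat.eq_of_beq_eq_true e, P.rev_eq hn']
    rw [Bool.and_eq_true, zeq_iff] at e
    refine ⟨by rw [P.pair_prP, P.pair_prP]; exact e.1, ?_⟩
    rw [P.pair_prP]
    cases hz : zeq (P.prP r.val s.val) (-1) <;> rw [hz] at e
    · simp only [cond_false, Bool.and_eq_true, Bool.or_eq_true, zeq_iff] at e
      exact Or.inr e.2
    · simp only [cond_true, Bool.and_eq_true] at e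
      obtain ⟨c, hc1, hc2⟩ := oneTerm_spec e.2.2.2
      refine Or.inl ⟨zeq_iff.1 hz, fun h0 => ?_, c, hc1, ?_⟩
      · have := e.2.1
        rw [show P.N r.val s.val = 0 from h0] at this
        exact absurd this (by decide)
      · have hlt : P.S r.val s.val < D.nroots := by
          have := e.2.2.1
          rw [Nat.blt_eq] at this
          omega
        have hS : ((Ψ).S r s).val = P.S r.val s.val := Nat.mod_eq_of_lt hlt
        rw [P.commTerms_val (hn := hn) (hd := hd) (ht := ht) (hr := hr), hc2, hS]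
  refine ⟨fun r s => ?_, fun r s h1 h2 => ?_, fun r s h1 h2 => ?_, fun r s hp h1 h2 => ?_⟩
  · by_cases h1 : s = r
    · rw [h1]
    by_cases h2 : s = r.rev
    · rw [h2, (Ψ).pair_rev_left, (Ψ).pair_rev_right]
    exact (key r s h1 h2).1
  · rcases (key r s h1 h2).2 with ⟨e, -⟩ | ⟨-, e | e⟩ <;> omega
  · rcases (key r s h1 h2).2 with ⟨e, e', -⟩ | ⟨e', e⟩
    · exact ⟨fun _ => e, fun _ => e'⟩
    · exact ⟨fun h0 => absurd e' h0, fun h0 => by rcases e with e | e <;> omega⟩
  · rcases (key r s h1 h2).2 with ⟨-, -, e⟩ | ⟨-, e⟩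
    · exact e
    · rcases e with e | e <;> omega

end Pack

end CfsgLib.Chev
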