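/-
The rank of `y - 1` over a field of characteristic two, for a product `y` of root elements, from a
certificate checked on the integer tables.
-/
import Cfsg.Agent.Lib.Chev.InvClass.Move
import Cfsg.Agent.Lib.Chev.Twist.WordMod
import Mathlib.LinearAlgebra.Matrix.Rank

set_option autoImplicit false
set_option linter.dupNamespace false
set_option linter.unusedSectionVars false
set_option linter.unusedSimpArgs false

namespace CfsgLib.Chev

open Cfsg.Lie Matrix

namespace Pack

variable (P : Pack)

/-- The integer is even. -/
noncomputable def evenZ (c : ℤ) : Bool := zeq (c % 2) 0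

/-- The column at `b` of `y - 1`. -/
noncomputable def colM (w : List (ℕ × ℤ)) (b : ℕ) : List (ℕ × ℤ) := addTerm b (-1) (P.wordCol w b)

/-- The column at `b` minus the given combination of the pivot columns. -/
noncomputable def combCol (w : List (ℕ × ℤ)) (piv : List ℕ) (b : ℕ) (S : List ℕ) : List (ℕ × ℤ) :=
  List.rec (P.colM w b) (fun i _ ih => addList (-1) (P.colM w (piv.getD i 0)) ih) S

/-- Every column is a combination of the pivot columns, modulo two. -/
noncomputable def upperOK (w : List (ℕ × ℤ)) (piv : List ℕ) (S : List (List ℕ)) : Bool :=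
  allN (Nat.add P.n P.l) fun b =>
    ((S.getD b []).all fun i => Nat.blt i piv.length) &&
      (P.combCol w piv b (S.getD b [])).all fun a => evenZ a.2

/-- The functionals are dual to the pivot columns, modulo two. -/
noncomputable def lowerOK (w : List (ℕ × ℤ)) (piv : List ℕ) (f : List (List ℕ)) : Bool :=
  (piv.all fun p => Nat.blt p (Nat.add P.n P.l)) &&
  (f.all fun L => L.all fun x => Nat.blt x (Nat.add P.n P.l)) &&
  allN piv.length fun j => (fun col => allN piv.length fun i =>
    evenZ ((List.rec 0 (fun x _ ih => coef x col + ih) (f.getD i []) : ℤ) -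
      (bif Nat.beq i j then 1 else 0))) (P.colM w (piv.getD j 0))

/-- The check of a rank. -/
noncomputable def rankOK (w : List (ℕ × ℤ)) (piv : List ℕ) (S f : List (List ℕ)) : Bool :=
  P.upperOK w piv S && P.lowerOK w piv f

variable {D : ChevalleyDatum} {hn : 0 < D.nroots} {hd : P.datumOK D = true}
  {ht : P.tabOK = true} {hr : P.rootsOK = true} {hj : P.jacAll = true} {hw : P.weylOK = true}
  {hc : P.commOK = true}

local notation "Ψ" => P.toChev D hn hd ht hr hj hw hc

theorem coef_combCol (w : List (ℕ × ℤ)) (piv : List ℕ) (b x : ℕ) : ∀ S : List ℕ,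
    coef x (P.combCol w piv b S) =
      coef x (P.colM w b) - (S.map fun i => coef x (P.colM w (piv.getD i 0))).sum
  | [] => by simp [combCol]
  | i :: S => by
    show coef x (addList (-1) (P.colM w (piv.getD i 0)) (P.combCol w piv b S)) = _
    rw [coef_addList, coef_combCol w piv b x S, List.map_cons, List.sum_cons]
    ring

theorem evenZ_cast {F : Type*} [Field F] [CharP F 2] {c : ℤ} (h : evenZ c = true) : (c : F) = 0 := by
  rw [evenZ, zeq_iff] at h
  rw [CharP.intCast_eq_zero_iff F 2]
  exact Int.dvd_of_emod_eq_zero h

theorem coef_cast_zero {F : Type*} [Field F] [CharP F 2] (x : ℕ) {L : List (ℕ × ℤ)}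
    (h : ∀ a ∈ L, evenZ a.2 = true) : (coef x L : F) = 0 := by
  induction L with
  | nil => simp [coef]
  | cons a L ih =>
    rw [coef_cons, Int.cast_add, ih fun b hb => h b (List.mem_cons_of_mem _ hb), add_zero]
    split_ifs
    · exact evenZ_cast (h a List.mem_cons_self)
    · exact Int.cast_zero

theorem enc_surj {m : ℕ} (hm : m < D.nroots + D.rank) : ∃ y : D.Idx, enc y = m := by
  by_cases h : m < D.nroots
  · exact ⟨Sum.inr ⟨m, h⟩, rfl⟩
  · refine ⟨Sum.inl ⟨m - D.nroots, by omega⟩, ?_⟩
    show D.nroots + (m - D.nroots) = m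
    omega

theorem enc_lt (y : D.Idx) : enc y < D.nroots + D.rank := by
  rcases y with k | k <;> have := k.isLt <;> simp only [enc, Sum.elim_inl, Sum.elim_inr] <;> omega

/-- The word of a product of root elements. -/
def oneWord (R : List ℕ) : List (ℕ × ℤ) := R.map fun r => (r, 1)

theorem rank_el1 {F : Type*} [Field F] [CharP F 2] {L : List (Fin D.nroots)} {piv : List ℕ}
    {S f : List (List ℕ)} (h : P.rankOK (oneWord (L.map Fin.val)) piv S f = true) :
    (((Ψ).el1 L : GL D.Idx F) - 1 : Matrix D.Idx D.Idx F).rank = piv.length := by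
  classical
  obtain ⟨hl', hn'⟩ := P.rank_eq (hd := hd)
  have hN : P.n + P.l = D.nroots + D.rank := by omega
  set w : List (Fin D.nroots × ℤ) := L.map fun r => (r, 1) with hw'
  have hword : oneWord (L.map Fin.val) = w.map fun a => (a.1.val, a.2) := by
    simp [oneWord, hw', List.map_map, Function.comp_def]
  set M : Matrix D.Idx D.Idx F := ((Ψ).el1 L : GL D.Idx F) - 1 with hM
  set c : ℕ → ℕ → F := fun x b => (coef x (P.colM (oneWord (L.map Fin.val)) b) : F) with hcdef
  have hMe : ∀ x y : D.Idx, M x y = c (enc x) (enc y) := by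
    intro x y
    have e : ((Ψ).el1 L : GL D.Idx F) = (Ψ).wordG F w := by
      simp [Chev.el1, Chev.el, Chev.wordG, hw', List.map_map, Function.comp_def]
    show (((Ψ).el1 L : GL D.Idx F) : Matrix D.Idx D.Idx F) x y - (1 : Matrix D.Idx D.Idx F) x y =
      (coef (enc x) (addTerm (enc y) (-1) (P.wordCol (oneWord (L.map Fin.val)) (enc y))) : F)
    rw [e, Chev.wordG_val, coef_addTerm, hword,
      (P.wordCol_spec (hn := hn) (hd := hd) (ht := ht) (hr := hr) y w).2, Matrix.map_apply,
      Matrix.one_apply]
    by_cases hxy : x = y
    · subst hxy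
      rw [if_pos rfl, if_pos rfl, Int.cast_add, Int.cast_neg, Int.cast_one, neg_add_eq_sub]
      rfl
    · rw [if_neg hxy, if_neg (fun e => hxy (enc_injective e).symm), zero_add, sub_zero]
      rfl
  simp only [rankOK, upperOK, lowerOK, Bool.and_eq_true, allN_iff, List.all_eq_true, Nat.blt_eq, Nat.add_eq] at h
  obtain ⟨hup, ⟨hpiv, hf⟩, hlow⟩ := h
  have hpv : ∀ j : Fin piv.length, ∃ y : D.Idx, enc y = piv.getD j.val 0 := fun j => by
    refine enc_surj ?_
    rw [List.getD_eq_getElem _ _ j.isLt]
    exact hN ▸ hpiv _ (List.getElem_mem j.isLt)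
  choose py hpy using hpv
  let Sel : Matrix D.Idx (Fin piv.length) F := fun z j => if z = py j then 1 else 0
  have hMS : ∀ x j, (M * Sel) x j = c (enc x) (piv.getD j.val 0) := fun x j => by
    rw [Matrix.mul_apply, Finset.sum_eq_single (py j) (fun z _ hz => by simp [Sel, hz])
      (by simp), show Sel (py j) j = 1 from if_pos rfl, mul_one, hMe, hpy]
  refine le_antisymm ?_ ?_
  · -- upper bound
    let Cm : Matrix (Fin piv.length) D.Idx F := fun i y => ((S.getD (enc y) []).count i.val : F)
    have hMC : M = (M * Sel) * Cm := by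
      refine Matrix.ext fun x y => ?_
      rw [Matrix.mul_apply]
      simp only [hMS, Cm]
      obtain ⟨hS, heven⟩ := hup (enc y) (hN ▸ enc_lt y)
      have h0 := coef_cast_zero (F := F) (enc x) heven
      rw [P.coef_combCol, Int.cast_sub, sub_eq_zero] at h0
      rw [hMe]
      refine h0.trans ?_
      generalize hT : S.getD (enc y) [] = T at hS ⊢
      clear h0 heven hT
      induction T with
      | nil => simp
      | cons i T ih =>
        rw [List.map_cons, List.sum_cons, Int.cast_add, ih fun a ha => hS a (List.mem_cons_of_mem _ ha)]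
        have hi := hS i List.mem_cons_self
        simp only [List.count_cons, Nat.cast_add, mul_add, Finset.sum_add_distrib, beq_iff_eq]
        rw [add_comm]
        congr 1
        rw [Finset.sum_eq_single (⟨i, hi⟩ : Fin piv.length)]
        · simp [hcdef]
        · intro j _ hj
          rw [if_neg (fun e => hj (Fin.ext e.symm))]
          simp
        · simp
    rw [hMC]
    exact (Matrix.rank_mul_le_right _ _).trans
      ((Matrix.rank_le_card_height Cm).trans_eq (Fintype.card_fin _))
  · -- lower bound
    let Fm : Matrix (Fin piv.length) D.Idx F := fun i x => ((f.getD i.val []).count (enc x) : F)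
    have h1 : Fm * (M * Sel) = 1 := by
      refine Matrix.ext fun i j => ?_
      rw [Matrix.mul_apply]
      simp only [hMS, Fm]
      have he := evenZ_cast (F := F) (hlow j.val j.isLt i.val i.isLt)
      rw [Int.cast_sub, sub_eq_zero] at he
      have e2 : ((bif Nat.beq i.val j.val then 1 else 0 : ℤ) : F) =
          (1 : Matrix (Fin piv.length) (Fin piv.length) F) i j := by
        by_cases hij : i = j
        · subst hij; simp
        · have : Nat.beq i.val j.val = false :=
            Bool.eq_false_iff.2 fun e => hij (Fin.ext (Nat.eq_of_beq_eq_true e))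
          simp [this, hij]
      rw [← e2, ← he]
      have hlt : ∀ x ∈ f.getD i.val [], x < D.nroots + D.rank := by
        intro x hx
        by_cases hi : i.val < f.length
        · rw [List.getD_eq_getElem _ _ hi] at hx
          exact hN ▸ hf _ (List.getElem_mem hi) x hx
        · rw [List.getD_eq_default _ _ (not_lt.1 hi)] at hx
          exact absurd hx List.not_mem_nil
      clear he e2
      generalize f.getD i.val [] = T at hlt ⊢
      induction T with
      | nil => simp
      | cons a T ih =>
        obtain ⟨z, hz⟩ := enc_surj (hlt a List.mem_cons_self)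
        simp only [List.count_cons, Nat.cast_add, add_mul, Finset.sum_add_distrib, beq_iff_eq]
        rw [ih fun x hx => hlt x (List.mem_cons_of_mem _ hx), Int.cast_add, add_comm]
        congr 1
        rw [Finset.sum_eq_single z]
        · rw [if_pos hz.symm, hz]; simp [hcdef]
        · intro x _ hx
          rw [if_neg (fun e => hx (enc_injective (e.symm.trans hz.symm)))]
          simp
        · simp
    calc piv.length = (1 : Matrix (Fin piv.length) (Fin piv.length) F).rank := by
          rw [Matrix.rank_one, Fintype.card_fin]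
      _ ≤ (M * Sel).rank := by rw [← h1]; exact Matrix.rank_mul_le_right _ _
      _ ≤ M.rank := Matrix.rank_mul_le_left _ _

end Pack

/-- Conjugate elements have conjugate differences from one, of equal rank. -/
theorem rank_sub_one_conj {n : Type*} [Fintype n] [DecidableEq n] {F : Type*} [Field F]
    {x a b : GL n F} (h : x * a * x⁻¹ = b) :
    ((b : Matrix n n F) - 1).rank = ((a : Matrix n n F) - 1).rank := by
  subst h
  have e : ((x * a * x⁻¹ : GL n F) : Matrix n n F) - 1 =
      (x : Matrix n n F) * ((a : Matrix n n F) - 1) * ((x⁻¹ : GL n F) : Matrix n n F) := by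
    simp only [Units.val_mul, mul_sub, sub_mul, mul_one, Units.mul_inv]
  rw [e, Matrix.rank_mul_eq_left_of_isUnit_det _ _ (Matrix.isUnit_iff_isUnit_det _ |>.1 (Units.isUnit _)),
    Matrix.rank_mul_eq_right_of_isUnit_det _ _ (Matrix.isUnit_iff_isUnit_det _ |>.1 (Units.isUnit _))]

end CfsgLib.Chev
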