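/-
The classes of involutions of a simply laced group in characteristic two, from the certificates.
-/
import Cfsg.Agent.Lib.Chev.InvClass.Classify
import Cfsg.Agent.Lib.Chev.InvClass.Rank
import Mathlib.Data.Set.Card

set_option autoImplicit false
set_option linter.dupNamespace false
set_option linter.unusedSectionVars false
set_option linter.unusedSimpArgs false

namespace CfsgLib.Chev

open Cfsg.Lie Matrix

namespace Pack

variable (P : Pack)

/-- The roots of the list are pairwise orthogonal. -/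
noncomputable def orthsOK (R : List ℕ) : Bool :=
  List.rec true (fun a t ih => t.all (fun b => zeq (P.prP a b) 0) && ih) R

variable {D : ChevalleyDatum} {hn : 0 < D.nroots} {hd : P.datumOK D = true}
  {ht : P.tabOK = true} {hr : P.rootsOK = true} {hj : P.jacAll = true} {hw : P.weylOK = true}
  {hc : P.commOK = true}

local notation "Ψ" => P.toChev D hn hd ht hr hj hw hc

theorem orths : ∀ {L : List (Fin D.nroots)}, P.orthsOK (L.map Fin.val) = true → (Ψ).Orths L
  | [], _ => List.Pairwise.nil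
  | a :: L, h => by
    have h' : ((L.map Fin.val).all (fun b => zeq (P.prP a.val b) 0) && P.orthsOK (L.map Fin.val)) = true := h
    rw [Bool.and_eq_true, List.all_eq_true] at h'
    refine List.pairwise_cons.2 ⟨fun b hb => ?_, orths h'.2⟩
    rw [P.pair_prP]
    exact zeq_iff.1 (h'.1 _ (List.mem_map.2 ⟨b, hb, rfl⟩))

variable {F : Type*} [Field F] [Finite F] [CharP F 2]

/-- The representatives are a system of representatives of the classes of involutions. -/
theorem involution_classes (hL : (P.toChev D hn hd ht hr hj hw hc).Laced) {cert : List (List ℕ × OrthNode)}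
    {reps : List (List ℕ)} (hcert : P.certOK cert reps = true) (ks : List (Fin D.rank))
    (hks : ∀ i, i ∈ ks) (hch : P.chainOK (ks.map Fin.val) = true) (Ls : List (List (Fin D.nroots)))
    (hreps : Ls.map (fun L => L.map Fin.val) = reps) (horth : reps.all P.orthsOK = true)
    (k : List (Fin D.nroots) → ℕ)
    (hk : ∀ L ∈ Ls, ((((Ψ).el1 L : GL D.Idx F) : Matrix D.Idx D.Idx F) - 1).rank = k L)
    (hk0 : ∀ L ∈ Ls, k L ≠ 0) (hkn : (Ls.map k).Nodup) :
    (∀ L ∈ Ls, ((Ψ).el1 L : GL D.Idx F) ∈ D.group F ∧ orderOf ((Ψ).el1 L : GL D.Idx F) = 2) ∧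
    (∀ g ∈ D.group F, orderOf g = 2 →
      ∃ L ∈ Ls, ∃ h ∈ D.group F, h * g * h⁻¹ = ((Ψ).el1 L : GL D.Idx F)) ∧
    (∀ L ∈ Ls, ∀ L' ∈ Ls, ∀ h : GL D.Idx F, h * (Ψ).el1 L * h⁻¹ = (Ψ).el1 L' → L = L') := by
  haveI : Fact (Nat.Prime 2) := ⟨Nat.prime_two⟩
  subst hreps
  have hne : ∀ L ∈ Ls, ((Ψ).el1 L : GL D.Idx F) ≠ 1 := fun L hL' e => by
    have := hk L hL'
    rw [e, Units.val_one, sub_self, Matrix.rank_zero] at this
    exact hk0 L hL' this.symm
  refine ⟨fun L hL' => ⟨Chev.el1_mem_group L, ?_⟩, fun g hg ho => ?_, fun L hL1 L' hL2 h he => ?_⟩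
  · refine orderOf_eq_prime ?_ (hne L hL')
    rw [sq]
    exact Chev.el1_sq hL (P.orths (List.all_eq_true.1 horth _ (List.mem_map.2 ⟨L, hL', rfl⟩)))
  · have hg2 : g * g = 1 := by rw [← sq, ← ho, pow_orderOf_eq_one]
    have hg1 : g ≠ 1 := fun e => by
      rw [e, orderOf_one] at ho
      exact absurd ho (by norm_num)
    obtain ⟨R, hR, L, hLR, x, hx, hxe⟩ := P.involution_rep hL hcert ks hks hch hg hg2 hg1
    obtain ⟨L', hL', rfl⟩ := List.mem_map.1 hR
    obtain rfl : L = L' := List.map_injective_iff.2 Fin.val_injective hLR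
    exact ⟨L, hL', x, hx, hxe⟩
  · refine List.inj_on_of_nodup_map hkn hL1 hL2 ?_
    rw [← hk L hL1, ← hk L' hL2, rank_sub_one_conj he]

/-- The number of classes of involutions. -/
theorem involution_classes_ncard (Ls : List (List (Fin D.nroots))) (hnd : Ls.Nodup)
    (h : (∀ L ∈ Ls, ((Ψ).el1 L : GL D.Idx F) ∈ D.group F ∧ orderOf ((Ψ).el1 L : GL D.Idx F) = 2) ∧
      (∀ g ∈ D.group F, orderOf g = 2 →
        ∃ L ∈ Ls, ∃ h ∈ D.group F, h * g * h⁻¹ = ((Ψ).el1 L : GL D.Idx F)) ∧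
      (∀ L ∈ Ls, ∀ L' ∈ Ls, ∀ h : GL D.Idx F, h * (Ψ).el1 L * h⁻¹ = (Ψ).el1 L' → L = L')) :
    (ConjClasses.mk '' {g : ↥(D.group F) | orderOf g = 2}).ncard = Ls.length := by
  classical
  obtain ⟨h1, h2, h3⟩ := h
  let φ : {L // L ∈ Ls} → ConjClasses ↥(D.group F) := fun L =>
    ConjClasses.mk ⟨(Ψ).el1 L.1, (h1 L.1 L.2).1⟩
  have hφ : Function.Injective φ := by
    intro L L' e
    obtain ⟨c, hc⟩ := isConj_iff.1 (ConjClasses.mk_eq_mk_iff_isConj.1 e)
    exact Subtype.ext (h3 _ L.2 _ L'.2 c.1 (congrArg Subtype.val hc))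
  have himg : ConjClasses.mk '' {g : ↥(D.group F) | orderOf g = 2} = Set.range φ := by
    ext C
    constructor
    · rintro ⟨g, hg, rfl⟩
      obtain ⟨L, hL, x, hx, hxe⟩ := h2 g.1 g.2 (by rw [Subgroup.orderOf_coe]; exact hg)
      refine ⟨⟨L, hL⟩, (ConjClasses.mk_eq_mk_iff_isConj.2 (isConj_iff.2 ⟨⟨x, hx⟩, Subtype.ext ?_⟩)).symm⟩
      exact hxe
    · rintro ⟨L, rfl⟩
      exact ⟨_, by rw [Set.mem_ofPred_eq, ← Subgroup.orderOf_coe]; exact (h1 L.1 L.2).2, rfl⟩
  rw [himg, Set.ncard_range_of_injective hφ, Nat.card_eq_fintype_card]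
  rw [← List.toFinset_card_of_nodup hnd, ← Fintype.card_coe]
  exact Fintype.card_congr (Equiv.subtypeEquivRight fun L => List.mem_toFinset.symm)

end Pack

end CfsgLib.Chev
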