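/-
Certificates for the classes of involutions of E6, E7, E8 in characteristic two.
-/
import Cfsg.Agent.Lib.Chev.InvClass.Classify
import Cfsg.Agent.Lib.Chev.InvClass.Rank

set_option autoImplicit false
set_option maxRecDepth 100000

namespace CfsgLib.Chev

/-- The representatives for E6. -/
def repsE6 : List (List ℕ) := [[71],
   [68, 66],
   [55, 65, 67]]

/-- The tree for E6. -/
def certE6_inv : List (List ℕ × OrthNode) :=
  [([], .opn [[5],
   [4],
   [3],
   [2],
   [1],
   [0]]
   [[(71, 0), (70, 4), (69, 2), (68, 1), (66, 3), (67, 0), (65, 3), (55, 5), (64, 3), (63, 2), (54, 5), (62, 2), (53, 5), (60, 4), (52, 5), (61, 1), (59, 4), (51, 5), (45, 5), (49, 3), (58, 4), (50, 5), (44, 5), (48, 3), (41, 3), (57, 2), (43, 5), (47, 3), (40, 3), (38, 2), (56, 3), (42, 5), (39, 3), (46, 2), (37, 2), (36, 1), (15, 5), (29, 3), (32, 2), (25, 4), (34, 1), (35, 0), (14, 3), (28, 2), (31, 1), (24, 4), (33, 0), (13, 2), (27, 1), (21, 4), (30, 0), (23, 4), (12, 1), (10, 4), (26, 0), (20, 4), (22, 4),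 (11, 0), (9, 4), (19, 4), (18, 2), (8, 4), (7, 2), (17, 2), (6, 2), (4, 3), (16, 1), (5, 1), (3, 3), (2, 3), (1, 2), (0, 4)]]
   ([], [])),
   ([71], .opn [[5],
   [4],
   [3],
   [2],
   [0]]
   [[(60, 0), (59, 0), (45, 4), (58, 1), (44, 4), (41, 3), (57, 2), (43, 4), (40, 3), (38, 2), (56, 3), (42, 4), (39, 3), (37, 2), (36, 1), (15, 4), (29, 3), (32, 2), (34, 1), (35, 0), (14, 3), (28, 2), (31, 1), (33, 0), (13, 2), (27, 1), (30, 0), (12, 1), (26, 0), (11, 0)]]
   ([71], [])),
   ([71, 60], .opn [[4],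
   [3],
   [2]]
   [[(44, 0), (43, 0), (40, 2), (42, 1), (39, 2), (37, 1), (29, 2), (32, 1), (34, 0), (28, 1), (31, 0), (27, 0)]]
   ([68, 66], [4, 3, 1])),
   ([71, 60, 44], .opn [[3]]
   [[(39, 0), (32, 0)]]
   ([55, 65, 67], [0, 2, 3, 1, 0])),
   ([71, 60, 44, 39], .quad [71, 60, 44, 39] 2)]

theorem certE6_ok : packE6.certOK certE6_inv repsE6 = true := by decide +kernel

/-- A chain of nodes for E6. -/
def chainE6 : List (Fin Cfsg.Lie.chevE6.rank) := ([5, 4, 3, 2, 1, 0] : List (Fin 6))

theorem chainE6_all (i : Fin Cfsg.Lie.chevE6.rank) : i ∈ chainE6 := by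
  revert i; decide

theorem chainE6_ok : packE6.chainOK (chainE6.map Fin.val) = true := by decide +kernel

/-- Rank certificate E6, 0: piv. -/
def pivE6_0 : List ℕ := [1, 2, 3, 4, 5, 6, 7, 8, 9, 10, 16, 17, 18, 19, 20, 21, 22, 23, 24, 25, 73, 0]

/-- Rank certificate E6, 0: spn. -/
def spnE6_0 : List (List ℕ) := [[21],
   [0],
   [1],
   [2],
   [3],
   [4],
   [5],
   [6],
   [7],
   [8],
   [9],
   [],
   [],
   [],
   [],
   [],
   [10],
   [11],
   [12],
   [13],
   [14],
   [15],
   [16],
   [17],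
   [18],
   [19],
   [],
   [],
   [],
   [],
   [],
   [],
   [],
   [],
   [],
   [],
   [],
   [],
   [],
   [],
   [],
   [],
   [],
   [],
   [],
   [],
   [],
   [],
   [],
   [],
   [],
   [],
   [],
   [],
   [],
   [],
   [],
   [],
   [],
   [],
   [],
   [],
   [],
   [],
   [],
   [],
   [],
   [],
   [],
   [],
   [],
   [],
   [],
   [20],
   [],
   [],
   [],
   []]

/-- Rank certificate E6, 0: dual. -/
def dualE6_0 : List (List ℕ) := [[46],
   [47],
   [48],
   [49],
   [50],
   [51],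
   [52],
   [53],
   [54],
   [55],
   [61],
   [62],
   [63],
   [64],
   [65],
   [66],
   [67],
   [68],
   [69],
   [70],
   [71, 72],
   [72]]

theorem rankE6_0 : packE6.rankOK (Pack.oneWord [71]) pivE6_0 spnE6_0 dualE6_0 = true := by
  decide +kernel

theorem pivE6_0_length : pivE6_0.length = 22 := by decide +kernel

/-- Rank certificate E6, 1: piv. -/
def pivE6_1 : List ℕ := [4, 7, 9, 10, 12, 13, 14, 15, 16, 17, 19, 21, 22, 26, 28, 29, 30, 33, 35, 37, 40, 48, 72, 77, 0, 1, 2, 6, 8, 11, 3, 5]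

/-- Rank certificate E6, 1: spn. -/
def spnE6_1 : List (List ℕ) := [[24],
   [25],
   [26],
   [30],
   [0],
   [31],
   [27],
   [1],
   [28],
   [2],
   [3],
   [29],
   [4],
   [5],
   [6],
   [7],
   [8],
   [9],
   [],
   [10],
   [],
   [11],
   [12],
   [11],
   [],
   [],
   [13],
   [],
   [14],
   [15],
   [16],
   [14],
   [],
   [17],
   [15],
   [18],
   [],
   [19],
   [],
   [],
   [20],
   [],
   [19],
   [20],
   [],
   [],
   [],
   [],
   [21],
   [],
   [21],
   [],
   [],
   [],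
   [],
   [],
   [],
   [],
   [],
   [],
   [],
   [],
   [],
   [],
   [],
   [],
   [],
   [],
   [],
   [],
   [],
   [],
   [22],
   [],
   [22, 23],
   [],
   [22, 23],
   [23]]

/-- Rank certificate E6, 1: dual. -/
def dualE6_1 : List (List ℕ) := [[36],
   [38],
   [41],
   [45],
   [49],
   [52],
   [54],
   [55],
   [56],
   [57],
   [58],
   [60, 21],
   [59],
   [61],
   [63, 28],
   [65, 29],
   [62],
   [64],
   [67],
   [69, 37],
   [70, 40],
   [71, 48],
   [66, 74],
   [68, 72, 74],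
   [21],
   [28],
   [29],
   [37],
   [40],
   [48],
   [72, 74],
   [74]]

theorem rankE6_1 : packE6.rankOK (Pack.oneWord [68, 66]) pivE6_1 spnE6_1 dualE6_1 = true := by
  decide +kernel

theorem pivE6_1_length : pivE6_1.length = 32 := by decide +kernel

/-- Rank certificate E6, 2: piv. -/
def pivE6_2 : List ℕ := [8, 9, 11, 12, 14, 15, 19, 21, 23, 24, 26, 28, 29, 31, 32, 36, 37, 38, 41, 49, 75, 72, 74, 2, 3, 5, 7, 10, 13, 17, 18, 20, 27, 4, 16, 6, 0, 1]

/-- Rank certificate E6, 2: spn. -/
def spnE6_2 : List (List ℕ) := [[36],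
   [37],
   [23],
   [24],
   [33],
   [25],
   [35],
   [26],
   [0],
   [1],
   [27],
   [2],
   [3],
   [28],
   [4],
   [5],
   [34],
   [29],
   [30],
   [6],
   [31],
   [7],
   [18, 27, 31],
   [8],
   [9],
   [],
   [10],
   [32],
   [11],
   [12],
   [19, 28, 32],
   [13],
   [14],
   [4],
   [5],
   [12],
   [15],
   [16],
   [17],
   [],
   [],
   [18],
   [15],
   [],
   [18],
   [],
   [],
   [],
   [],
   [19],
   [],
   [19],
   [],
   [],
   [],
   [],
   [16],
   [17],
   [18],
   [],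
   [],
   [19],
   [],
   [],
   [],
   [],
   [],
   [],
   [],
   [],
   [],
   [],
   [21],
   [],
   [22],
   [20],
   [21],
   [22]]

/-- Rank certificate E6, 2: dual. -/
def dualE6_2 : List (List ℕ) := [[39],
   [43],
   [47],
   [50],
   [53, 14],
   [54, 15],
   [40],
   [59],
   [45],
   [60],
   [48],
   [62],
   [64, 29],
   [52],
   [63],
   [68, 36],
   [66, 37],
   [69, 38],
   [70, 41],
   [71, 49],
   [65, 55, 67, 73],
   [55, 72, 73],
   [67, 73, 74],
   [14],
   [29],
   [15],
   [36],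
   [44, 10],
   [51, 13],
   [37],
   [38],
   [41, 44],
   [49, 51],
   [73, 74],
   [72, 73],
   [72, 73, 74],
   [10],
   [13]]

theorem rankE6_2 : packE6.rankOK (Pack.oneWord [55, 65, 67]) pivE6_2 spnE6_2 dualE6_2 = true := by
  decide +kernel

theorem pivE6_2_length : pivE6_2.length = 38 := by decide +kernel

/-- The representatives for E7. -/
def repsE7 : List (List ℕ) := [[125],
   [125, 92],
   [125, 92, 63],
   [125, 92, 87],
   [125, 92, 63, 87]]

/-- The tree for E7. -/
def certE7 : List (List ℕ × OrthNode) :=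
  [([], .opn [[6],
   [5],
   [4],
   [3],
   [2],
   [1],
   [0]]
   [[(125, 0), (124, 6), (123, 4), (122, 3), (121, 2), (118, 5), (120, 1), (117, 5), (119, 0), (116, 5), (114, 3), (115, 5), (113, 3), (108, 4), (112, 3), (111, 2), (107, 4), (92, 6), (110, 2), (106, 4), (105, 4), (91, 6), (109, 1), (104, 4), (90, 6), (102, 3), (89, 6), (103, 4), (101, 3), (88, 6), (98, 5), (86, 6), (100, 3), (87, 6), (97, 5), (85, 6), (77, 6), (82, 4), (99, 2), (96, 5), (84, 6), (76, 6), (81, 4), (72, 4), (95, 5), (83, 6), (75, 6), (80, 4), (71, 4), (68, 3), (94, 3), (74, 6), (79, 4), (70, 4), (67, 3), (65, 2), (93, 4), (73, 6), (69, 4), (78, 3), (66, 3), (64, 2), (63, 1), (32, 6), (52, 4), (56, 3), (47, 5), (59, 2), (61, 1), (62, 0), (31, 4), (51, 3), (55, 2), (46, 5), (58, 1), (60, 0), (30, 3), (50, 2), (42, 5), (54, 1), (45, 5), (57, 0), (29, 2), (26, 5), (49, 1), (41, 5), (53, 0), (44, 5), (28, 1), (25, 5), (48, 0), (40, 5), (38, 3), (43, 5), (27, 0), (24, 5), (22, 3), (39, 5), (37, 3), (23, 5), (21, 3),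 (16, 4), (36, 3), (35, 2), (20, 3), (19, 2), (15, 4), (34, 2), (18, 2), (14, 4), (13, 4), (33, 1), (17, 1), (12, 4), (10, 3), (11, 4), (9, 3), (6, 5), (8, 3), (5, 5), (7, 2), (4, 5), (3, 5), (2, 3), (1, 4), (0, 6)]]
   ([], [])),
   ([125], .opn [[6],
   [5],
   [4],
   [3],
   [2],
   [1]]
   [[(92, 0), (91, 1), (90, 0), (89, 2), (88, 2), (86, 3), (87, 1), (85, 3), (82, 4), (77, 5), (84, 3), (81, 4), (76, 5), (72, 5), (83, 2), (80, 4), (75, 5), (71, 5), (68, 3), (79, 4), (74, 5), (70, 5), (67, 3), (65, 2), (78, 3), (69, 5), (73, 3), (66, 3), (64, 2), (63, 1), (47, 5), (56, 3), (52, 4), (59, 2), (61, 1), (62, 0), (46, 3), (55, 2), (51, 4), (58, 1), (60, 0), (45, 2), (42, 4), (54, 1), (50, 4), (57, 0), (44, 1), (41, 4), (53, 0), (49, 4), (43, 0), (40, 4), (38, 3), (48, 4), (39, 4), (37, 3), (36, 3), (35, 2), (34, 2), (33, 1)]]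
   ([125], [])),
   ([125, 92], .opn [[6],
   [4],
   [3],
   [2],
   [1]]
   [[(87, 0), (84, 2), (83, 1), (80, 3), (75, 4), (79, 3), (74, 4), (70, 4), (78, 2), (69, 4), (73, 2), (66, 2), (47, 4), (56, 2), (52, 3), (59, 1), (46, 2), (55, 1), (51, 3), (45, 1), (42, 3), (50, 3), (41, 3), (38, 2)],
    [(63, 0), (62, 0)]]
   ([125, 92], [])),
   ([125, 92, 63], .opn [[4],
   [3],
   [2],
   [1]]
   [[(87, 0), (84, 1), (83, 0), (80, 2), (75, 3), (79, 2), (74, 3), (70, 3), (78, 1), (69, 3), (73, 1), (66, 1), (47, 3), (56, 1), (52, 2), (59, 0), (46, 1), (55, 0), (51, 2), (45, 0), (42, 2), (50, 2), (41, 2), (38, 1)]]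
   ([125, 92, 63], [])),
   ([125, 92, 87], .opn [[6],
   [4],
   [2],
   [1]]
   [[(78, 0), (47, 3)],
    [(73, 0), (52, 2)],
    [(66, 0), (59, 1)],
    [(63, 0), (62, 0)]]
   ([125, 92, 87], [])),
   ([125, 92, 63, 87], .opn [[4],
   [2],
   [1]]
   [[(78, 0), (47, 2)],
    [(73, 0), (52, 1)],
    [(66, 0), (59, 0)]]
   ([125, 92, 63, 87], [])),
   ([125, 92, 87, 63], .opn [[4],
   [2],
   [1]]
   [[(78, 0), (47, 2)],
    [(73, 0), (52, 1)],
    [(66, 0), (59, 0)]]
   ([125, 92, 63, 87], [])),
   ([125, 92, 87, 66], .opn [[6],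
   [2],
   [1]]
   [[(78, 0), (47, 2)],
    [(73, 0), (52, 1)],
    [(63, 0), (62, 0)]]
   ([125, 92, 63, 87], [5, 4, 6, 5])),
   ([125, 92, 87, 73], .quad [125, 92, 87, 73] 2),
   ([125, 92, 87, 78], .opn [[6],
   [4],
   [2]]
   [[(73, 0), (52, 2)],
    [(66, 0), (59, 1)],
    [(63, 0), (62, 0)]]
   ([125, 92, 63, 87], [0, 2, 5, 4, 3, 1, 6, 5, 4, 3, 2, 0])),
   ([125, 92, 63, 87, 66], .quad [92, 63, 87, 66, 125] 36),
   ([125, 92, 63, 87, 73], .quad [125, 92, 87, 73, 63] 2),
   ([125, 92, 63, 87, 78], .quad [125, 63, 87, 78, 92] 9),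
   ([125, 92, 87, 63, 66], .quad [92, 87, 63, 66, 125] 36),
   ([125, 92, 87, 63, 73], .quad [125, 92, 87, 73, 63] 2),
   ([125, 92, 87, 63, 78], .quad [125, 87, 63, 78, 92] 9),
   ([125, 92, 87, 66, 63], .quad [92, 87, 66, 63, 125] 35),
   ([125, 92, 87, 66, 73], .quad [125, 92, 87, 73, 66] 2),
   ([125, 92, 87, 66, 78], .quad [125, 92, 66, 78, 87] 7),
   ([125, 92, 87, 78, 63], .quad [125, 87, 78, 63, 92] 6),
   ([125, 92, 87, 78, 66], .quad [125, 92, 78, 66, 87] 4),
   ([125, 92, 87, 78, 73], .quad [125, 92, 87, 73, 78] 2)]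

theorem certE7_ok : packE7.certOK certE7 repsE7 = true := by decide +kernel

/-- A chain of nodes for E7. -/
def chainE7 : List (Fin Cfsg.Lie.chevE7.rank) := ([6, 5, 4, 3, 2, 1, 0] : List (Fin 7))

theorem chainE7_all (i : Fin Cfsg.Lie.chevE7.rank) : i ∈ chainE7 := by
  revert i; decide

theorem chainE7_ok : packE7.chainOK (chainE7.map Fin.val) = true := by decide +kernel

/-- Rank certificate E7, 0: piv. -/
def pivE7_0 : List ℕ := [1, 2, 3, 4, 5, 6, 7, 8, 9, 10, 11, 12, 13, 14, 15, 16, 17, 18, 19, 20, 21, 22, 23, 24, 25, 26, 27, 28, 29, 30, 31, 32, 126, 0]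

/-- Rank certificate E7, 0: spn. -/
def spnE7_0 : List (List ℕ) := [[33],
   [0],
   [1],
   [2],
   [3],
   [4],
   [5],
   [6],
   [7],
   [8],
   [9],
   [10],
   [11],
   [12],
   [13],
   [14],
   [15],
   [16],
   [17],
   [18],
   [19],
   [20],
   [21],
   [22],
   [23],
   [24],
   [25],
   [26],
   [27],
   [28],
   [29],
   [30],
   [31],
   [],
   [],
   [],
   [],
   [],
   [],
   [],
   [],
   [],
   [],
   [],
   [],
   [],
   [],
   [],
   [],
   [],
   [],
   [],
   [],
   [],
   [],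
   [],
   [],
   [],
   [],
   [],
   [],
   [],
   [],
   [],
   [],
   [],
   [],
   [],
   [],
   [],
   [],
   [],
   [],
   [],
   [],
   [],
   [],
   [],
   [],
   [],
   [],
   [],
   [],
   [],
   [],
   [],
   [],
   [],
   [],
   [],
   [],
   [],
   [],
   [],
   [],
   [],
   [],
   [],
   [],
   [],
   [],
   [],
   [],
   [],
   [],
   [],
   [],
   [],
   [],
   [],
   [],
   [],
   [],
   [],
   [],
   [],
   [],
   [],
   [],
   [],
   [],
   [],
   [],
   [],
   [],
   [],
   [32],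
   [],
   [],
   [],
   [],
   [],
   []]

/-- Rank certificate E7, 0: dual. -/
def dualE7_0 : List (List ℕ) := [[93],
   [94],
   [95],
   [96],
   [97],
   [98],
   [99],
   [100],
   [101],
   [102],
   [103],
   [104],
   [105],
   [106],
   [107],
   [108],
   [109],
   [110],
   [111],
   [112],
   [113],
   [114],
   [115],
   [116],
   [117],
   [118],
   [119],
   [120],
   [121],
   [122],
   [123],
   [124],
   [125, 128],
   [128]]

theorem rankE7_0 : packE7.rankOK (Pack.oneWord [125]) pivE7_0 spnE7_0 dualE7_0 = true := by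
  decide +kernel

theorem pivE7_0_length : pivE7_0.length = 34 := by decide +kernel

/-- Rank certificate E7, 1: piv. -/
def pivE7_1 : List ℕ := [5, 6, 9, 10, 12, 13, 14, 15, 16, 18, 19, 20, 21, 22, 23, 24, 25, 26, 27, 28, 29, 30, 31, 32, 34, 35, 36, 37, 39, 40, 43, 44, 48, 49, 53, 54, 57, 58, 60, 61, 131, 126, 1, 2, 3, 4, 7, 8, 11, 17, 0, 33]

/-- Rank certificate E7, 1: spn. -/
def spnE7_1 : List (List ℕ) := [[50],
   [42],
   [43],
   [44],
   [45],
   [0],
   [1],
   [46],
   [47],
   [2],
   [3],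
   [48],
   [4],
   [5],
   [6],
   [7],
   [8],
   [49],
   [9],
   [10],
   [11],
   [12],
   [13],
   [14],
   [15],
   [16],
   [17],
   [18],
   [19],
   [20],
   [21],
   [22],
   [23],
   [51],
   [24],
   [25],
   [26],
   [27],
   [],
   [28],
   [29],
   [],
   [],
   [30],
   [31],
   [],
   [],
   [],
   [32],
   [33],
   [],
   [],
   [],
   [34],
   [35],
   [],
   [],
   [36],
   [37],
   [],
   [38],
   [39],
   [],
   [],
   [],
   [],
   [],
   [],
   [],
   [],
   [],
   [],
   [],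
   [],
   [],
   [],
   [],
   [],
   [],
   [],
   [],
   [],
   [],
   [],
   [],
   [],
   [],
   [],
   [],
   [],
   [],
   [],
   [],
   [8],
   [13],
   [16],
   [17],
   [],
   [],
   [20],
   [21],
   [],
   [],
   [22],
   [],
   [],
   [],
   [],
   [],
   [23],
   [],
   [],
   [],
   [],
   [],
   [],
   [],
   [],
   [],
   [],
   [],
   [],
   [],
   [],
   [],
   [],
   [41],
   [],
   [],
   [],
   [],
   [40],
   []]

/-- Rank certificate E7, 1: dual. -/
def dualE7_1 : List (List ℕ) := [[97],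
   [98],
   [101],
   [102],
   [104],
   [105],
   [106],
   [107],
   [108, 16],
   [110],
   [111],
   [112],
   [113],
   [114, 22],
   [115],
   [116],
   [117, 25],
   [118, 26],
   [119],
   [120],
   [121, 29],
   [122, 30],
   [123, 31],
   [124, 32],
   [64],
   [65],
   [67],
   [68],
   [71],
   [72],
   [76],
   [77],
   [81],
   [82],
   [85],
   [86],
   [88],
   [89],
   [90],
   [91],
   [92, 125, 128],
   [125, 128, 127],
   [16],
   [22],
   [25],
   [26],
   [29],
   [30],
   [31],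
   [32],
   [128, 127],
   [127]]

theorem rankE7_1 : packE7.rankOK (Pack.oneWord [125, 92]) pivE7_1 spnE7_1 dualE7_1 = true := by
  decide +kernel

theorem pivE7_1_length : pivE7_1.length = 52 := by decide +kernel

/-- Rank certificate E7, 2: piv. -/
def pivE7_2 : List ℕ := [6, 10, 13, 15, 16, 19, 21, 22, 24, 25, 26, 28, 29, 30, 31, 32, 35, 37, 40, 44, 49, 54, 58, 61, 62, 126, 131, 1, 2, 3, 4, 5, 7, 8, 9, 11, 12, 14, 17, 18, 20, 23, 27, 34, 36, 39, 43, 48, 53, 57, 60, 0, 33]

/-- Rank certificate E7, 2: spn. -/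
def spnE7_2 : List (List ℕ) := [[51],
   [27],
   [28],
   [29],
   [30],
   [31],
   [0],
   [32],
   [33],
   [34],
   [1],
   [35],
   [36],
   [2],
   [37],
   [3],
   [4],
   [38],
   [39],
   [5],
   [40],
   [6],
   [7],
   [41],
   [8],
   [9],
   [10],
   [42],
   [11],
   [12],
   [13],
   [14],
   [15],
   [52],
   [43],
   [16],
   [44],
   [17],
   [],
   [45],
   [18],
   [],
   [],
   [46],
   [19],
   [],
   [],
   [],
   [47],
   [20],
   [],
   [],
   [],
   [48],
   [21],
   [],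
   [],
   [49],
   [22],
   [],
   [50],
   [23],
   [24],
   [],
   [16],
   [],
   [],
   [17],
   [],
   [],
   [],
   [18],
   [],
   [],
   [],
   [],
   [19],
   [],
   [],
   [],
   [],
   [20],
   [],
   [],
   [],
   [21],
   [],
   [],
   [22],
   [],
   [23],
   [],
   [],
   [4],
   [7],
   [9],
   [10],
   [0],
   [],
   [12],
   [13],
   [1],
   [],
   [14],
   [2],
   [],
   [3],
   [],
   [],
   [15],
   [5],
   [],
   [6],
   [],
   [],
   [8],
   [],
   [],
   [],
   [11],
   [],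
   [],
   [],
   [],
   [],
   [],
   [25],
   [],
   [],
   [],
   [],
   [26],
   []]

/-- Rank certificate E7, 2: dual. -/
def dualE7_2 : List (List ℕ) := [[98, 6],
   [102, 10],
   [105, 13],
   [107, 15],
   [108, 16],
   [111, 19],
   [113, 21],
   [114, 22],
   [116, 24],
   [117, 25],
   [118, 26],
   [120, 28],
   [121, 29],
   [122, 30],
   [123, 31],
   [124, 32],
   [65, 35],
   [68, 37],
   [72, 40],
   [77, 44],
   [82, 49],
   [86, 54],
   [89, 58],
   [91, 61],
   [63, 92, 125, 128],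
   [125, 128, 127],
   [92, 125, 128],
   [16],
   [22],
   [25],
   [26],
   [6],
   [29],
   [30],
   [10],
   [31],
   [13],
   [15],
   [32],
   [19],
   [21],
   [24],
   [28],
   [35],
   [37],
   [40],
   [44],
   [49],
   [54],
   [58],
   [61],
   [128, 127],
   [127]]

theorem rankE7_2 : packE7.rankOK (Pack.oneWord [125, 92, 63]) pivE7_2 spnE7_2 dualE7_2 = true := by
  decide +kernel

theorem pivE7_2_length : pivE7_2.length = 53 := by decide +kernel

/-- Rank certificate E7, 3: piv. -/
def pivE7_3 : List ℕ := [12, 13, 14, 15, 18, 19, 20, 21, 23, 24, 25, 26, 27, 28, 29, 30, 31, 32, 39, 40, 41, 42, 43, 44, 45, 46, 48, 49, 50, 51, 53, 54, 55, 56, 57, 58, 60, 61, 129, 131, 3, 4, 5, 6, 7, 8, 9, 10, 11, 16, 17, 22, 34, 35, 36, 37, 126, 0, 33, 38, 1, 2]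

/-- Rank certificate E7, 3: spn. -/
def spnE7_3 : List (List ℕ) := [[57],
   [60],
   [61],
   [40],
   [41],
   [42],
   [43],
   [44],
   [45],
   [46],
   [47],
   [48],
   [0],
   [1],
   [2],
   [3],
   [49],
   [50],
   [4],
   [5],
   [6],
   [7],
   [51],
   [8],
   [9],
   [10],
   [11],
   [12],
   [13],
   [14],
   [15],
   [16],
   [17],
   [58],
   [52],
   [53],
   [54],
   [55],
   [59],
   [18],
   [19],
   [20],
   [21],
   [22],
   [23],
   [24],
   [25],
   [],
   [26],
   [27],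
   [28],
   [29],
   [],
   [30],
   [31],
   [32],
   [33],
   [34],
   [35],
   [],
   [36],
   [37],
   [],
   [],
   [34],
   [35],
   [],
   [36],
   [37],
   [],
   [],
   [],
   [],
   [],
   [],
   [],
   [],
   [],
   [],
   [],
   [],
   [],
   [],
   [],
   [],
   [],
   [],
   [],
   [],
   [],
   [],
   [],
   [],
   [16, 48, 49],
   [17, 50, 51],
   [10],
   [11],
   [8],
   [9],
   [14],
   [15],
   [12],
   [13],
   [16],
   [],
   [],
   [],
   [],
   [16],
   [17],
   [],
   [],
   [],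
   [],
   [17],
   [],
   [],
   [],
   [],
   [],
   [],
   [],
   [],
   [],
   [],
   [],
   [56],
   [],
   [],
   [38],
   [],
   [39],
   []]

/-- Rank certificate E7, 3: dual. -/
def dualE7_3 : List (List ℕ) := [[104],
   [105],
   [106],
   [107],
   [110],
   [111],
   [112],
   [113],
   [115, 23],
   [116, 24],
   [117, 25],
   [118, 26],
   [119, 27],
   [120, 28],
   [121, 29],
   [122, 30],
   [123, 31],
   [124, 32],
   [71],
   [72],
   [69],
   [70],
   [76],
   [77],
   [74],
   [75],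
   [81],
   [82],
   [79],
   [80],
   [85],
   [86],
   [83],
   [84],
   [88, 57],
   [89, 58],
   [90, 60],
   [91, 61],
   [87, 92, 127],
   [92, 125, 127, 130],
   [25],
   [26],
   [23],
   [24],
   [29],
   [30],
   [27],
   [28],
   [103, 11],
   [31, 103],
   [109, 17],
   [32, 109],
   [57],
   [58],
   [60],
   [61],
   [125, 128, 127],
   [128, 127],
   [128, 130],
   [128, 127, 130],
   [11],
   [17]]

theorem rankE7_3 : packE7.rankOK (Pack.oneWord [125, 92, 87]) pivE7_3 spnE7_3 dualE7_3 = true := by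
  decide +kernel

theorem pivE7_3_length : pivE7_3.length = 62 := by decide +kernel

/-- Rank certificate E7, 4: piv. -/
def pivE7_4 : List ℕ := [13, 15, 19, 21, 24, 25, 26, 28, 29, 30, 31, 32, 40, 41, 42, 44, 45, 46, 49, 50, 51, 54, 55, 56, 58, 61, 129, 62, 3, 4, 6, 7, 8, 10, 11, 12, 14, 16, 17, 18, 20, 22, 23, 27, 35, 37, 39, 43, 48, 53, 57, 60, 126, 131, 0, 33, 38, 1, 2, 5, 9, 34, 36]

/-- Rank certificate E7, 4: spn. -/
def spnE7_4 : List (List ℕ) := [[54],
   [57],
   [58],
   [28],
   [29],
   [59],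
   [30],
   [31],
   [32],
   [60],
   [33],
   [34],
   [35],
   [0],
   [36],
   [1],
   [37],
   [38],
   [39],
   [2],
   [40],
   [3],
   [41],
   [42],
   [4],
   [5],
   [6],
   [43],
   [7],
   [8],
   [9],
   [10],
   [11],
   [55],
   [61],
   [44],
   [62],
   [45],
   [56],
   [46],
   [12],
   [13],
   [14],
   [47],
   [15],
   [16],
   [17],
   [],
   [48],
   [18],
   [19],
   [20],
   [],
   [49],
   [21],
   [22],
   [23],
   [50],
   [24],
   [],
   [51],
   [25],
   [27],
   [],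
   [24, 44, 50],
   [24],
   [],
   [25, 45, 51],
   [25],
   [],
   [],
   [12],
   [],
   [],
   [],
   [],
   [15],
   [],
   [],
   [],
   [],
   [18],
   [],
   [],
   [],
   [21],
   [],
   [],
   [24],
   [],
   [25],
   [],
   [],
   [10, 34, 37],
   [11, 38, 41],
   [5],
   [6],
   [4, 30, 42],
   [4],
   [8],
   [9],
   [7, 33, 43],
   [7],
   [10],
   [0],
   [],
   [1],
   [],
   [10],
   [11],
   [2],
   [],
   [3],
   [],
   [11],
   [4],
   [],
   [],
   [],
   [7],
   [],
   [],
   [],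
   [],
   [],
   [],
   [52],
   [],
   [],
   [26],
   [],
   [53],
   []]

/-- Rank certificate E7, 4: dual. -/
def dualE7_4 : List (List ℕ) := [[105, 13],
   [107, 15],
   [111, 19],
   [113, 21],
   [116, 24],
   [117, 25],
   [118, 26],
   [120, 28],
   [121, 29],
   [122, 30],
   [123, 31],
   [124, 32],
   [72, 40],
   [69],
   [70],
   [77, 44],
   [74],
   [75],
   [82, 49],
   [79],
   [80],
   [86, 54],
   [83],
   [84],
   [89, 58],
   [91, 61],
   [87, 92, 127],
   [63, 92, 125, 127, 130],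
   [25],
   [26],
   [98, 6],
   [29],
   [30],
   [102, 10],
   [103, 11],
   [13],
   [15],
   [31, 103],
   [109, 17],
   [19],
   [21],
   [32, 109],
   [24, 98],
   [28, 102],
   [65, 35],
   [68, 37],
   [40],
   [44],
   [49],
   [54],
   [58, 65],
   [61, 68],
   [125, 128, 127],
   [92, 125, 127, 130],
   [128, 127],
   [128, 130],
   [128, 127, 130],
   [11],
   [17],
   [6],
   [10],
   [35],
   [37]]

theorem rankE7_4 : packE7.rankOK (Pack.oneWord [125, 92, 63, 87]) pivE7_4 spnE7_4 dualE7_4 = true := by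
  decide +kernel

theorem pivE7_4_length : pivE7_4.length = 63 := by decide +kernel

/-- The representatives for E8. -/
def repsE8 : List (List ℕ) := [[239],
   [232, 233],
   [228, 222, 218],
   [226, 220, 213, 216]]

/-- The tree for E8. -/
def certE8 : List (List ℕ × OrthNode) :=
  [([], .opn [[7],
   [6],
   [5],
   [4],
   [3],
   [2],
   [1],
   [0]]
   [[(239, 0), (238, 0), (237, 1), (236, 2), (235, 3), (234, 4), (233, 5), (232, 6), (231, 6), (225, 7), (230, 4), (224, 7), (229, 3), (223, 7), (228, 2), (222, 7), (218, 5), (227, 1), (221, 7), (217, 5), (226, 0), (220, 7), (216, 5), (213, 4), (219, 7), (215, 5), (212, 4), (203, 6), (214, 5), (211, 4), (209, 3), (202, 6), (210, 4), (208, 3), (201, 6), (199, 6), (207, 3), (200, 6), (206, 2), (198, 6), (193, 4), (205, 2), (197, 6), (196, 6), (192, 4), (183, 5), (204, 1), (195, 6), (191, 4), (190, 4), (182, 5), (161, 7), (194, 6), (189, 4), (181, 5), (187, 3), (180, 5), (160, 7), (188, 4), (186, 3), (179, 5), (159, 7), (177, 5), (158, 7), (185,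 3), (178, 5), (176, 5), (157, 7), (173, 4), (155, 7), (184, 2), (175, 5), (156, 7), (172, 4), (154, 7), (168, 6), (151, 7), (174, 5), (171, 4), (153, 7), (167, 6), (150, 7), (140, 7), (146, 5), (170, 4), (152, 7), (166, 6), (149, 7), (139, 7), (145, 5), (134, 5), (169, 3), (165, 6), (148, 7), (138, 7), (144, 5), (133, 5), (129, 4), (164, 6), (147, 7), (137, 7), (143, 5), (132, 5), (128, 4), (125, 3), (163, 4), (136, 7), (142, 5), (131, 5), (127, 4), (124, 3), (122, 2), (162, 5), (135, 7), (130, 5), (141, 4), (126, 4), (123, 3), (121, 2), (120, 1), (77, 7), (104, 5), (109, 4), (98, 6), (113, 3), (116, 2), (118, 1), (119, 0), (76, 5), (103, 4), (108, 3), (97, 6), (112, 2), (115, 1), (117, 0), (75, 4), (102, 3), (92, 6), (107, 2), (96, 6), (111, 1), (114, 0), (74, 3), (70, 6), (101, 2), (91, 6), (106, 1), (95, 6), (110, 0), (73, 2), (69, 6), (100, 1), (90, 6), (87, 4), (105, 0), (94, 6), (72, 1), (68, 6), (65, 4), (99, 0), (89, 6), (86, 4), (93, 6), (71, 0), (67, 6), (64, 4), (55, 5), (88, 6),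 (85, 4), (83, 3), (66, 6), (63, 4), (61, 3), (54, 5), (84, 4), (82, 3), (62, 4), (60, 3), (53, 5), (51, 5), (81, 3), (80, 2), (59, 3), (52, 5), (58, 2), (50, 5), (45, 4), (79, 2), (57, 2), (49, 5), (48, 5), (44, 4), (35, 6), (78, 1), (56, 1), (47, 5), (43, 4), (42, 4), (34, 6), (46, 5), (41, 4), (33, 6), (39, 3), (32, 6), (40, 4), (38, 3), (31, 6), (29, 6), (37, 3), (30, 6), (28, 6), (25, 4), (36, 2), (27, 6), (24, 4), (20, 5), (26, 6), (23, 4), (19, 5), (13, 7), (22, 4), (18, 5), (12, 7), (21, 3), (17, 5), (11, 7), (16, 5), (10, 7), (15, 4), (9, 7), (14, 6), (8, 7), (6, 7), (7, 5), (5, 5), (4, 4), (3, 3), (2, 2), (1, 1), (0, 0)]]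
   ([], [])),
   ([239], .opn [[6],
   [5],
   [4],
   [3],
   [2],
   [1],
   [0]]
   [[(226, 0), (219, 6), (214, 4), (210, 3), (207, 2), (200, 5), (205, 1), (197, 5), (204, 0), (195, 5), (191, 3), (194, 5), (189, 3), (181, 4), (188, 3), (186, 2), (179, 4), (159, 6), (185, 2), (178, 4), (176, 4), (157, 6), (184, 1), (175, 4), (156, 6), (172, 3), (154, 6), (174, 4), (171, 3), (153, 6), (167, 5), (150, 6), (170, 3), (152, 6), (166, 5), (149, 6), (139, 6), (145, 4), (169, 2), (165, 5), (148, 6), (138, 6), (144, 4), (133, 4), (164, 5), (147, 6), (137, 6), (143, 4), (132, 4), (128, 3), (163, 3), (136, 6), (142, 4), (131, 4), (127, 3), (124, 2), (162, 4), (135, 6), (130, 4), (141, 3), (126, 3), (123, 2), (121, 1), (77, 6), (104, 4), (109, 3), (98, 5), (113, 2), (116, 1), (118, 0), (76, 4), (103, 3), (108, 2), (97, 5), (112, 1), (115, 0), (75, 3), (102, 2), (92, 5), (107, 1), (96, 5), (111, 0), (74, 2), (70, 5), (101, 1), (91, 5), (106, 0), (95, 5), (73, 1), (69, 5), (100, 0), (90, 5), (87, 3), (94,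 5), (72, 0), (68, 5), (65, 3), (89, 5), (86, 3), (67, 5), (64, 3), (55, 4), (85, 3), (83, 2), (63, 3), (61, 2), (54, 4), (82, 2), (60, 2), (53, 4), (51, 4), (80, 1), (58, 1), (50, 4), (45, 3), (48, 4), (44, 3), (35, 5), (42, 3), (34, 5), (39, 2), (32, 5), (29, 5), (25, 3), (20, 4), (13, 6)]]
   ([239], [])),
   ([239, 226], .opn [[6],
   [5],
   [4],
   [3],
   [2],
   [1]]
   [[(159, 0), (157, 1), (156, 0), (154, 2), (153, 2), (150, 3), (152, 1), (149, 3), (145, 4), (139, 5), (148, 3), (144, 4), (138, 5), (133, 5), (147, 2), (143, 4), (137, 5), (132, 5), (128, 3), (142, 4), (136, 5), (131, 5), (127, 3), (124, 2), (141, 3), (130, 5), (135, 3), (126, 3), (123, 2), (121, 1), (98, 5), (109, 3), (104, 4), (113, 2), (116, 1), (118, 0), (97, 3), (108, 2), (103, 4), (112, 1), (115, 0), (96, 2), (92, 4), (107, 1), (102, 4), (111, 0), (95, 1), (91, 4), (106, 0), (101, 4), (94, 0), (90, 4), (87, 3), (100, 4), (89, 4), (86, 3), (85, 3), (83, 2), (82, 2), (80, 1)]]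
   ([232, 233], [1, 3, 4, 5, 6, 7])),
   ([239, 226, 159], .opn [[6],
   [4],
   [3],
   [2],
   [1]]
   [[(152, 0), (148, 2), (147, 1), (143, 3), (137, 4), (142, 3), (136, 4), (131, 4), (141, 2), (130, 4), (135, 2), (126, 2), (98, 4), (109, 2), (104, 3), (113, 1), (97, 2), (108, 1), (103, 3), (96, 1), (92, 3), (102, 3), (91, 3), (87, 2)],
    [(121, 0), (118, 0)]]
   ([228, 222, 218], [5, 4, 3, 1, 2, 3, 4, 5, 6, 7, 4, 3, 2, 0])),
   ([239, 226, 159, 121], .quad [239, 226, 159, 121] 2),
   ([239, 226, 159, 152], .opn [[6],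
   [4],
   [2],
   [1]]
   [[(141, 0), (98, 3)],
    [(135, 0), (104, 2)],
    [(126, 0), (113, 1)],
    [(121, 0), (118, 0)]]
   ([226, 220, 213, 216], [7, 6, 5, 4, 3, 1, 2, 3, 4, 5, 6, 7, 6, 5, 4, 3, 2, 0, 4, 5])),
   ([239, 226, 159, 152, 121], .quad [239, 226, 159, 121, 152] 2),
   ([239, 226, 159, 152, 126], .quad [239, 226, 152, 126, 159] 4),
   ([239, 226, 159, 152, 135], .quad [226, 159, 152, 135, 239] 25),
   ([239, 226, 159, 152, 141], .quad [239, 159, 152, 141, 226] 15)]

theorem certE8_ok : packE8.certOK certE8 repsE8 = true := by decide +kernel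

/-- A chain of nodes for E8. -/
def chainE8 : List (Fin Cfsg.Lie.chevE8.rank) := ([7, 6, 5, 4, 3, 2, 1, 0] : List (Fin 8))

theorem chainE8_all (i : Fin Cfsg.Lie.chevE8.rank) : i ∈ chainE8 := by
  revert i; decide

theorem chainE8_ok : packE8.chainOK (chainE8.map Fin.val) = true := by decide +kernel

/-- Rank certificate E8, 0: piv. -/
def pivE8_0 : List ℕ := [1, 2, 3, 4, 5, 6, 7, 8, 9, 10, 11, 12, 14, 15, 16, 17, 18, 19, 21, 22, 23, 24, 26, 27, 28, 30, 31, 33, 36, 37, 38, 40, 41, 43, 46, 47, 49, 52, 56, 57, 59, 62, 66, 71, 78, 79, 81, 84, 88, 93, 99, 105, 110, 114, 117, 119, 247, 0]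

/-- Rank certificate E8, 0: spn. -/
def spnE8_0 : List (List ℕ) := [[57],
   [0],
   [1],
   [2],
   [3],
   [4],
   [5],
   [6],
   [7],
   [8],
   [9],
   [10],
   [11],
   [],
   [12],
   [13],
   [14],
   [15],
   [16],
   [17],
   [],
   [18],
   [19],
   [20],
   [21],
   [],
   [22],
   [23],
   [24],
   [],
   [25],
   [26],
   [],
   [27],
   [],
   [],
   [28],
   [29],
   [30],
   [],
   [31],
   [32],
   [],
   [33],
   [],
   [],
   [34],
   [35],
   [],
   [36],
   [],
   [],
   [37],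
   [],
   [],
   [],
   [38],
   [39],
   [],
   [40],
   [],
   [],
   [41],
   [],
   [],
   [],
   [42],
   [],
   [],
   [],
   [],
   [43],
   [],
   [],
   [],
   [],
   [],
   [],
   [44],
   [45],
   [],
   [46],
   [],
   [],
   [47],
   [],
   [],
   [],
   [48],
   [],
   [],
   [],
   [],
   [49],
   [],
   [],
   [],
   [],
   [],
   [50],
   [],
   [],
   [],
   [],
   [],
   [51],
   [],
   [],
   [],
   [],
   [52],
   [],
   [],
   [],
   [53],
   [],
   [],
   [54],
   [],
   [55],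
   [],
   [],
   [],
   [],
   [],
   [],
   [],
   [],
   [],
   [],
   [],
   [],
   [],
   [],
   [],
   [],
   [],
   [],
   [],
   [],
   [],
   [],
   [],
   [],
   [],
   [],
   [],
   [],
   [],
   [],
   [],
   [],
   [],
   [],
   [],
   [],
   [],
   [],
   [],
   [],
   [],
   [],
   [],
   [],
   [],
   [],
   [],
   [],
   [],
   [],
   [],
   [],
   [],
   [],
   [],
   [],
   [],
   [],
   [],
   [],
   [],
   [],
   [],
   [],
   [],
   [],
   [],
   [],
   [],
   [],
   [],
   [],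
   [],
   [],
   [],
   [],
   [],
   [],
   [],
   [],
   [],
   [],
   [],
   [],
   [],
   [],
   [],
   [],
   [],
   [],
   [],
   [],
   [],
   [],
   [],
   [],
   [],
   [],
   [],
   [],
   [],
   [],
   [],
   [],
   [],
   [],
   [],
   [],
   [],
   [],
   [],
   [],
   [],
   [],
   [],
   [],
   [],
   [],
   [],
   [],
   [],
   [],
   [],
   [],
   [],
   [],
   [],
   [56]]

/-- Rank certificate E8, 0: dual. -/
def dualE8_0 : List (List ℕ) := [[120],
   [122],
   [125],
   [129],
   [134],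
   [140],
   [146],
   [151],
   [155],
   [158],
   [160],
   [161],
   [168],
   [173],
   [177],
   [180],
   [182],
   [183],
   [187],
   [190],
   [192],
   [193],
   [196],
   [198],
   [199],
   [201],
   [202],
   [203],
   [206],
   [208],
   [209],
   [211],
   [212],
   [213],
   [215],
   [216],
   [217],
   [218],
   [220],
   [221],
   [222],
   [223],
   [224],
   [225],
   [227],
   [228],
   [229],
   [230],
   [231],
   [232],
   [233],
   [234],
   [235],
   [236],
   [237],
   [238],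
   [239, 241],
   [241]]

theorem rankE8_0 : packE8.rankOK (Pack.oneWord [239]) pivE8_0 spnE8_0 dualE8_0 = true := by
  decide +kernel

theorem pivE8_0_length : pivE8_0.length = 58 := by decide +kernel

/-- Rank certificate E8, 1: piv. -/
def pivE8_1 : List ℕ := [14, 15, 16, 17, 18, 19, 20, 21, 22, 23, 24, 25, 26, 27, 28, 29, 30, 31, 32, 33, 34, 35, 36, 37, 38, 39, 40, 41, 42, 43, 44, 45, 46, 47, 48, 49, 50, 51, 52, 53, 54, 55, 56, 57, 58, 59, 60, 61, 62, 63, 64, 65, 66, 67, 68, 69, 70, 71, 72, 73, 74, 75, 76, 77, 93, 94, 95, 96, 97, 98, 135, 136, 137, 138, 139, 140, 240, 241, 0, 1, 2, 3, 4, 5, 8, 9, 10, 11, 12, 13, 7, 6]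

/-- Rank certificate E8, 1: spn. -/
def spnE8_1 : List (List ℕ) := [[78],
   [79],
   [80],
   [81],
   [82],
   [83],
   [91],
   [90],
   [84],
   [85],
   [86],
   [87],
   [88],
   [89],
   [0],
   [1],
   [2],
   [3],
   [4],
   [5],
   [6],
   [7],
   [8],
   [9],
   [10],
   [11],
   [12],
   [13],
   [14],
   [15],
   [16],
   [17],
   [18],
   [19],
   [20],
   [21],
   [22],
   [23],
   [24],
   [25],
   [26],
   [27],
   [28],
   [29],
   [30],
   [31],
   [32],
   [33],
   [34],
   [35],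
   [36],
   [37],
   [38],
   [39],
   [40],
   [41],
   [42],
   [43],
   [44],
   [45],
   [46],
   [47],
   [48],
   [49],
   [50],
   [51],
   [52],
   [53],
   [54],
   [55],
   [56],
   [57],
   [58],
   [59],
   [60],
   [61],
   [62],
   [63],
   [],
   [],
   [],
   [],
   [],
   [],
   [],
   [],
   [],
   [],
   [],
   [],
   [],
   [],
   [],
   [64],
   [65],
   [66],
   [67],
   [68],
   [69],
   [64],
   [65],
   [66],
   [67],
   [68],
   [69],
   [],
   [],
   [],
   [],
   [],
   [],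
   [],
   [],
   [],
   [],
   [],
   [],
   [],
   [],
   [],
   [],
   [],
   [],
   [],
   [],
   [],
   [],
   [],
   [],
   [],
   [],
   [],
   [],
   [],
   [],
   [70],
   [71],
   [72],
   [73],
   [74],
   [75],
   [70],
   [71],
   [72],
   [73],
   [74],
   [75],
   [],
   [],
   [],
   [],
   [],
   [],
   [],
   [],
   [],
   [],
   [],
   [],
   [],
   [],
   [],
   [],
   [],
   [],
   [],
   [],
   [],
   [],
   [],
   [],
   [],
   [],
   [],
   [],
   [],
   [],
   [],
   [],
   [],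
   [],
   [],
   [],
   [],
   [],
   [],
   [],
   [],
   [],
   [],
   [],
   [],
   [],
   [],
   [],
   [],
   [],
   [],
   [],
   [],
   [],
   [],
   [],
   [],
   [],
   [],
   [],
   [],
   [],
   [],
   [],
   [],
   [],
   [],
   [],
   [],
   [],
   [],
   [],
   [],
   [],
   [],
   [],
   [],
   [],
   [],
   [],
   [],
   [],
   [],
   [],
   [],
   [],
   [],
   [],
   [],
   [],
   [],
   [],
   [],
   [76],
   [77],
   [77],
   [],
   [],
   [],
   [],
   []]

/-- Rank certificate E8, 1: dual. -/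
def dualE8_1 : List (List ℕ) := [[162],
   [163],
   [164],
   [165],
   [166],
   [167],
   [168],
   [169],
   [170],
   [171],
   [172],
   [173],
   [174],
   [175],
   [176],
   [177],
   [178],
   [179],
   [180],
   [181],
   [182],
   [183],
   [184],
   [185],
   [186],
   [187],
   [188],
   [189],
   [190],
   [191],
   [192],
   [193],
   [194],
   [195],
   [196],
   [197],
   [198],
   [199],
   [200],
   [201],
   [202],
   [203],
   [204],
   [205],
   [206],
   [207],
   [208],
   [209],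
   [210],
   [211],
   [212],
   [213],
   [214],
   [215],
   [216],
   [217],
   [218],
   [219],
   [220],
   [221],
   [222],
   [223],
   [224],
   [225],
   [226, 93],
   [227, 94],
   [228, 95],
   [229, 96],
   [230, 97],
   [231, 98],
   [234, 135],
   [235, 136],
   [236, 137],
   [237, 138],
   [238, 139],
   [239, 140],
   [233, 232, 243],
   [232, 243, 241],
   [93],
   [94],
   [95],
   [96],
   [97],
   [98],
   [135],
   [136],
   [137],
   [138],
   [139],
   [140],
   [243, 241],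
   [241]]

theorem rankE8_1 : packE8.rankOK (Pack.oneWord [232, 233]) pivE8_1 spnE8_1 dualE8_1 = true := by
  decide +kernel

theorem pivE8_1_length : pivE8_1.length = 92 := by decide +kernel

/-- Rank certificate E8, 2: piv. -/
def pivE8_2 : List ℕ := [12, 13, 19, 20, 24, 25, 28, 29, 31, 32, 33, 34, 38, 39, 41, 42, 43, 44, 47, 48, 49, 50, 54, 55, 57, 58, 62, 63, 65, 66, 67, 69, 70, 71, 72, 74, 75, 76, 77, 81, 82, 84, 85, 88, 89, 92, 93, 94, 99, 100, 103, 104, 105, 106, 110, 111, 114, 115, 117, 118, 123, 126, 127, 131, 132, 138, 143, 144, 149, 153, 156, 159, 160, 178, 246, 240, 242, 2, 3, 4, 5, 6, 7, 8, 9, 10, 14, 15, 16, 18, 22, 23, 26, 27, 30, 36, 37, 40, 46, 52, 53, 56, 59, 60, 78, 11, 21, 17, 0, 1]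

/-- Rank certificate E8, 2: spn. -/
def spnE8_2 : List (List ℕ) := [[108],
   [109],
   [77],
   [78],
   [79],
   [80],
   [81],
   [82],
   [83],
   [84],
   [85],
   [105],
   [0],
   [1],
   [86],
   [87],
   [88],
   [107],
   [89],
   [2],
   [3],
   [106],
   [90],
   [91],
   [4],
   [5],
   [92],
   [93],
   [6],
   [7],
   [94],
   [8],
   [9],
   [10],
   [11],
   [],
   [95],
   [96],
   [12],
   [13],
   [97],
   [14],
   [15],
   [16],
   [17],
   [],
   [98],
   [18],
   [19],
   [20],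
   [21],
   [],
   [99],
   [100],
   [22],
   [23],
   [101],
   [24],
   [25],
   [102],
   [103],
   [22],
   [26],
   [27],
   [],
   [28],
   [29],
   [30],
   [],
   [31],
   [32],
   [33],
   [34],
   [],
   [35],
   [36],
   [37],
   [38],
   [104],
   [71, 99, 102],
   [72, 100, 103],
   [39],
   [40],
   [23],
   [41],
   [42],
   [28],
   [],
   [43],
   [44],
   [31],
   [],
   [45],
   [46],
   [47],
   [32],
   [45],
   [],
   [],
   [48],
   [49],
   [35],
   [],
   [50],
   [51],
   [52],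
   [53],
   [36],
   [50],
   [],
   [54],
   [55],
   [37],
   [51],
   [56],
   [57],
   [38],
   [58],
   [59],
   [],
   [],
   [],
   [],
   [60],
   [],
   [],
   [61],
   [62],
   [],
   [],
   [],
   [63],
   [64],
   [],
   [],
   [61],
   [63],
   [],
   [65],
   [],
   [],
   [],
   [],
   [66],
   [67],
   [],
   [],
   [66],
   [],
   [68],
   [],
   [],
   [],
   [69],
   [],
   [],
   [70],
   [],
   [],
   [71],
   [72],
   [],
   [60],
   [62],
   [64],
   [65],
   [],
   [],
   [],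
   [67],
   [68],
   [],
   [],
   [],
   [69],
   [],
   [],
   [],
   [73],
   [71],
   [72],
   [],
   [],
   [],
   [70],
   [73],
   [71],
   [72],
   [],
   [],
   [],
   [],
   [],
   [],
   [],
   [],
   [],
   [],
   [],
   [],
   [],
   [],
   [],
   [],
   [],
   [],
   [],
   [],
   [],
   [],
   [],
   [],
   [],
   [],
   [],
   [],
   [],
   [],
   [],
   [],
   [],
   [],
   [],
   [],
   [],
   [],
   [],
   [],
   [],
   [],
   [],
   [],
   [],
   [],
   [],
   [],
   [],
   [],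
   [],
   [],
   [75],
   [],
   [76],
   [],
   [76],
   [75],
   [74],
   []]

/-- Rank certificate E8, 2: dual. -/
def dualE8_2 : List (List ℕ) := [[121],
   [122],
   [124],
   [125],
   [128],
   [129],
   [133],
   [134],
   [139],
   [140],
   [167],
   [168],
   [145],
   [146],
   [150],
   [151],
   [172],
   [173],
   [154],
   [155],
   [176],
   [177],
   [161, 54],
   [183, 55],
   [157],
   [158],
   [189],
   [190],
   [193, 65],
   [195],
   [196],
   [199, 69],
   [202, 70],
   [205],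
   [206],
   [209, 74],
   [212, 75],
   [216, 76],
   [221, 77],
   [181],
   [182],
   [191],
   [192],
   [197],
   [198],
   [203, 92],
   [200],
   [201],
   [207],
   [208],
   [213, 103],
   [217, 104],
   [210],
   [211],
   [214],
   [215],
   [219],
   [220],
   [226],
   [227],
   [229, 123],
   [223, 126],
   [230, 127],
   [224, 131],
   [231, 132],
   [232, 138],
   [225, 143],
   [233, 144],
   [234, 149],
   [235, 153],
   [236, 156],
   [238, 159],
   [239, 160],
   [237, 178],
   [228, 222, 218, 247],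
   [222, 218, 240],
   [218, 242, 247],
   [54],
   [55],
   [65],
   [69],
   [70],
   [74],
   [75],
   [76],
   [77],
   [92],
   [103],
   [104],
   [123],
   [126],
   [127],
   [131],
   [132],
   [138],
   [143],
   [144],
   [149],
   [153],
   [179, 52],
   [180, 53],
   [156],
   [159, 179],
   [160, 180],
   [178],
   [240, 247],
   [242, 247],
   [242, 240, 247],
   [52],
   [53]]

theorem rankE8_2 : packE8.rankOK (Pack.oneWord [228, 222, 218]) pivE8_2 spnE8_2 dualE8_2 = true := by
  decide +kernel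

theorem pivE8_2_length : pivE8_2.length = 110 := by decide +kernel

/-- Rank certificate E8, 3: piv. -/
def pivE8_3 : List ℕ := [36, 37, 38, 39, 40, 41, 42, 46, 49, 50, 52, 53, 57, 59, 61, 62, 64, 66, 69, 70, 72, 73, 74, 75, 76, 77, 80, 82, 83, 85, 86, 89, 91, 92, 95, 96, 97, 98, 101, 102, 103, 104, 108, 109, 120, 121, 122, 123, 124, 125, 127, 128, 129, 133, 134, 140, 145, 146, 151, 155, 158, 160, 161, 183, 241, 240, 242, 243, 7, 8, 9, 10, 11, 12, 15, 16, 17, 18, 20, 21, 22, 24, 25, 27, 28, 29, 30, 31, 32, 33, 34, 35, 43, 44, 45, 47, 48, 51, 54, 55, 58, 60, 63, 65, 67, 68, 87, 90, 13, 23, 19, 26, 0, 1, 2, 3, 4, 5, 6, 14]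

/-- Rank certificate E8, 3: spn. -/
def spnE8_3 : List (List ℕ) := [[112],
   [113],
   [114],
   [115],
   [116],
   [117],
   [118],
   [68],
   [69],
   [70],
   [71],
   [72],
   [73],
   [108],
   [119],
   [74],
   [75],
   [76],
   [77],
   [110],
   [78],
   [79],
   [80],
   [109],
   [81],
   [82],
   [111],
   [83],
   [84],
   [85],
   [86],
   [87],
   [88],
   [89],
   [90],
   [91],
   [0],
   [1],
   [2],
   [3],
   [4],
   [5],
   [6],
   [92],
   [93],
   [94],
   [7],
   [95],
   [96],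
   [8],
   [9],
   [97],
   [10],
   [11],
   [98],
   [99],
   [56, 92, 95],
   [12],
   [100],
   [13],
   [101],
   [14],
   [15],
   [102],
   [16],
   [103],
   [17],
   [104],
   [105],
   [18],
   [19],
   [],
   [20],
   [21],
   [22],
   [23],
   [24],
   [25],
   [57, 93, 96],
   [58, 94, 100],
   [26],
   [59, 97, 101],
   [27],
   [28],
   [60, 98, 102],
   [29],
   [30],
   [106],
   [61, 99, 104],
   [31],
   [107],
   [32],
   [33],
   [62, 103, 105],
   [63, 106, 107],
   [34],
   [35],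
   [36],
   [37],
   [20],
   [],
   [38],
   [39],
   [40],
   [41],
   [21],
   [38],
   [],
   [42],
   [43],
   [22],
   [39],
   [42],
   [],
   [23],
   [40],
   [43],
   [24],
   [41],
   [25],
   [44],
   [45],
   [46],
   [47],
   [48],
   [49],
   [],
   [50],
   [51],
   [52],
   [47],
   [50],
   [],
   [53],
   [54],
   [45],
   [48],
   [51],
   [53],
   [],
   [55],
   [],
   [],
   [],
   [],
   [56],
   [57],
   [],
   [],
   [56],
   [],
   [58],
   [56],
   [],
   [],
   [59],
   [],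
   [],
   [60],
   [],
   [61],
   [62],
   [44],
   [46],
   [49],
   [52],
   [54],
   [55],
   [],
   [],
   [],
   [57],
   [58],
   [],
   [57],
   [],
   [59],
   [],
   [],
   [60],
   [],
   [61],
   [],
   [63],
   [58],
   [59],
   [],
   [],
   [60],
   [],
   [],
   [62],
   [63],
   [],
   [61],
   [62],
   [63],
   [],
   [],
   [],
   [],
   [],
   [],
   [],
   [],
   [],
   [],
   [],
   [],
   [],
   [],
   [],
   [],
   [],
   [],
   [],
   [],
   [],
   [],
   [],
   [],
   [],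
   [],
   [],
   [],
   [],
   [],
   [],
   [],
   [],
   [],
   [],
   [],
   [],
   [],
   [],
   [],
   [],
   [],
   [],
   [65],
   [64],
   [66],
   [67],
   [],
   [67],
   [66],
   [65]]

/-- Rank certificate E8, 3: dual. -/
def dualE8_3 : List (List ℕ) := [[141],
   [142],
   [147],
   [169],
   [143],
   [148],
   [170],
   [144],
   [153],
   [175],
   [156],
   [178],
   [150],
   [154],
   [186],
   [157],
   [189],
   [159],
   [197],
   [200],
   [204, 72],
   [205, 73],
   [207, 74],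
   [210, 75],
   [214, 76],
   [219, 77],
   [173],
   [177],
   [187],
   [180],
   [190],
   [182],
   [198],
   [201],
   [193],
   [199],
   [202],
   [203],
   [206, 101],
   [208, 102],
   [211, 103],
   [215, 104],
   [209, 108],
   [212, 109],
   [227, 120],
   [221, 121],
   [228, 122],
   [217, 123],
   [222, 124],
   [229, 125],
   [218, 127],
   [223, 128],
   [230, 129],
   [224, 133],
   [231, 134],
   [232, 140],
   [225, 145],
   [233, 146],
   [234, 151],
   [235, 155],
   [236, 158],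
   [237, 160],
   [238, 161],
   [239, 183],
   [213, 220, 216, 226, 244],
   [226, 240, 244],
   [220, 226, 242],
   [220, 216, 226, 244, 243],
   [72],
   [73],
   [74],
   [75],
   [76],
   [77],
   [101],
   [102],
   [103],
   [104],
   [120],
   [108],
   [109],
   [121],
   [122],
   [123],
   [124],
   [125],
   [127],
   [128],
   [129],
   [133],
   [134],
   [140],
   [149, 43],
   [171, 44],
   [172, 45],
   [145, 149],
   [146, 171],
   [176, 51],
   [179, 54],
   [181, 55],
   [151, 172],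
   [155, 176],
   [158, 179],
   [191, 65],
   [160, 181],
   [161, 191],
   [192, 87],
   [183, 192],
   [240, 244],
   [242, 244, 243],
   [242, 240, 244],
   [243],
   [43],
   [44],
   [45],
   [51],
   [54],
   [55],
   [65],
   [87]]

theorem rankE8_3 : packE8.rankOK (Pack.oneWord [226, 220, 213, 216]) pivE8_3 spnE8_3 dualE8_3 = true := by
  decide +kernel

theorem pivE8_3_length : pivE8_3.length = 120 := by decide +kernel

end CfsgLib.Chev
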