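/-
Certificates for the classes of involutions of F4 in characteristic two.
-/
import Cfsg.Agent.Lib.Chev.InvClass.Descent
import Cfsg.Agent.Lib.Chev.InvClass.Rank

set_option autoImplicit false
set_option maxRecDepth 100000
set_option maxHeartbeats 2000000

namespace CfsgLib.Chev

/-- The representatives for F4. -/
def invRepsF4 : List (List ℕ) := [[47], [44], [47, 44], [39, 45]]

/-- The table of reductions for F4. -/
def invTableF4 : List (List ℕ × DescStep) :=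
  [([47], .rep [0]),
   ([44], .rep [0]),
   ([47, 44], .rep [15, 6]),
   ([39, 45], .rep [4, 2]),
   ([3, 6], .word [0, 1, 2, 3, 1, 2, 0, 1, 2, 3, 0, 1, 2, 1, 0] 2),
   ([0, 6], .move 18 0 4),
   ([1, 9], .word [2, 1, 2, 0, 1, 2, 3, 2, 1, 2, 0, 1, 2, 3, 1, 2, 0, 1, 2, 0, 1] 3),
   ([0, 1, 9], .move 23 0 6),
   ([0, 18], .word [3, 2, 1, 2, 0, 1, 2, 3, 2, 1, 2, 0, 1, 2, 3] 2),
   ([3, 18], .move 6 3 8),
   ([0, 10], .word [1, 2, 0, 1, 2, 3, 2, 1, 2, 0, 1, 2, 3, 1, 2, 0, 1, 2, 0, 1] 3),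
   ([0, 3, 10], .move 11 3 10),
   ([0, 1, 19], .word [3, 1, 0] 7),
   ([0, 3, 19], .move 5 3 12),
   ([1, 3, 13], .word [1, 2, 3] 11),
   ([0, 1, 3, 13], .move 23 0 14),
   ([1, 18, 19], .word [0, 1, 2, 3, 1, 0] 13),
   ([3, 18, 19], .move 5 3 16),
   ([1, 13], .word [1, 2, 3, 1, 2, 0, 1, 2, 3, 1, 2, 0, 1, 2, 0, 1, 0] 3),
   ([0, 1, 13], .move 23 0 18),
   ([1, 3, 9], .word [3] 11),
   ([0, 1, 3, 9], .move 23 0 20),
   ([0, 3, 19], .word [] 13),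
   ([0, 3, 10, 19], .move 13 10 22),
   ([0, 7, 12], .word [0] 13),
   ([0, 3, 7, 12], .move 9 3 24),
   ([1, 7, 9, 11], .word [3, 0] 23),
   ([0, 1, 9, 11], .move 17 0 26),
   ([7, 11, 12], .word [0] 17),
   ([3, 7, 11, 12], .move 9 3 28),
   ([0, 12], .word [1, 2, 0, 1, 2, 3, 2, 1, 2, 0, 1, 2, 3, 1, 2, 0, 1, 2, 0] 3),
   ([0, 10, 12], .move 20 10 30),
   ([3, 7, 17], .word [3, 2, 1, 2, 3, 0] 11),
   ([0, 3, 17], .move 11 0 32),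
   ([1, 5, 10], .word [0, 1, 2, 3] 33),
   ([0, 1, 5, 10], .move 15 0 34),
   ([6, 7, 17], .word [3, 2, 1, 2, 3, 0] 33),
   ([0, 6, 17], .move 11 0 36),
   ([3, 6, 19], .word [3, 2, 1, 2, 3] 13),
   ([0, 6, 19], .move 18 0 38),
   ([0, 6, 14], .word [3, 2, 0, 1, 2, 3, 1, 2, 1] 33),
   ([0, 10, 14], .move 17 10 40),
   ([1, 9, 14], .word [3] 41),
   ([0, 1, 9, 14], .move 23 0 42),
   ([1, 3, 16], .word [3] 33),
   ([0, 1, 3, 16], .move 4 0 44),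
   ([3, 8, 10, 22], .word [3, 2, 1, 2, 3, 0, 1] 23),
   ([0, 3, 10, 22], .move 9 0 46),
   ([0, 2, 19, 20], .word [3, 1, 2, 0] 43),
   ([0, 3, 19, 20], .move 4 3 48),
   ([1, 5, 16], .word [3] 37),
   ([0, 1, 5, 16], .move 4 0 50),
   ([2, 18, 19, 20], .word [0, 1, 2, 3, 1, 2, 0] 49),
   ([3, 18, 19, 20], .move 4 3 52),
   ([3, 8, 17, 22], .word [3, 2, 1, 2, 3, 0, 1] 47),
   ([0, 3, 17, 22], .move 9 0 54),
   ([6, 8, 17, 22], .word [3, 2, 1, 2, 3, 0, 1] 55),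
   ([0, 6, 17, 22], .move 9 0 56),
   ([3, 6, 19, 20], .word [3, 2, 1, 2, 3] 49),
   ([0, 6, 19, 20], .move 18 0 58),
   ([3, 17, 18, 19], .word [3, 2, 0, 1, 2, 3, 1, 0] 49),
   ([0, 3, 17, 19], .move 41 0 60),
   ([46], .word [3] 0),
   ([45], .word [3, 2] 0),
   ([44, 47], .word [] 2),
   ([44, 46], .word [3] 2),
   ([44, 45], .word [3, 2] 2),
   ([43], .word [3, 2, 1] 0),
   ([43, 45], .word [0, 1, 2, 3, 2, 1, 2, 0, 1, 2, 3, 2, 0, 1, 2, 1, 0] 5),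
   ([42], .word [3, 2, 1, 2] 0),
   ([42, 46], .word [0, 1, 2, 3, 2, 1, 2, 0, 1, 2, 3, 0, 1, 2, 1, 0] 5),
   ([41], .word [3, 2, 1, 2, 3] 0),
   ([41, 47], .word [0, 1, 2, 3, 1, 2, 0, 1, 2, 3, 0, 1, 2, 1, 0] 5),
   ([40], .word [0] 1),
   ([40, 47], .word [0] 2),
   ([40, 46], .word [3, 0] 2),
   ([40, 45], .word [3, 2, 0] 2),
   ([40, 43], .word [1] 3),
   ([40, 43, 45], .word [1, 2, 0, 1, 2, 3, 2, 1, 2, 0, 1, 2, 3, 1, 2, 0, 1, 2, 0, 1] 33),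
   ([40, 42], .word [1, 2] 3),
   ([40, 42, 46], .word [1, 2, 0, 1, 2, 3, 2, 1, 2, 0, 1, 2, 3, 2, 1, 2, 0, 1, 2, 0, 1] 33),
   ([40, 41], .word [1, 2, 3] 3),
   ([40, 41, 47], .word [3, 2, 1, 2, 0, 1, 2, 3, 2, 1, 2, 0, 1, 2, 3, 1, 2, 0, 1, 2, 0, 1] 33),
   ([39], .word [0, 1] 1),
   ([39, 47], .word [0, 1] 2),
   ([39, 46], .word [3, 0, 1] 2),
   ([39, 43], .word [3, 2, 0, 1] 2),
   ([39, 43, 45], .word [1, 2, 0, 1, 2, 3, 2, 1, 2, 0, 1, 2, 3, 1, 2, 0, 1, 2, 0] 33),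
   ([39, 42], .word [1, 2, 1] 3),
   ([39, 42, 46], .word [1, 2, 0, 1, 2, 3, 2, 1, 2, 0, 1, 2, 3, 2, 1, 2, 0, 1, 2, 0] 33),
   ([39, 41], .word [1, 2, 3, 1] 3),
   ([39, 41, 47], .word [3, 2, 1, 2, 0, 1, 2, 3, 2, 1, 2, 0, 1, 2, 3, 1, 2, 0, 1, 2, 0] 33),
   ([38], .word [0, 1, 2] 1),
   ([38, 47], .word [0, 1, 2] 2),
   ([38, 46], .word [2] 3),
   ([38, 45], .word [3, 0, 1, 2] 2),
   ([38, 45, 46], .word [1, 2, 0, 1, 2, 3, 2, 1, 2, 0, 1, 2, 3, 1, 2, 0, 1, 2, 0, 1] 7),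
   ([38, 43], .word [2, 1, 2, 1] 3),
   ([38, 43, 45], .word [1, 2, 0, 1, 2, 3, 2, 1, 2, 0, 1, 2, 3, 2, 1, 2, 0, 1, 0] 33),
   ([38, 42], .word [3, 2, 0, 1, 2] 2),
   ([38, 42, 46], .word [1, 2, 0, 1, 2, 3, 2, 1, 2, 0, 1, 2, 3, 1, 2, 0, 1, 0] 33),
   ([38, 42, 43], .word [1, 2, 0, 1, 2, 3, 2, 1, 2, 0, 1, 2, 3, 1, 2, 1, 0] 7),
   ([38, 42, 43, 46], .word [1, 2, 0, 1, 2, 3, 2, 1, 2, 0, 1, 2, 3, 2, 0, 1, 2, 1, 0] 35),
   ([38, 41], .word [1, 2, 3, 1, 2] 3),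
   ([38, 41, 47], .word [3, 2, 1, 2, 0, 1, 2, 3, 2, 1, 2, 0, 1, 2, 3, 1, 2, 0, 1, 0] 33),
   ([37], .word [0, 1, 2, 3] 1),
   ([37, 47], .word [2, 3] 3),
   ([37, 46], .word [0, 1, 2, 3] 2),
   ([37, 46, 47], .word [2, 1, 2, 0, 1, 2, 3, 2, 1, 2, 0, 1, 2, 3, 2, 1, 2, 0, 1, 2, 0, 1] 7),
   ([37, 45], .word [0, 1, 2, 3, 2] 2),
   ([37, 45, 47], .word [2, 1, 2, 0, 1, 2, 3, 2, 1, 2, 0, 1, 2, 3, 1, 2, 0, 1, 2, 0, 1] 7),
   ([37, 43], .word [2, 1, 2, 3, 1] 3),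
   ([37, 43, 45], .word [1, 2, 3, 2, 1, 2, 0, 1, 2, 3, 1, 2, 0, 1, 2, 0, 1, 0] 33),
   ([37, 42], .word [2, 1, 2, 3, 1, 2] 3),
   ([37, 42, 46], .word [1, 2, 3, 2, 1, 2, 0, 1, 2, 3, 2, 1, 2, 0, 1, 2, 0, 1, 0] 33),
   ([37, 41], .word [3, 2, 0, 1, 2, 3] 2),
   ([37, 41, 47], .word [1, 2, 3, 1, 2, 0, 1, 2, 3, 1, 2, 0, 1, 2, 0, 1, 0] 33),
   ([37, 41, 43], .word [1, 2, 3, 1, 2, 0, 1, 2, 3, 1, 2, 0, 1, 2, 1, 0] 7),
   ([37, 41, 43, 47], .word [0, 1, 2, 3, 2, 1, 2, 0, 1, 2, 3, 1, 2, 0, 1, 2, 1, 0] 35),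
   ([37, 41, 42], .word [1, 2, 3, 1, 2, 0, 1, 2, 3, 0, 1, 2, 0, 1, 0] 7),
   ([37, 41, 42, 47], .word [0, 1, 2, 3, 2, 1, 2, 0, 1, 2, 3, 0, 1, 2, 0, 1, 0] 35),
   ([36], .word [0, 1, 2, 1] 1),
   ([36, 47], .word [0, 1, 2, 1] 2),
   ([36, 46], .word [2, 1] 3),
   ([36, 45], .word [2, 1, 2] 3),
   ([36, 43], .word [3, 0, 1, 2, 1] 2),
   ([36, 43, 46], .word [1, 2, 0, 1, 2, 3, 2, 1, 2, 0, 1, 2, 3, 1, 2, 0, 1, 2, 0] 7),
   ([36, 43, 45], .word [1, 2, 0, 1, 2, 3, 2, 1, 2, 0, 1, 2, 3, 2, 1, 2, 1, 0] 33),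
   ([36, 42], .word [3, 2, 0, 1, 2, 1] 2),
   ([36, 42, 46], .word [1, 2, 0, 1, 2, 3, 2, 1, 2, 0, 1, 2, 3, 1, 2, 1, 0] 33),
   ([36, 42, 45], .word [1, 2, 0, 1, 2, 3, 2, 1, 2, 0, 1, 2, 3, 1, 2, 0, 1, 0] 7),
   ([36, 42, 45, 46], .word [1, 2, 0, 1, 2, 3, 2, 1, 2, 0, 1, 2, 3, 2, 0, 1, 2, 0, 1, 0] 35),
   ([36, 41], .word [1, 2, 3, 1, 2, 1] 3),
   ([36, 41, 47], .word [3, 2, 1, 2, 0, 1, 2, 3, 2, 1, 2, 0, 1, 2, 3, 1, 2, 1, 0] 33),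
   ([35], .word [0, 1, 2, 3, 1] 1),
   ([35, 47], .word [2, 3, 1] 3),
   ([35, 46], .word [0, 1, 2, 3, 1] 2),
   ([35, 46, 47], .word [2, 1, 2, 0, 1, 2, 3, 2, 1, 2, 0, 1, 2, 3, 2, 1, 2, 0, 1, 2, 0] 7),
   ([35, 45], .word [2, 1, 2, 3] 3),
   ([35, 43], .word [0, 1, 2, 3, 2, 1] 2),
   ([35, 43, 47], .word [2, 1, 2, 0, 1, 2, 3, 2, 1, 2, 0, 1, 2, 3, 1, 2, 0, 1, 2, 0] 7),
   ([35, 43, 45], .word [1, 2, 3, 2, 1, 2, 0, 1, 2, 3, 1, 2, 0, 1, 2, 1, 0] 33),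
   ([35, 42], .word [2, 1, 2, 3, 1, 2, 1] 3),
   ([35, 42, 46], .word [1, 2, 3, 2, 1, 2, 0, 1, 2, 3, 2, 1, 2, 0, 1, 2, 1, 0] 33),
   ([35, 41], .word [3, 2, 0, 1, 2, 3, 1] 2),
   ([35, 41, 47], .word [1, 2, 3, 1, 2, 0, 1, 2, 3, 1, 2, 0, 1, 2, 1, 0] 33),
   ([35, 41, 45], .word [1, 2, 3, 1, 2, 0, 1, 2, 3, 1, 2, 0, 1, 2, 0, 1, 0] 7),
   ([35, 41, 45, 47], .word [0, 1, 2, 3, 2, 1, 2, 0, 1, 2, 3, 1, 2, 0, 1, 2, 0, 1, 0] 35),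
   ([35, 41, 42], .word [1, 2, 3, 1, 2, 0, 1, 2, 3, 0, 1, 2, 1, 0] 7),
   ([35, 41, 42, 47], .word [0, 1, 2, 3, 2, 1, 2, 0, 1, 2, 3, 0, 1, 2, 1, 0] 35),
   ([34], .word [0, 1, 2, 3, 1, 2] 1),
   ([34, 47], .word [2, 3, 1, 2] 3),
   ([34, 46], .word [2, 1, 2, 3, 2] 3),
   ([34, 45], .word [0, 1, 2, 3, 1, 2] 2),
   ([34, 45, 47], .word [2, 1, 2, 0, 1, 2, 3, 2, 1, 2, 0, 1, 2, 3, 2, 1, 2, 0, 1, 0] 7),
   ([34, 45, 46], .word [2, 1, 2, 3, 2, 1, 2, 0, 1, 2, 3, 1, 2, 0, 1, 2, 0, 1, 0] 7),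
   ([34, 43], .word [2, 1, 2, 3, 2, 1, 2, 1] 3),
   ([34, 43, 45], .word [1, 2, 3, 2, 1, 2, 0, 1, 2, 3, 2, 0, 1, 2, 0, 1, 0] 33),
   ([34, 42], .word [0, 1, 2, 3, 2, 1, 2] 2),
   ([34, 42, 47], .word [2, 1, 2, 0, 1, 2, 3, 2, 1, 2, 0, 1, 2, 3, 1, 2, 0, 1, 0] 7),
   ([34, 42, 46], .word [1, 2, 3, 2, 1, 2, 0, 1, 2, 3, 0, 1, 2, 0, 1, 0] 33),
   ([34, 42, 43], .word [2, 1, 2, 3, 2, 1, 2, 0, 1, 2, 3, 0, 1, 2, 1, 0] 7),
   ([34, 42, 43, 46], .word [2, 0, 1, 2, 3, 2, 1, 2, 0, 1, 2, 3, 2, 0, 1, 2, 1, 0] 35),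
   ([34, 41], .word [3, 2, 0, 1, 2, 3, 1, 2] 2),
   ([34, 41, 47], .word [1, 2, 3, 1, 2, 0, 1, 2, 3, 0, 1, 2, 0, 1, 0] 33),
   ([34, 41, 46], .word [1, 2, 3, 1, 2, 0, 1, 2, 3, 2, 1, 2, 0, 1, 2, 0, 1, 0] 7),
   ([34, 41, 46, 47], .word [0, 1, 2, 3, 2, 1, 2, 0, 1, 2, 3, 2, 1, 2, 0, 1, 2, 0, 1, 0] 35),
   ([34, 41, 43], .word [1, 2, 3, 1, 2, 0, 1, 2, 3, 2, 0, 1, 2, 1, 0] 7),
   ([34, 41, 43, 47], .word [0, 1, 2, 3, 2, 1, 2, 0, 1, 2, 3, 2, 0, 1, 2, 1, 0] 35),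
   ([33], .word [0, 1, 2, 3, 1, 2, 1] 1),
   ([33, 47], .word [2, 3, 1, 2, 1] 3),
   ([33, 46], .word [2, 1, 2, 3, 2, 1] 3),
   ([33, 45], .word [2, 1, 2, 3, 2, 1, 2] 3),
   ([33, 43], .word [0, 1, 2, 3, 1, 2, 1] 2),
   ([33, 43, 47], .word [2, 1, 2, 0, 1, 2, 3, 2, 1, 2, 0, 1, 2, 3, 2, 1, 2, 1, 0] 7),
   ([33, 43, 46], .word [2, 1, 2, 3, 2, 1, 2, 0, 1, 2, 3, 1, 2, 0, 1, 2, 1, 0] 7),
   ([33, 43, 45], .word [1, 2, 3, 2, 1, 2, 0, 1, 2, 3, 2, 0, 1, 2, 1, 0] 33),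
   ([33, 42], .word [0, 1, 2, 3, 2, 1, 2, 1] 2),
   ([33, 42, 47], .word [2, 1, 2, 0, 1, 2, 3, 2, 1, 2, 0, 1, 2, 3, 1, 2, 1, 0] 7),
   ([33, 42, 46], .word [1, 2, 3, 2, 1, 2, 0, 1, 2, 3, 0, 1, 2, 1, 0] 33),
   ([33, 42, 45], .word [2, 1, 2, 3, 2, 1, 2, 0, 1, 2, 3, 0, 1, 2, 0, 1, 0] 7),
   ([33, 42, 45, 46], .word [2, 0, 1, 2, 3, 2, 1, 2, 0, 1, 2, 3, 2, 0, 1, 2, 0, 1, 0] 35),
   ([33, 41], .word [3, 2, 0, 1, 2, 3, 1, 2, 1] 2),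
   ([33, 41, 47], .word [1, 2, 3, 1, 2, 0, 1, 2, 3, 0, 1, 2, 1, 0] 33),
   ([33, 41, 46], .word [1, 2, 3, 1, 2, 0, 1, 2, 3, 2, 1, 2, 0, 1, 2, 1, 0] 7),
   ([33, 41, 46, 47], .word [0, 1, 2, 3, 2, 1, 2, 0, 1, 2, 3, 2, 1, 2, 0, 1, 2, 1, 0] 35),
   ([33, 41, 45], .word [1, 2, 3, 1, 2, 0, 1, 2, 3, 2, 0, 1, 2, 0, 1, 0] 7),
   ([33, 41, 45, 47], .word [0, 1, 2, 3, 2, 1, 2, 0, 1, 2, 3, 2, 0, 1, 2, 0, 1, 0] 35),
   ([32], .word [3, 2, 1, 0] 0),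
   ([32, 45], .word [0, 1, 2, 3, 2, 1, 2, 0, 1, 2, 3, 2, 0, 1, 2, 1] 5),
   ([32, 44], .word [1, 0] 3),
   ([32, 44, 45], .word [1, 2, 0, 1, 2, 3, 2, 1, 2, 0, 1, 2, 3, 1, 2, 0, 1, 2, 0, 1, 0] 33),
   ([32, 43], .word [0, 1, 2, 3, 2, 1, 2, 0, 1, 2, 3, 2, 0, 1, 2] 5),
   ([32, 43, 45], .word [1, 2, 0, 1, 2, 3, 2, 1, 2, 0, 1, 2, 3, 1, 2, 0, 1, 2] 37),
   ([32, 38], .word [2, 1, 2, 1, 0] 3),
   ([32, 38, 45], .word [1, 2, 0, 1, 2, 3, 2, 1, 2, 0, 1, 2, 3, 2, 1, 2, 0, 1] 33),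
   ([32, 38, 43], .word [2, 1, 2, 0, 1, 2, 3, 2, 1, 2, 0, 1, 2, 3, 2, 0, 1, 2] 39),
   ([32, 38, 43, 45], .word [2, 1, 2, 0, 1, 2, 3, 2, 1, 2, 0, 1, 2, 3, 2, 1, 2, 0, 1] 55),
   ([32, 37], .word [2, 1, 2, 3, 1, 0] 3),
   ([32, 37, 45], .word [1, 2, 3, 2, 1, 2, 0, 1, 2, 3, 1, 2, 0, 1, 2, 0, 1] 33),
   ([32, 37, 43], .word [2, 0, 1, 2, 3, 2, 1, 2, 0, 1, 2, 3, 1, 2, 0, 1, 2] 39),
   ([32, 37, 43, 45], .word [2, 1, 2, 3, 2, 1, 2, 0, 1, 2, 3, 1, 2, 0, 1, 2, 0, 1] 55),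
   ([32, 36], .word [2, 1, 2, 0, 1, 0] 3),
   ([32, 36, 45], .word [2, 1, 2, 0, 1, 2, 3, 2, 1, 2, 0, 1, 2, 3, 2, 0, 1, 2, 1] 39),
   ([32, 36, 43], .word [1, 2, 0, 1, 2, 3, 2, 1, 2, 0, 1, 2, 3, 2, 1, 2, 0] 33),
   ([32, 36, 43, 45], .word [2, 1, 2, 0, 1, 2, 3, 2, 1, 2, 0, 1, 2, 3, 2, 1, 2, 0] 55),
   ([32, 35], .word [2, 1, 2, 3, 0, 1, 0] 3),
   ([32, 35, 45], .word [2, 0, 1, 2, 3, 2, 1, 2, 0, 1, 2, 3, 1, 2, 0, 1, 2, 1] 39),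
   ([32, 35, 43], .word [1, 2, 3, 2, 1, 2, 0, 1, 2, 3, 1, 2, 0, 1, 2, 0] 33),
   ([32, 35, 43, 45], .word [2, 1, 2, 3, 2, 1, 2, 0, 1, 2, 3, 1, 2, 0, 1, 2, 0] 55),
   ([31], .word [3, 2, 1, 2, 0] 0),
   ([31, 46], .word [0, 1, 2, 3, 2, 1, 2, 0, 1, 2, 3, 0, 1, 2, 1] 5),
   ([31, 44], .word [1, 2, 0] 3),
   ([31, 44, 46], .word [1, 2, 0, 1, 2, 3, 2, 1, 2, 0, 1, 2, 3, 2, 1, 2, 0, 1, 2, 0, 1, 0] 33),
   ([31, 42], .word [0, 1, 2, 3, 2, 1, 2, 0, 1, 2, 3, 2, 0, 1] 5),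
   ([31, 42, 46], .word [1, 2, 0, 1, 2, 3, 2, 1, 2, 0, 1, 2, 3, 1, 2, 0, 1] 37),
   ([31, 39], .word [1, 2, 1, 0] 3),
   ([31, 39, 46], .word [1, 2, 0, 1, 2, 3, 2, 1, 2, 0, 1, 2, 3, 2, 1, 2, 0, 1, 2] 33),
   ([31, 39, 42], .word [2, 1, 2, 0, 1, 2, 3, 2, 1, 2, 0, 1, 2, 3, 2, 0, 1] 39),
   ([31, 39, 42, 46], .word [2, 1, 2, 0, 1, 2, 3, 2, 1, 2, 0, 1, 2, 3, 2, 1, 2, 0, 1, 2] 55),
   ([31, 37], .word [2, 1, 2, 3, 1, 2, 0] 3),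
   ([31, 37, 46], .word [1, 2, 3, 2, 1, 2, 0, 1, 2, 3, 2, 1, 2, 0, 1, 2, 0, 1] 33),
   ([31, 37, 42], .word [2, 0, 1, 2, 3, 2, 1, 2, 0, 1, 2, 3, 1, 2, 0, 1] 39),
   ([31, 37, 42, 46], .word [2, 1, 2, 3, 2, 1, 2, 0, 1, 2, 3, 2, 1, 2, 0, 1, 2, 0, 1] 55),
   ([31, 36], .word [2, 1, 2, 0, 1, 2, 0] 3),
   ([31, 36, 46], .word [2, 1, 2, 0, 1, 2, 3, 2, 1, 2, 0, 1, 2, 3, 0, 1, 2, 1] 39),
   ([31, 36, 42], .word [1, 2, 0, 1, 2, 3, 2, 1, 2, 0, 1, 2, 3, 2, 1, 0] 33),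
   ([31, 36, 42, 46], .word [2, 1, 2, 0, 1, 2, 3, 2, 1, 2, 0, 1, 2, 3, 2, 1, 0] 55),
   ([31, 34], .word [2, 1, 2, 3, 0, 1, 2, 0] 3),
   ([31, 34, 46], .word [2, 0, 1, 2, 3, 2, 1, 2, 0, 1, 2, 3, 0, 1, 2, 0, 1] 39),
   ([31, 34, 42], .word [1, 2, 3, 2, 1, 2, 0, 1, 2, 3, 1, 2, 0, 1, 0] 33),
   ([31, 34, 42, 46], .word [2, 1, 2, 3, 2, 1, 2, 0, 1, 2, 3, 1, 2, 0, 1, 0] 55),
   ([30], .word [3, 2, 1, 2, 3, 0] 0),
   ([30, 47], .word [0, 1, 2, 3, 1, 2, 0, 1, 2, 3, 0, 1, 2, 1] 5),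
   ([30, 44], .word [1, 2, 3, 0] 3),
   ([30, 44, 47], .word [3, 2, 1, 2, 0, 1, 2, 3, 2, 1, 2, 0, 1, 2, 3, 1, 2, 0, 1, 2, 0, 1, 0] 33),
   ([30, 41], .word [3, 2, 0, 1, 2, 3, 1, 2, 0, 1, 2, 0, 1] 5),
   ([30, 41, 47], .word [1, 2, 3, 1, 2, 0, 1, 2, 3, 1, 2, 0, 1, 2, 0, 1] 37),
   ([30, 39], .word [1, 2, 3, 1, 0] 3),
   ([30, 39, 47], .word [3, 2, 1, 2, 0, 1, 2, 3, 2, 1, 2, 0, 1, 2, 3, 1, 2, 0, 1, 2] 33),
   ([30, 39, 41], .word [2, 3, 1, 2, 0, 1, 2, 3, 2, 1, 2, 0, 1, 2, 0, 1] 39),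
   ([30, 39, 41, 47], .word [3, 2, 1, 2, 0, 1, 2, 3, 2, 1, 2, 0, 1, 2, 3, 2, 1, 2, 0, 1, 2] 55),
   ([30, 38], .word [1, 2, 3, 1, 2, 0] 3),
   ([30, 38, 47], .word [3, 2, 1, 2, 0, 1, 2, 3, 2, 1, 2, 0, 1, 2, 3, 1, 2, 0, 1] 33),
   ([30, 38, 41], .word [2, 3, 1, 2, 0, 1, 2, 3, 1, 2, 0, 1, 2, 0, 1] 39),
   ([30, 38, 41, 47], .word [3, 2, 1, 2, 0, 1, 2, 3, 2, 1, 2, 0, 1, 2, 3, 2, 1, 2, 0, 1] 55),
   ([30, 35], .word [2, 1, 2, 0, 1, 2, 3, 0] 3),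
   ([30, 35, 47], .word [0, 1, 2, 3, 1, 2, 0, 1, 2, 3, 2, 1, 2, 0, 1, 2, 1] 39),
   ([30, 35, 41], .word [3, 1, 2, 0, 1, 2, 3, 2, 1, 2, 0, 1, 2, 1, 0] 33),
   ([30, 35, 41, 47], .word [2, 3, 1, 2, 0, 1, 2, 3, 2, 1, 2, 0, 1, 2, 1, 0] 55),
   ([30, 34], .word [2, 1, 2, 0, 1, 2, 3, 2, 0] 3),
   ([30, 34, 47], .word [0, 1, 2, 3, 1, 2, 0, 1, 2, 3, 2, 0, 1, 2, 0, 1] 39),
   ([30, 34, 41], .word [3, 1, 2, 0, 1, 2, 3, 2, 0, 1, 2, 0, 1, 0] 33),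
   ([30, 34, 41, 47], .word [2, 3, 1, 2, 0, 1, 2, 3, 2, 0, 1, 2, 0, 1, 0] 55),
   ([29], .word [0, 1, 2, 1, 0] 1),
   ([29, 47], .word [0, 1, 2, 1, 0] 2),
   ([29, 46], .word [2, 1, 0] 3),
   ([29, 45], .word [2, 1, 2, 0] 3),
   ([29, 43], .word [2, 1, 2, 0, 1] 3),
   ([29, 43, 45], .word [2, 1, 2, 0, 1, 2, 3, 2, 1, 2, 0, 1, 2, 3, 2, 0, 1, 2, 1, 0] 39),
   ([29, 42], .word [2, 1, 2, 0, 1, 2] 3),
   ([29, 42, 46], .word [2, 1, 2, 0, 1, 2, 3, 2, 1, 2, 0, 1, 2, 3, 0, 1, 2, 1, 0] 39),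
   ([29, 32], .word [3, 0, 1, 2, 1, 0] 2),
   ([29, 32, 46], .word [1, 2, 0, 1, 2, 3, 2, 1, 2, 0, 1, 2, 3, 1, 2, 0, 1, 2] 7),
   ([29, 32, 45], .word [1, 2, 0, 1, 2, 3, 2, 1, 2, 0, 1, 2, 3, 2, 1, 2, 1] 33),
   ([29, 32, 43], .word [1, 2, 0, 1, 2, 3, 2, 1, 2, 0, 1, 2, 3, 2, 1, 2] 33),
   ([29, 32, 43, 45], .word [2, 1, 2, 0, 1, 2, 3, 2, 1, 2, 0, 1, 2, 3, 2, 1, 2] 55),
   ([29, 31], .word [3, 2, 0, 1, 2, 1, 0] 2),
   ([29, 31, 46], .word [1, 2, 0, 1, 2, 3, 2, 1, 2, 0, 1, 2, 3, 1, 2, 1] 33),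
   ([29, 31, 45], .word [1, 2, 0, 1, 2, 3, 2, 1, 2, 0, 1, 2, 3, 1, 2, 0, 1] 7),
   ([29, 31, 45, 46], .word [1, 2, 0, 1, 2, 3, 2, 1, 2, 0, 1, 2, 3, 2, 0, 1, 2, 0, 1] 35),
   ([29, 31, 42], .word [1, 2, 0, 1, 2, 3, 2, 1, 2, 0, 1, 2, 3, 2, 1] 33),
   ([29, 31, 42, 46], .word [2, 1, 2, 0, 1, 2, 3, 2, 1, 2, 0, 1, 2, 3, 2, 1] 55),
   ([29, 30], .word [1, 2, 3, 1, 2, 1, 0] 3),
   ([29, 30, 47], .word [3, 2, 1, 2, 0, 1, 2, 3, 2, 1, 2, 0, 1, 2, 3, 1, 2, 1] 33),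
   ([28], .word [0, 1, 2, 3, 1, 0] 1),
   ([28, 47], .word [2, 3, 1, 0] 3),
   ([28, 46], .word [0, 1, 2, 3, 1, 0] 2),
   ([28, 46, 47], .word [2, 1, 2, 0, 1, 2, 3, 2, 1, 2, 0, 1, 2, 3, 2, 1, 2, 0, 1, 2] 7),
   ([28, 45], .word [2, 1, 2, 3, 0] 3),
   ([28, 43], .word [2, 1, 2, 3, 0, 1] 3),
   ([28, 43, 45], .word [2, 0, 1, 2, 3, 2, 1, 2, 0, 1, 2, 3, 1, 2, 0, 1, 2, 1, 0] 39),
   ([28, 41], .word [2, 1, 2, 0, 1, 2, 3] 3),
   ([28, 41, 47], .word [0, 1, 2, 3, 1, 2, 0, 1, 2, 3, 2, 1, 2, 0, 1, 2, 1, 0] 39),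
   ([28, 32], .word [0, 1, 2, 3, 2, 1, 0] 2),
   ([28, 32, 47], .word [2, 1, 2, 0, 1, 2, 3, 2, 1, 2, 0, 1, 2, 3, 1, 2, 0, 1, 2] 7),
   ([28, 32, 45], .word [1, 2, 3, 2, 1, 2, 0, 1, 2, 3, 1, 2, 0, 1, 2, 1] 33),
   ([28, 32, 43], .word [1, 2, 3, 2, 1, 2, 0, 1, 2, 3, 1, 2, 0, 1, 2] 33),
   ([28, 32, 43, 45], .word [2, 1, 2, 3, 2, 1, 2, 0, 1, 2, 3, 1, 2, 0, 1, 2] 55),
   ([28, 31], .word [2, 1, 2, 3, 1, 2, 1, 0] 3),
   ([28, 31, 46], .word [1, 2, 3, 2, 1, 2, 0, 1, 2, 3, 2, 1, 2, 0, 1, 2, 1] 33),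
   ([28, 30], .word [3, 2, 0, 1, 2, 3, 1, 0] 2),
   ([28, 30, 47], .word [1, 2, 3, 1, 2, 0, 1, 2, 3, 1, 2, 0, 1, 2, 1] 33),
   ([28, 30, 45], .word [1, 2, 3, 1, 2, 0, 1, 2, 3, 1, 2, 0, 1, 2, 0, 1] 7),
   ([28, 30, 45, 47], .word [0, 1, 2, 3, 2, 1, 2, 0, 1, 2, 3, 1, 2, 0, 1, 2, 0, 1] 35),
   ([28, 30, 41], .word [3, 1, 2, 0, 1, 2, 3, 2, 1, 2, 0, 1, 2, 1] 33),
   ([28, 30, 41, 47], .word [2, 3, 1, 2, 0, 1, 2, 3, 2, 1, 2, 0, 1, 2, 1] 55),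
   ([28, 30, 31], .word [1, 2, 3, 1, 2, 0, 1, 2, 3, 0, 1, 2, 1] 7),
   ([28, 30, 31, 47], .word [0, 1, 2, 3, 2, 1, 2, 0, 1, 2, 3, 0, 1, 2, 1] 35),
   ([27], .word [0, 1, 2, 3, 1, 2, 0] 1),
   ([27, 47], .word [2, 3, 1, 2, 0] 3),
   ([27, 46], .word [2, 1, 2, 3, 2, 0] 3),
   ([27, 45], .word [0, 1, 2, 3, 1, 2, 0] 2),
   ([27, 45, 47], .word [2, 1, 2, 0, 1, 2, 3, 2, 1, 2, 0, 1, 2, 3, 2, 1, 2, 0, 1] 7),
   ([27, 45, 46], .word [2, 1, 2, 3, 2, 1, 2, 0, 1, 2, 3, 1, 2, 0, 1, 2, 0, 1] 7),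
   ([27, 42], .word [2, 1, 2, 3, 0, 1, 2] 3),
   ([27, 42, 46], .word [2, 0, 1, 2, 3, 2, 1, 2, 0, 1, 2, 3, 0, 1, 2, 0, 1, 0] 39),
   ([27, 41], .word [2, 1, 2, 0, 1, 2, 3, 2] 3),
   ([27, 41, 47], .word [0, 1, 2, 3, 1, 2, 0, 1, 2, 3, 2, 0, 1, 2, 0, 1, 0] 39),
   ([27, 32], .word [2, 1, 2, 3, 2, 1, 2, 1, 0] 3),
   ([27, 32, 45], .word [1, 2, 3, 2, 1, 2, 0, 1, 2, 3, 2, 0, 1, 2, 0, 1] 33),
   ([27, 31], .word [0, 1, 2, 3, 2, 1, 2, 0] 2),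
   ([27, 31, 47], .word [2, 1, 2, 0, 1, 2, 3, 2, 1, 2, 0, 1, 2, 3, 1, 2, 0, 1] 7),
   ([27, 31, 46], .word [1, 2, 3, 2, 1, 2, 0, 1, 2, 3, 0, 1, 2, 0, 1] 33),
   ([27, 31, 42], .word [1, 2, 3, 2, 1, 2, 0, 1, 2, 3, 1, 2, 0, 1] 33),
   ([27, 31, 42, 46], .word [2, 1, 2, 3, 2, 1, 2, 0, 1, 2, 3, 1, 2, 0, 1] 55),
   ([27, 31, 32], .word [2, 1, 2, 3, 2, 1, 2, 0, 1, 2, 3, 0, 1, 2, 1] 7),
   ([27, 31, 32, 46], .word [2, 0, 1, 2, 3, 2, 1, 2, 0, 1, 2, 3, 2, 0, 1, 2, 1] 35),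
   ([27, 30], .word [3, 2, 0, 1, 2, 3, 1, 2, 0] 2),
   ([27, 30, 47], .word [1, 2, 3, 1, 2, 0, 1, 2, 3, 0, 1, 2, 0, 1] 33),
   ([27, 30, 46], .word [1, 2, 3, 1, 2, 0, 1, 2, 3, 2, 1, 2, 0, 1, 2, 0, 1] 7),
   ([27, 30, 46, 47], .word [0, 1, 2, 3, 2, 1, 2, 0, 1, 2, 3, 2, 1, 2, 0, 1, 2, 0, 1] 35),
   ([27, 30, 41], .word [3, 1, 2, 0, 1, 2, 3, 2, 0, 1, 2, 0, 1] 33),
   ([27, 30, 41, 47], .word [2, 3, 1, 2, 0, 1, 2, 3, 2, 0, 1, 2, 0, 1] 55),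
   ([27, 30, 32], .word [1, 2, 3, 1, 2, 0, 1, 2, 3, 2, 0, 1, 2, 1] 7),
   ([27, 30, 32, 47], .word [0, 1, 2, 3, 2, 1, 2, 0, 1, 2, 3, 2, 0, 1, 2, 1] 35),
   ([26], .word [3, 2, 1, 2, 0, 1] 0),
   ([26, 46], .word [0, 1, 2, 3, 2, 1, 2, 0, 1, 2, 3, 0, 1, 2] 5),
   ([26, 44], .word [1, 2, 0, 1] 3),
   ([26, 44, 46], .word [1, 2, 0, 1, 2, 3, 2, 1, 2, 0, 1, 2, 3, 2, 1, 2, 0, 1, 2, 1, 0] 33),
   ([26, 42], .word [0, 1, 2, 3, 2, 1, 2, 0, 1, 2, 3, 2, 0] 5),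
   ([26, 42, 46], .word [1, 2, 0, 1, 2, 3, 2, 1, 2, 0, 1, 2, 3, 1, 2, 0] 37),
   ([26, 40], .word [1, 2, 0, 1, 0] 3),
   ([26, 40, 46], .word [1, 2, 0, 1, 2, 3, 2, 1, 2, 0, 1, 2, 3, 2, 1, 2, 0, 1, 2, 1] 33),
   ([26, 40, 42], .word [2, 1, 2, 0, 1, 2, 3, 2, 1, 2, 0, 1, 2, 3, 2, 0] 39),
   ([26, 40, 42, 46], .word [2, 1, 2, 0, 1, 2, 3, 2, 1, 2, 0, 1, 2, 3, 2, 1, 2, 0, 1, 2, 1] 55),
   ([26, 38], .word [2, 1, 2, 0, 1, 2, 0, 1] 3),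
   ([26, 38, 46], .word [2, 1, 2, 0, 1, 2, 3, 2, 1, 2, 0, 1, 2, 3, 0, 1, 2] 39),
   ([26, 38, 42], .word [1, 2, 0, 1, 2, 3, 2, 1, 2, 0, 1, 2, 3, 2, 0, 1, 0] 33),
   ([26, 38, 42, 46], .word [2, 1, 2, 0, 1, 2, 3, 2, 1, 2, 0, 1, 2, 3, 2, 0, 1, 0] 55),
   ([26, 35], .word [2, 1, 2, 3, 1, 2, 0, 1] 3),
   ([26, 35, 46], .word [1, 2, 3, 2, 1, 2, 0, 1, 2, 3, 2, 1, 2, 0, 1, 2, 0] 33),
   ([26, 35, 42], .word [2, 0, 1, 2, 3, 2, 1, 2, 0, 1, 2, 3, 1, 2, 0] 39),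
   ([26, 35, 42, 46], .word [2, 1, 2, 3, 2, 1, 2, 0, 1, 2, 3, 2, 1, 2, 0, 1, 2, 0] 55),
   ([26, 33], .word [2, 1, 2, 3, 0, 1, 2, 0, 1] 3),
   ([26, 33, 46], .word [2, 0, 1, 2, 3, 2, 1, 2, 0, 1, 2, 3, 0, 1, 2, 0] 39),
   ([26, 33, 42], .word [1, 2, 3, 2, 1, 2, 0, 1, 2, 3, 1, 2, 1, 0] 33),
   ([26, 33, 42, 46], .word [2, 1, 2, 3, 2, 1, 2, 0, 1, 2, 3, 1, 2, 1, 0] 55),
   ([26, 31], .word [0, 1, 2, 3, 2, 1, 2, 0, 1, 2, 3, 2] 5),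
   ([26, 31, 46], .word [1, 2, 0, 1, 2, 3, 2, 1, 2, 0, 1, 2, 3, 1, 2] 37),
   ([26, 31, 44], .word [2, 1, 2, 0, 1, 2, 3, 2, 1, 2, 0, 1, 2, 3, 2] 39),
   ([26, 31, 44, 46], .word [2, 1, 2, 0, 1, 2, 3, 2, 1, 2, 0, 1, 2, 3, 2, 1, 2, 0, 1, 2, 1, 0] 55),
   ([26, 31, 42], .word [1, 2, 0, 1, 2, 3, 2, 1, 2, 0, 1, 2, 3, 2] 37),
   ([26, 31, 42, 46], .word [2, 1, 2, 0, 1, 2, 3, 2, 1, 2, 0, 1, 2, 3, 2] 57),
   ([26, 28], .word [2, 1, 2, 3, 1, 2, 0, 1, 0] 3),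
   ([26, 28, 46], .word [1, 2, 3, 2, 1, 2, 0, 1, 2, 3, 2, 1, 2, 0, 1, 2] 33),
   ([26, 28, 31], .word [2, 0, 1, 2, 3, 2, 1, 2, 0, 1, 2, 3, 1, 2] 39),
   ([26, 28, 31, 46], .word [2, 1, 2, 3, 2, 1, 2, 0, 1, 2, 3, 2, 1, 2, 0, 1, 2] 55),
   ([25], .word [3, 2, 1, 2, 3, 0, 1] 0),
   ([25, 47], .word [0, 1, 2, 3, 1, 2, 0, 1, 2, 3, 0, 1, 2] 5),
   ([25, 44], .word [1, 2, 3, 0, 1] 3),
   ([25, 44, 47], .word [3, 2, 1, 2, 0, 1, 2, 3, 2, 1, 2, 0, 1, 2, 3, 1, 2, 0, 1, 2, 1, 0] 33),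
   ([25, 41], .word [3, 2, 0, 1, 2, 3, 1, 2, 0, 1, 2, 0] 5),
   ([25, 41, 47], .word [1, 2, 3, 1, 2, 0, 1, 2, 3, 1, 2, 0, 1, 2, 0] 37),
   ([25, 40], .word [1, 2, 3, 0, 1, 0] 3),
   ([25, 40, 47], .word [3, 2, 1, 2, 0, 1, 2, 3, 2, 1, 2, 0, 1, 2, 3, 1, 2, 0, 1, 2, 1] 33),
   ([25, 40, 41], .word [2, 3, 1, 2, 0, 1, 2, 3, 2, 1, 2, 0, 1, 2, 0] 39),
   ([25, 40, 41, 47], .word [3, 2, 1, 2, 0, 1, 2, 3, 2, 1, 2, 0, 1, 2, 3, 2, 1, 2, 0, 1, 2, 1] 55),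
   ([25, 37], .word [2, 1, 2, 0, 1, 2, 3, 0, 1] 3),
   ([25, 37, 47], .word [0, 1, 2, 3, 1, 2, 0, 1, 2, 3, 2, 1, 2, 0, 1, 2] 39),
   ([25, 37, 41], .word [3, 1, 2, 0, 1, 2, 3, 2, 1, 2, 0, 1, 2, 0, 1, 0] 33),
   ([25, 37, 41, 47], .word [2, 3, 1, 2, 0, 1, 2, 3, 2, 1, 2, 0, 1, 2, 0, 1, 0] 55),
   ([25, 36], .word [1, 2, 3, 1, 2, 0, 1] 3),
   ([25, 36, 47], .word [3, 2, 1, 2, 0, 1, 2, 3, 2, 1, 2, 0, 1, 2, 3, 1, 2, 0] 33),
   ([25, 36, 41], .word [2, 3, 1, 2, 0, 1, 2, 3, 1, 2, 0, 1, 2, 0] 39),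
   ([25, 36, 41, 47], .word [3, 2, 1, 2, 0, 1, 2, 3, 2, 1, 2, 0, 1, 2, 3, 2, 1, 2, 0] 55),
   ([25, 33], .word [2, 1, 2, 0, 1, 2, 3, 2, 0, 1] 3),
   ([25, 33, 47], .word [0, 1, 2, 3, 1, 2, 0, 1, 2, 3, 2, 0, 1, 2, 0] 39),
   ([25, 33, 41], .word [3, 1, 2, 0, 1, 2, 3, 2, 0, 1, 2, 1, 0] 33),
   ([25, 33, 41, 47], .word [2, 3, 1, 2, 0, 1, 2, 3, 2, 0, 1, 2, 1, 0] 55),
   ([25, 30], .word [3, 2, 0, 1, 2, 3, 1, 2, 0, 1, 2] 5),
   ([25, 30, 47], .word [1, 2, 3, 1, 2, 0, 1, 2, 3, 1, 2, 0, 1, 2] 37),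
   ([25, 30, 44], .word [2, 3, 1, 2, 0, 1, 2, 3, 2, 1, 2, 0, 1, 2] 39),
   ([25, 30, 44, 47], .word [3, 2, 1, 2, 0, 1, 2, 3, 2, 1, 2, 0, 1, 2, 3, 2, 1, 2, 0, 1, 2, 1, 0] 55),
   ([25, 30, 41], .word [3, 1, 2, 0, 1, 2, 3, 2, 1, 2, 0, 1, 2] 37),
   ([25, 30, 41, 47], .word [2, 3, 1, 2, 0, 1, 2, 3, 2, 1, 2, 0, 1, 2] 57),
   ([25, 29], .word [1, 2, 3, 1, 2, 0, 1, 0] 3),
   ([25, 29, 47], .word [3, 2, 1, 2, 0, 1, 2, 3, 2, 1, 2, 0, 1, 2, 3, 1, 2] 33),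
   ([25, 29, 30], .word [2, 3, 1, 2, 0, 1, 2, 3, 1, 2, 0, 1, 2] 39),
   ([25, 29, 30, 47], .word [3, 2, 1, 2, 0, 1, 2, 3, 2, 1, 2, 0, 1, 2, 3, 2, 1, 2] 55),
   ([24], .word [3, 2, 1, 2, 0, 1, 2] 0),
   ([24, 45], .word [0, 1, 2, 3, 2, 1, 2, 0, 1, 2, 3, 0, 1] 5),
   ([24, 44], .word [1, 2, 0, 1, 2] 3),
   ([24, 44, 45], .word [1, 2, 0, 1, 2, 3, 2, 1, 2, 0, 1, 2, 3, 2, 0, 1, 2, 0, 1, 0] 33),
   ([24, 43], .word [0, 1, 2, 3, 2, 1, 2, 0, 1, 2, 3, 0] 5),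
   ([24, 43, 45], .word [1, 2, 0, 1, 2, 3, 2, 1, 2, 0, 1, 2, 3, 1, 0] 37),
   ([24, 40], .word [1, 2, 0, 1, 2, 0] 3),
   ([24, 40, 45], .word [1, 2, 0, 1, 2, 3, 2, 1, 2, 0, 1, 2, 3, 2, 0, 1, 2, 0, 1] 33),
   ([24, 40, 43], .word [2, 1, 2, 0, 1, 2, 3, 2, 1, 2, 0, 1, 2, 3, 0] 39),
   ([24, 40, 43, 45], .word [2, 1, 2, 0, 1, 2, 3, 2, 1, 2, 0, 1, 2, 3, 2, 0, 1, 2, 0, 1] 55),
   ([24, 39], .word [1, 2, 0, 1, 2, 0, 1] 3),
   ([24, 39, 45], .word [2, 1, 2, 0, 1, 2, 3, 2, 1, 2, 0, 1, 2, 3, 0, 1] 39),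
   ([24, 39, 43], .word [1, 2, 0, 1, 2, 3, 2, 1, 2, 0, 1, 2, 3, 2, 0, 1, 2, 0] 33),
   ([24, 39, 43, 45], .word [2, 1, 2, 0, 1, 2, 3, 2, 1, 2, 0, 1, 2, 3, 2, 0, 1, 2, 0] 55),
   ([24, 34], .word [2, 1, 2, 3, 1, 2, 0, 1, 2] 3),
   ([24, 34, 45], .word [1, 2, 3, 2, 1, 2, 0, 1, 2, 3, 2, 1, 2, 0, 1, 0] 33),
   ([24, 34, 43], .word [2, 0, 1, 2, 3, 2, 1, 2, 0, 1, 2, 3, 1, 0] 39),
   ([24, 34, 43, 45], .word [2, 1, 2, 3, 2, 1, 2, 0, 1, 2, 3, 2, 1, 2, 0, 1, 0] 55),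
   ([24, 33], .word [2, 1, 2, 3, 1, 2, 0, 1, 2, 1] 3),
   ([24, 33, 45], .word [2, 0, 1, 2, 3, 2, 1, 2, 0, 1, 2, 3, 0, 1, 0] 39),
   ([24, 33, 43], .word [1, 2, 3, 2, 1, 2, 0, 1, 2, 3, 2, 1, 2, 1, 0] 33),
   ([24, 33, 43, 45], .word [2, 1, 2, 3, 2, 1, 2, 0, 1, 2, 3, 2, 1, 2, 1, 0] 55),
   ([24, 32], .word [0, 1, 2, 3, 2, 1, 2, 0, 1, 2, 3] 5),
   ([24, 32, 45], .word [1, 2, 0, 1, 2, 3, 2, 1, 2, 0, 1, 2, 3, 1] 37),
   ([24, 32, 44], .word [2, 1, 2, 0, 1, 2, 3, 2, 1, 2, 0, 1, 2, 3] 39),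
   ([24, 32, 44, 45], .word [2, 1, 2, 0, 1, 2, 3, 2, 1, 2, 0, 1, 2, 3, 2, 0, 1, 2, 0, 1, 0] 55),
   ([24, 32, 43], .word [1, 2, 0, 1, 2, 3, 2, 1, 2, 0, 1, 2, 3] 37),
   ([24, 32, 43, 45], .word [2, 1, 2, 0, 1, 2, 3, 2, 1, 2, 0, 1, 2, 3] 57),
   ([24, 27], .word [2, 1, 2, 3, 1, 2, 0, 1, 2, 0] 3),
   ([24, 27, 45], .word [1, 2, 3, 2, 1, 2, 0, 1, 2, 3, 2, 1, 2, 0, 1] 33),
   ([24, 27, 32], .word [2, 0, 1, 2, 3, 2, 1, 2, 0, 1, 2, 3, 1] 39),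
   ([24, 27, 32, 45], .word [2, 1, 2, 3, 2, 1, 2, 0, 1, 2, 3, 2, 1, 2, 0, 1] 55)]

/-- The tree of cases for F4. -/
def invTreeF4 : DescTree :=
(.branch (.branch (.branch (.branch (.branch (.branch (.branch (.branch (.branch (.branch (.branch (.branch (.branch (.branch (.branch (.branch (.branch (.branch (.branch (.branch (.branch (.branch (.branch (.branch .leaf
.leaf)
(.kill 24 .leaf))
(.kill 25 (.kill 26 .leaf)))
(.branch (.branch (.branch .leaf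
.leaf)
(.kill 24 .leaf))
(.kill 25 (.kill 26 .leaf))))
(.kill 27 (.branch (.kill 30 (.kill 31 .leaf))
(.kill 25 (.kill 26 .leaf)))))
(.kill 25 (.kill 28 (.kill 30 (.branch (.kill 32 .leaf)
(.kill 24 .leaf))))))
(.kill 24 (.kill 26 (.kill 29 (.kill 31 (.kill 32 (.branch .leaf
.leaf)))))))
(.branch (.branch (.branch (.kill 33 (.branch (.branch (.branch .leaf
.leaf)
(.kill 24 .leaf))
(.kill 25 (.kill 26 .leaf))))
(.kill 27 (.branch (.kill 30 (.kill 31 .leaf))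
(.kill 25 (.kill 26 .leaf)))))
(.kill 25 (.kill 28 (.kill 30 (.branch (.kill 32 .leaf)
(.kill 24 .leaf))))))
(.kill 24 (.kill 26 (.kill 29 (.kill 31 (.kill 32 (.branch .leaf
.leaf))))))))
(.kill 27 (.branch (.branch (.branch (.kill 34 (.branch (.branch (.branch .leaf
.leaf)
(.kill 24 .leaf))
(.kill 25 (.kill 26 .leaf))))
(.kill 34 (.branch (.kill 30 (.kill 31 .leaf))
(.kill 25 (.kill 26 .leaf)))))
(.kill 25 (.kill 28 (.kill 30 (.branch (.kill 32 .leaf)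
(.kill 24 .leaf))))))
(.kill 24 (.kill 26 (.kill 29 (.kill 31 (.kill 32 (.branch .leaf
.leaf)))))))))
(.kill 25 (.kill 28 (.branch (.branch (.branch (.kill 35 (.branch (.branch (.branch .leaf
.leaf)
(.kill 24 .leaf))
(.branch (.kill 26 .leaf)
(.kill 24 .leaf))))
(.kill 27 (.branch (.kill 30 (.kill 31 .leaf))
(.kill 30 (.kill 26 .leaf)))))
(.branch (.kill 35 (.kill 30 (.branch (.kill 32 .leaf)
(.kill 24 .leaf))))
(.kill 27 (.kill 30 (.branch (.kill 31 .leaf)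
(.kill 24 .leaf))))))
(.kill 24 (.kill 26 (.kill 29 (.kill 31 (.kill 32 (.branch .leaf
.leaf))))))))))
(.kill 24 (.kill 26 (.kill 29 (.branch (.branch (.branch (.kill 36 (.branch (.branch (.branch .leaf
.leaf)
(.branch .leaf
.leaf))
(.kill 25 (.branch .leaf
.leaf))))
(.kill 27 (.branch (.kill 30 (.kill 31 .leaf))
(.kill 25 (.kill 31 .leaf)))))
(.kill 25 (.kill 28 (.kill 30 (.branch (.kill 32 .leaf)
(.kill 32 .leaf))))))
(.branch (.branch (.kill 36 (.kill 31 (.kill 32 (.branch .leaf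
.leaf))))
(.kill 27 (.kill 31 (.kill 30 (.branch .leaf
.leaf)))))
(.kill 25 (.kill 28 (.kill 30 (.kill 32 (.branch .leaf
.leaf)))))))))))
(.branch (.kill 27 (.kill 28 (.kill 30 (.branch (.branch (.branch (.kill 37 (.branch (.branch (.branch .leaf
.leaf)
(.kill 24 .leaf))
(.kill 25 (.kill 26 .leaf))))
(.kill 37 (.branch (.branch (.kill 31 .leaf)
(.kill 24 .leaf))
(.kill 25 (.kill 26 .leaf)))))
(.kill 25 (.kill 37 (.branch (.branch (.kill 32 .leaf)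
(.kill 24 .leaf))
(.branch (.kill 26 .leaf)
(.kill 24 .leaf))))))
(.kill 24 (.kill 26 (.kill 29 (.kill 31 (.kill 32 (.branch .leaf
.leaf))))))))))
(.kill 24 (.kill 26 (.kill 29 (.branch (.branch (.branch .dead
.dead)
(.kill 25 .dead))
(.branch (.branch .dead
.dead)
(.kill 25 .dead))))))))
(.kill 24 (.kill 27 (.branch (.kill 29 (.kill 31 (.branch (.branch (.branch (.kill 38 (.branch (.branch (.branch .leaf
.leaf)
(.branch .leaf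
.leaf))
(.kill 25 (.kill 26 .leaf))))
(.kill 38 (.branch (.kill 30 (.branch .leaf
.leaf))
(.kill 25 (.kill 26 .leaf)))))
(.kill 25 (.kill 28 (.kill 30 (.branch (.kill 32 .leaf)
(.kill 32 .leaf))))))
(.branch (.kill 26 (.kill 38 (.branch (.kill 32 (.branch .leaf
.leaf))
(.kill 25 (.branch .leaf
.leaf)))))
(.kill 25 (.kill 28 (.kill 30 (.kill 32 (.branch .leaf
.leaf)))))))))
(.kill 25 (.kill 28 (.branch (.branch (.branch .dead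
.dead)
(.branch .dead
.dead))
(.branch (.kill 26 .dead)
(.kill 26 .dead)))))))))
(.kill 25 (.kill 26 (.kill 28 (.kill 29 (.branch (.kill 32 (.branch (.branch (.branch (.kill 39 (.branch (.branch (.branch .leaf
.leaf)
(.kill 24 .leaf))
(.branch (.branch .leaf
.leaf)
(.kill 24 .leaf))))
(.kill 27 (.branch (.kill 30 (.kill 31 .leaf))
(.kill 30 (.kill 31 .leaf)))))
(.branch (.kill 39 (.kill 30 (.branch (.branch .leaf
.leaf)
(.kill 24 .leaf))))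
(.kill 27 (.kill 30 (.branch (.kill 31 .leaf)
(.kill 24 .leaf))))))
(.kill 24 (.branch (.kill 39 (.kill 31 (.branch (.branch .leaf
.leaf)
(.branch .leaf
.leaf))))
(.kill 27 (.kill 31 (.kill 30 (.branch .leaf
.leaf))))))))
(.kill 27 (.branch (.branch (.branch .dead
.dead)
(.branch .dead
.dead))
(.kill 24 (.branch .dead
.dead))))))))))
(.kill 27 (.kill 28 (.kill 29 (.kill 30 (.kill 31 (.kill 32 (.branch (.branch (.branch (.branch (.kill 40 (.branch (.branch (.branch .leaf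
.leaf)
(.kill 24 .leaf))
(.kill 25 (.kill 26 .leaf))))
(.kill 40 (.branch (.branch (.branch .leaf
.leaf)
(.kill 24 .leaf))
(.kill 25 (.kill 26 .leaf)))))
(.kill 25 (.kill 40 (.branch (.branch (.branch .leaf
.leaf)
(.kill 24 .leaf))
(.branch (.kill 26 .leaf)
(.kill 24 .leaf))))))
(.kill 24 (.kill 26 (.kill 40 (.branch (.branch (.branch .leaf
.leaf)
(.branch .leaf
.leaf))
(.kill 25 (.branch .leaf
.leaf)))))))
(.branch (.branch (.branch .dead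
.dead)
(.kill 25 .dead))
(.kill 24 (.kill 26 .dead)))))))))))
(.branch (.branch (.branch (.branch (.branch (.branch (.kill 33 (.kill 34 (.branch (.branch (.branch (.branch (.branch (.kill 41 (.kill 42 .leaf))
(.kill 25 (.kill 26 .leaf)))
(.branch (.kill 41 (.kill 42 .leaf))
(.kill 25 (.kill 26 .leaf))))
(.kill 27 (.branch (.kill 30 (.kill 31 .leaf))
(.kill 25 (.kill 26 .leaf)))))
(.kill 25 (.kill 28 (.kill 30 (.kill 41 .dead)))))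
(.kill 24 (.kill 26 (.kill 29 (.kill 31 .dead)))))))
(.kill 25 (.kill 28 (.branch (.branch (.branch (.kill 35 (.branch (.kill 41 (.kill 42 .leaf))
(.kill 41 (.kill 26 .leaf))))
(.kill 27 (.branch (.kill 30 (.kill 31 .leaf))
(.kill 30 (.kill 26 .leaf)))))
(.branch (.kill 35 (.kill 30 (.kill 41 .dead)))
(.kill 27 (.kill 30 (.kill 41 .dead)))))
(.kill 24 (.kill 26 (.kill 29 (.kill 31 .dead))))))))
(.kill 24 (.kill 26 (.kill 29 (.branch (.branch (.branch (.kill 36 (.branch (.kill 41 (.kill 42 .leaf))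
(.kill 25 (.kill 42 .leaf))))
(.kill 27 (.branch (.kill 30 (.kill 31 .leaf))
(.kill 25 (.kill 31 .leaf)))))
(.kill 25 (.kill 28 (.kill 30 (.kill 41 .dead)))))
(.branch (.branch (.kill 36 (.kill 31 .dead))
(.kill 27 (.kill 31 .dead)))
(.kill 25 (.kill 28 (.kill 30 .dead)))))))))
(.branch (.kill 27 (.kill 28 (.kill 30 (.branch (.branch (.branch (.kill 37 (.branch (.kill 41 (.kill 42 .leaf))
(.kill 25 (.kill 26 .leaf))))
(.kill 37 (.branch (.kill 41 (.kill 31 .leaf))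
(.kill 25 (.kill 26 .leaf)))))
(.kill 25 (.kill 37 (.branch (.kill 41 .dead)
(.kill 41 .dead)))))
(.kill 24 (.kill 26 (.kill 29 (.kill 31 .dead))))))))
(.kill 24 (.kill 26 (.kill 29 (.branch (.branch (.branch .dead
.dead)
(.kill 25 .dead))
(.branch (.branch .dead
.dead)
(.kill 25 .dead))))))))
(.kill 24 (.kill 27 (.branch (.kill 29 (.kill 31 (.branch (.branch (.branch (.kill 38 (.branch (.kill 41 (.kill 42 .leaf))
(.kill 25 (.kill 26 .leaf))))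
(.kill 38 (.branch (.kill 30 (.kill 42 .leaf))
(.kill 25 (.kill 26 .leaf)))))
(.kill 25 (.kill 28 (.kill 30 (.kill 41 .dead)))))
(.branch (.kill 26 (.kill 38 (.branch .dead
.dead)))
(.kill 25 (.kill 28 (.kill 30 .dead)))))))
(.kill 25 (.kill 28 (.branch (.branch (.branch .dead
.dead)
(.branch .dead
.dead))
(.branch (.kill 26 .dead)
(.kill 26 .dead)))))))))
(.kill 25 (.kill 26 (.kill 28 (.kill 29 (.kill 33 .dead))))))
(.kill 27 (.kill 28 (.kill 29 (.kill 30 (.kill 31 .dead)))))))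
(.kill 25 (.branch (.branch (.branch (.branch (.branch (.kill 33 (.branch (.kill 35 (.branch (.branch (.branch (.branch (.kill 41 (.branch (.kill 43 .leaf)
(.kill 24 .leaf)))
(.kill 41 (.branch (.kill 43 .leaf)
(.kill 24 .leaf))))
(.kill 27 (.kill 41 (.kill 30 .dead))))
(.branch (.kill 28 (.kill 30 (.branch (.kill 32 .leaf)
(.kill 24 .leaf))))
(.kill 27 (.kill 30 (.branch .dead
.dead)))))
(.kill 24 (.kill 26 (.kill 29 .dead)))))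
(.kill 27 (.branch (.branch (.branch (.kill 34 (.kill 41 (.branch (.kill 43 .leaf)
(.kill 24 .leaf))))
(.kill 34 (.kill 41 (.kill 30 .dead))))
(.branch (.kill 28 (.kill 30 (.branch (.kill 32 .leaf)
(.kill 24 .leaf))))
(.kill 28 (.kill 30 (.branch .dead
.dead)))))
(.kill 24 (.kill 26 (.kill 29 .dead)))))))
(.kill 24 (.kill 26 (.kill 29 (.branch (.branch (.branch (.kill 36 (.kill 41 (.branch (.kill 43 .leaf)
(.kill 43 .leaf))))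
(.kill 27 (.kill 41 (.kill 30 .dead))))
(.branch (.kill 28 (.kill 30 (.branch (.kill 32 .leaf)
(.kill 32 .leaf))))
(.kill 27 (.kill 30 (.branch .dead
.dead)))))
(.branch (.branch (.kill 36 .dead)
(.kill 27 .dead))
(.branch (.kill 28 .dead)
(.kill 27 .dead))))))))
(.branch (.kill 27 (.kill 28 (.kill 30 (.branch (.branch (.branch (.kill 37 (.kill 41 (.branch (.kill 43 .leaf)
(.kill 24 .leaf))))
(.kill 37 (.kill 41 (.branch .dead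
.dead))))
(.branch (.kill 37 (.kill 41 (.branch (.kill 32 .leaf)
(.kill 24 .leaf))))
(.kill 37 (.kill 41 (.branch .dead
.dead)))))
(.kill 24 (.kill 26 (.kill 29 .dead)))))))
(.kill 24 (.kill 26 (.kill 29 (.branch (.branch (.branch .dead
.dead)
(.branch .dead
.dead))
(.branch (.branch .dead
.dead)
(.branch .dead
.dead))))))))
(.kill 24 (.kill 27 (.kill 33 (.kill 29 .dead)))))
(.branch (.kill 26 (.kill 28 (.kill 29 (.branch (.kill 32 (.branch (.branch (.branch (.kill 39 (.kill 41 (.branch (.kill 43 .leaf)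
(.kill 24 .leaf))))
(.kill 27 (.kill 41 (.kill 30 .dead))))
(.branch (.kill 39 (.kill 30 (.branch (.kill 43 .leaf)
(.kill 24 .leaf))))
(.kill 27 (.kill 30 (.branch .dead
.dead)))))
(.kill 24 (.branch (.kill 39 .dead)
(.kill 27 .dead)))))
(.kill 27 (.branch (.branch (.branch .dead
.dead)
(.branch .dead
.dead))
(.kill 24 (.branch .dead
.dead))))))))
(.kill 24 (.kill 27 (.kill 29 (.branch .dead
.dead))))))
(.kill 27 (.kill 28 (.kill 29 (.kill 30 .dead)))))))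
(.kill 24 (.kill 26 (.branch (.branch (.branch (.branch (.kill 33 (.branch (.branch (.kill 36 (.branch (.branch (.branch (.branch (.kill 42 (.kill 43 (.branch .leaf
.leaf)))
(.kill 42 (.kill 43 (.branch .leaf
.leaf))))
(.kill 27 (.kill 42 .dead)))
(.kill 25 (.kill 28 .dead)))
(.branch (.branch (.kill 29 (.kill 31 (.kill 32 (.branch .leaf
.leaf))))
(.kill 27 (.kill 31 .dead)))
(.kill 25 (.kill 28 .dead)))))
(.kill 27 (.branch (.branch (.branch (.kill 34 (.kill 42 (.kill 43 (.branch .leaf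
.leaf))))
(.kill 34 (.kill 42 .dead)))
(.kill 25 (.kill 28 .dead)))
(.branch (.branch (.kill 29 (.kill 31 (.kill 32 (.branch .leaf
.leaf))))
(.kill 29 (.kill 31 .dead)))
(.kill 25 (.kill 28 .dead))))))
(.kill 25 (.kill 28 (.branch (.branch (.branch (.kill 35 (.kill 42 (.kill 43 (.branch .leaf
.leaf))))
(.kill 27 (.kill 42 .dead)))
(.branch (.kill 35 .dead)
(.kill 27 .dead)))
(.branch (.branch (.kill 29 (.kill 31 (.kill 32 (.branch .leaf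
.leaf))))
(.kill 27 (.kill 31 .dead)))
(.branch (.kill 29 .dead)
(.kill 27 .dead))))))))
(.kill 33 (.kill 27 (.kill 28 .dead))))
(.branch (.kill 27 (.branch (.kill 29 (.kill 31 (.branch (.branch (.branch (.kill 38 (.kill 42 (.kill 43 (.branch .leaf
.leaf))))
(.kill 38 (.kill 42 .dead)))
(.kill 25 (.kill 28 .dead)))
(.branch (.branch (.kill 38 (.kill 42 (.kill 32 (.branch .leaf
.leaf))))
(.kill 38 (.kill 42 .dead)))
(.kill 25 (.kill 28 .dead))))))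
(.kill 25 (.kill 28 (.branch (.branch (.branch .dead
.dead)
(.branch .dead
.dead))
(.branch (.branch .dead
.dead)
(.branch .dead
.dead)))))))
(.kill 27 (.branch (.kill 28 .dead)
(.kill 25 .dead)))))
(.kill 25 (.branch (.kill 28 (.kill 29 (.branch (.kill 32 (.branch (.branch (.branch (.kill 39 (.kill 42 (.kill 43 (.branch .leaf
.leaf))))
(.kill 27 (.kill 42 .dead)))
(.branch (.kill 39 .dead)
(.kill 27 .dead)))
(.branch (.branch (.kill 39 (.kill 31 (.kill 43 (.branch .leaf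
.leaf))))
(.kill 27 (.kill 31 .dead)))
(.branch (.kill 39 .dead)
(.kill 27 .dead)))))
(.kill 27 (.branch (.branch (.branch .dead
.dead)
(.branch .dead
.dead))
(.branch (.branch .dead
.dead)
(.branch .dead
.dead)))))))
(.kill 28 (.kill 27 (.branch .dead
.dead))))))
(.kill 27 (.kill 28 (.kill 29 .dead)))))))
(.branch (.branch (.branch (.branch (.branch (.branch (.kill 33 (.branch (.kill 34 (.kill 35 (.kill 37 (.branch (.branch (.branch (.kill 41 (.branch (.branch (.branch .leaf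
.leaf)
(.kill 24 .leaf))
(.kill 25 (.kill 26 .leaf))))
(.kill 27 (.branch (.kill 30 (.kill 31 .leaf))
(.kill 25 (.kill 26 .leaf)))))
(.kill 25 (.kill 28 (.kill 30 (.branch (.kill 32 .leaf)
(.kill 24 .leaf))))))
(.kill 24 (.kill 26 .dead))))))
(.kill 24 (.kill 26 .dead))))
(.kill 24 (.kill 27 (.kill 34 .dead))))
(.kill 25 (.kill 26 (.kill 28 .dead))))
(.kill 27 (.kill 28 .dead)))
(.branch (.branch (.branch (.kill 33 (.branch (.kill 34 (.kill 35 (.kill 37 (.branch (.branch (.branch (.kill 41 (.branch (.branch (.kill 42 .leaf)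
(.kill 24 .leaf))
(.kill 25 (.kill 26 .leaf))))
(.kill 27 (.branch (.kill 30 (.kill 31 .leaf))
(.kill 25 (.kill 26 .leaf)))))
(.kill 25 (.kill 28 (.kill 30 (.branch .dead
.dead)))))
(.kill 24 (.kill 26 .dead))))))
(.kill 24 (.kill 26 .dead))))
(.kill 24 (.kill 27 (.kill 34 .dead))))
(.kill 25 (.kill 26 (.kill 28 .dead))))
(.kill 27 (.kill 28 .dead))))
(.kill 25 (.branch (.branch (.branch (.kill 33 (.branch (.kill 34 (.kill 35 (.kill 37 (.branch (.branch (.branch (.kill 41 (.branch (.branch (.kill 43 .leaf)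
(.kill 24 .leaf))
(.branch (.kill 26 .leaf)
(.kill 24 .leaf))))
(.kill 27 (.branch (.kill 30 .dead)
(.kill 30 .dead))))
(.branch (.kill 28 (.kill 30 (.branch (.kill 32 .leaf)
(.kill 24 .leaf))))
(.kill 27 (.kill 30 (.branch .dead
.dead)))))
(.kill 24 (.kill 26 .dead))))))
(.kill 24 (.kill 26 .dead))))
(.kill 24 (.kill 27 (.kill 34 .dead))))
(.branch (.kill 26 (.kill 28 .dead))
(.kill 24 (.kill 27 .dead))))
(.kill 27 (.kill 28 .dead)))))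
(.kill 24 (.kill 26 (.branch (.branch (.branch (.kill 33 (.branch (.kill 34 (.kill 35 (.kill 36 (.branch (.branch (.branch (.kill 41 (.kill 42 (.kill 43 (.branch .leaf
.leaf))))
(.kill 27 (.kill 42 .dead)))
(.kill 25 (.kill 28 .dead)))
(.branch (.branch .dead
.dead)
(.kill 25 .dead))))))
(.kill 34 (.kill 35 .dead))))
(.kill 33 (.kill 27 (.kill 34 .dead))))
(.kill 25 (.kill 33 (.kill 28 .dead))))
(.kill 27 (.kill 28 .dead)))))))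
(.kill 24 (.branch (.branch (.branch (.branch (.branch (.kill 33 (.branch (.kill 34 (.branch (.kill 36 (.kill 38 (.branch (.branch (.branch (.kill 42 (.branch (.branch (.branch .leaf
.leaf)
(.branch .leaf
.leaf))
(.kill 25 (.kill 26 .leaf))))
(.kill 27 (.branch (.kill 30 (.kill 31 .leaf))
(.kill 25 (.kill 26 .leaf)))))
(.kill 25 .dead))
(.branch (.kill 26 (.kill 29 (.kill 31 (.kill 32 (.branch .leaf
.leaf)))))
(.kill 25 .dead)))))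
(.kill 25 .dead)))
(.kill 34 (.kill 27 .dead))))
(.kill 25 (.kill 26 .dead)))
(.kill 27 .dead))
(.branch (.branch (.kill 33 (.branch (.kill 34 (.branch (.kill 36 (.kill 38 (.branch (.branch (.branch (.kill 42 (.branch (.kill 41 (.branch .leaf
.leaf))
(.kill 25 (.kill 26 .leaf))))
(.kill 27 (.branch (.kill 30 (.kill 31 .leaf))
(.kill 25 (.kill 26 .leaf)))))
(.kill 25 .dead))
(.branch (.kill 26 (.kill 29 (.kill 31 .dead)))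
(.kill 25 .dead)))))
(.kill 25 .dead)))
(.kill 34 (.kill 27 .dead))))
(.kill 25 (.kill 26 .dead)))
(.kill 27 .dead)))
(.kill 25 (.branch (.branch (.kill 33 (.branch (.kill 34 (.branch (.kill 36 (.kill 35 (.branch (.branch (.branch (.kill 42 (.kill 41 (.branch (.kill 43 .leaf)
(.kill 43 .leaf))))
(.kill 27 (.kill 41 (.kill 30 .dead))))
(.branch .dead
.dead))
(.branch (.kill 26 (.kill 29 .dead))
(.kill 26 .dead)))))
(.kill 36 .dead)))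
(.kill 34 (.kill 27 .dead))))
(.kill 33 (.kill 26 .dead)))
(.kill 27 .dead))))
(.branch (.kill 26 (.branch (.branch (.kill 33 (.branch (.kill 34 (.branch (.kill 36 (.kill 38 (.branch (.branch (.branch (.kill 42 (.branch (.kill 43 (.branch .leaf
.leaf))
(.kill 25 (.branch .leaf
.leaf))))
(.kill 27 (.branch .dead
.dead)))
(.kill 25 .dead))
(.branch (.branch (.kill 29 (.kill 31 (.kill 32 (.branch .leaf
.leaf))))
(.kill 27 (.kill 31 .dead)))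
(.kill 25 .dead)))))
(.kill 25 .dead)))
(.kill 34 (.kill 27 .dead))))
(.kill 25 (.branch .dead
.dead)))
(.kill 27 .dead)))
(.kill 25 (.branch (.branch (.kill 33 (.branch (.kill 34 (.branch (.kill 36 (.kill 35 (.branch (.branch (.branch (.kill 42 (.kill 41 (.kill 43 (.branch .leaf
.leaf))))
(.kill 27 (.kill 41 .dead)))
(.branch .dead
.dead))
(.branch (.branch (.kill 29 .dead)
(.kill 27 .dead))
(.branch .dead
.dead)))))
(.kill 36 .dead)))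
(.kill 34 (.kill 27 .dead))))
(.kill 33 (.branch .dead
.dead)))
(.kill 27 .dead)))))))
(.kill 25 (.kill 26 (.branch (.branch (.branch (.branch (.kill 33 (.branch (.branch (.kill 35 (.kill 36 (.branch (.kill 39 (.branch (.branch (.branch (.kill 43 (.branch (.branch (.branch .leaf
.leaf)
(.kill 24 .leaf))
(.branch (.branch .leaf
.leaf)
(.kill 24 .leaf))))
.dead)
(.branch (.kill 28 (.kill 30 (.branch (.kill 32 .leaf)
(.kill 24 .leaf))))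
.dead))
(.kill 24 (.branch (.kill 29 (.kill 31 (.kill 32 (.branch .leaf
.leaf))))
.dead))))
.dead)))
(.kill 35 .dead))
(.kill 24 .dead)))
.dead)
(.branch (.kill 33 (.branch (.branch (.kill 35 (.kill 36 (.branch (.kill 34 (.branch (.branch (.branch (.kill 43 (.branch (.kill 41 (.kill 42 .leaf))
(.kill 41 (.kill 42 .leaf))))
.dead)
(.branch (.kill 28 (.kill 30 (.kill 41 .dead)))
.dead))
(.kill 24 (.branch (.kill 29 (.kill 31 .dead))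
.dead))))
.dead)))
(.kill 35 .dead))
(.kill 24 .dead)))
.dead))
(.branch (.branch (.kill 33 (.branch (.branch (.kill 35 (.kill 36 (.branch (.kill 39 (.branch (.branch (.branch (.kill 43 (.kill 41 (.branch (.branch .leaf
.leaf)
(.kill 24 .leaf))))
.dead)
(.branch (.kill 28 (.kill 30 (.branch (.kill 32 .leaf)
(.kill 24 .leaf))))
.dead))
(.kill 24 (.branch (.kill 29 .dead)
.dead))))
.dead)))
(.kill 35 .dead))
(.kill 24 .dead)))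
.dead)
(.branch (.kill 33 (.branch (.branch (.kill 35 (.kill 36 (.branch (.kill 34 (.branch (.branch (.branch (.kill 43 (.kill 41 (.branch (.kill 42 .leaf)
(.kill 24 .leaf))))
.dead)
(.branch (.kill 28 (.kill 30 (.branch .dead
.dead)))
.dead))
(.kill 24 (.branch (.kill 29 .dead)
.dead))))
.dead)))
(.kill 35 .dead))
(.kill 24 .dead)))
.dead)))
(.kill 24 (.branch (.branch (.kill 33 (.branch (.branch (.kill 35 (.kill 36 (.branch (.kill 39 (.branch (.branch (.branch (.kill 43 (.kill 42 (.branch (.branch .leaf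
.leaf)
(.branch .leaf
.leaf))))
.dead)
(.branch (.kill 28 .dead)
.dead))
(.branch (.branch (.kill 29 (.kill 31 (.kill 32 (.branch .leaf
.leaf))))
.dead)
(.branch (.kill 28 .dead)
.dead))))
.dead)))
(.kill 35 .dead))
(.branch .dead
.dead)))
.dead)
(.branch (.kill 33 (.branch (.branch (.kill 35 (.kill 36 (.branch (.kill 34 (.branch (.branch (.branch (.kill 43 (.kill 42 (.kill 41 (.branch .leaf
.leaf))))
.dead)
(.branch (.kill 28 .dead)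
.dead))
(.branch (.branch (.kill 29 (.kill 31 .dead))
.dead)
(.branch (.kill 28 .dead)
.dead))))
.dead)))
(.kill 35 .dead))
(.branch .dead
.dead)))
.dead)))))))
(.branch (.branch (.kill 27 (.branch (.branch (.kill 30 (.branch (.branch (.branch (.kill 34 (.branch (.branch (.kill 37 (.branch (.branch (.branch (.kill 41 (.branch (.branch (.branch (.kill 45 .leaf)
(.kill 24 .leaf))
(.kill 25 .dead))
(.branch (.branch (.kill 45 .leaf)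
(.kill 24 .leaf))
(.kill 25 .dead))))
(.kill 25 (.kill 28 (.branch (.branch (.kill 32 .leaf)
(.kill 24 .leaf))
(.branch .dead
.dead)))))
(.kill 24 .dead))
(.branch (.branch (.kill 41 (.kill 33 (.branch (.branch (.kill 45 .leaf)
(.kill 24 .leaf))
(.kill 25 .dead))))
(.kill 25 (.kill 28 (.branch (.branch (.kill 32 .leaf)
(.kill 24 .leaf))
(.branch .dead
.dead)))))
(.kill 24 .dead))))
(.kill 25 (.kill 28 (.branch (.branch (.kill 41 (.kill 35 (.branch (.branch (.kill 45 .leaf)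
(.kill 24 .leaf))
(.branch .dead
.dead))))
(.kill 41 (.kill 35 (.branch (.branch (.kill 32 .leaf)
(.kill 24 .leaf))
(.branch .dead
.dead)))))
(.kill 24 .dead)))))
(.kill 24 .dead)))
(.kill 24 (.branch (.branch (.kill 29 (.kill 31 (.branch (.branch (.kill 41 (.kill 38 (.branch (.branch (.kill 45 .leaf)
(.kill 45 .leaf))
(.kill 25 .dead))))
(.kill 25 (.kill 28 (.branch (.branch (.kill 32 .leaf)
(.kill 32 .leaf))
(.branch .dead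
.dead)))))
(.branch .dead
.dead))))
(.kill 25 (.kill 28 (.branch (.branch (.kill 41 .dead)
(.kill 41 .dead))
(.branch .dead
.dead)))))
(.branch .dead
.dead))))
(.kill 25 .dead))
(.branch (.kill 28 (.kill 29 (.branch (.kill 31 (.kill 32 (.branch (.branch (.branch (.kill 41 (.kill 40 (.branch (.branch (.kill 45 .leaf)
(.kill 24 .leaf))
(.kill 25 .dead))))
(.kill 25 (.kill 40 (.branch (.branch (.kill 45 .leaf)
(.kill 24 .leaf))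
(.branch .dead
.dead)))))
(.kill 24 .dead))
(.branch (.branch (.kill 41 .dead)
(.kill 25 .dead))
(.kill 24 .dead)))))
(.kill 24 .dead))))
(.kill 25 .dead))))
(.kill 25 (.branch (.branch (.branch (.kill 34 (.branch (.kill 33 (.kill 37 (.kill 35 (.branch (.branch (.kill 41 (.branch (.branch (.branch (.kill 43 .leaf)
(.kill 24 .leaf))
(.branch .dead
.dead))
(.branch (.branch (.kill 43 .leaf)
(.kill 24 .leaf))
(.branch .dead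
.dead))))
(.kill 41 (.kill 28 (.branch (.branch (.kill 32 .leaf)
(.kill 24 .leaf))
(.branch .dead
.dead)))))
(.kill 24 .dead)))))
(.kill 24 .dead)))
(.kill 24 (.branch (.kill 33 (.kill 29 .dead))
(.kill 33 .dead))))
(.branch .dead
.dead))
(.branch (.kill 28 (.kill 29 (.branch .dead
.dead)))
(.kill 28 .dead)))))
(.kill 24 .dead)))
(.kill 24 (.branch (.branch (.kill 30 (.branch (.branch (.kill 33 (.kill 34 (.branch (.branch (.kill 36 (.kill 38 (.branch (.branch (.kill 41 (.kill 42 (.branch (.branch (.kill 45 .leaf)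
(.kill 45 .leaf))
(.kill 25 .dead))))
(.kill 25 .dead))
(.branch .dead
.dead))))
(.kill 25 .dead))
(.branch .dead
.dead))))
(.kill 25 .dead))
(.branch .dead
.dead)))
(.kill 25 (.branch (.branch (.kill 33 (.kill 34 (.branch (.branch (.kill 36 (.kill 35 (.branch (.branch (.kill 41 (.kill 42 (.branch (.branch (.kill 43 .leaf)
(.kill 43 .leaf))
(.branch .dead
.dead))))
(.kill 41 .dead))
(.branch .dead
.dead))))
(.kill 36 .dead))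
(.branch .dead
.dead))))
(.kill 33 .dead))
(.branch .dead
.dead))))
(.branch .dead
.dead))))
(.kill 25 .dead)))
(.kill 24 (.branch (.kill 27 (.branch (.branch (.branch (.kill 31 (.branch (.branch (.kill 34 (.branch (.branch (.branch (.kill 38 (.branch (.branch (.branch (.kill 42 (.branch (.branch (.kill 45 (.branch .leaf
.leaf))
.dead)
(.branch (.kill 45 (.branch .leaf
.leaf))
.dead)))
.dead)
(.branch (.kill 26 (.kill 29 (.branch (.kill 32 (.branch .leaf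
.leaf))
.dead)))
.dead))
(.branch (.branch (.kill 42 (.kill 33 (.branch (.kill 45 (.branch .leaf
.leaf))
.dead)))
.dead)
(.branch (.kill 26 (.kill 29 (.branch (.kill 32 (.branch .leaf
.leaf))
.dead)))
.dead))))
.dead)
(.branch (.kill 26 (.kill 29 (.branch (.branch (.kill 42 (.kill 36 (.branch (.kill 45 (.branch .leaf
.leaf))
.dead)))
.dead)
(.branch (.kill 42 (.kill 36 (.branch (.kill 32 (.branch .leaf
.leaf))
.dead)))
.dead))))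
.dead))
(.branch (.branch (.kill 28 (.kill 30 (.branch (.branch (.kill 42 (.kill 37 (.branch (.kill 45 (.branch .leaf
.leaf))
.dead)))
.dead)
(.branch (.kill 26 (.kill 29 (.branch (.kill 32 (.branch .leaf
.leaf))
.dead)))
.dead))))
.dead)
(.branch (.kill 26 (.kill 29 (.branch (.branch (.kill 42 .dead)
.dead)
(.branch (.kill 42 .dead)
.dead))))
.dead))))
.dead)
(.branch (.kill 28 (.kill 29 (.kill 30 (.branch (.kill 32 (.branch (.branch (.branch (.kill 42 (.kill 40 (.branch (.kill 45 (.branch .leaf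
.leaf))
.dead)))
.dead)
(.branch (.kill 26 (.kill 40 (.branch (.kill 45 (.branch .leaf
.leaf))
.dead)))
.dead))
(.branch (.branch (.kill 42 .dead)
.dead)
(.branch (.kill 26 .dead)
.dead))))
.dead))))
.dead)))
.dead)
(.branch (.kill 26 (.branch (.branch (.kill 34 (.branch (.kill 33 (.branch (.kill 38 (.kill 36 (.branch (.branch (.kill 42 (.branch (.branch (.kill 43 (.branch .leaf
.leaf))
.dead)
(.branch (.kill 43 (.branch .leaf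
.leaf))
.dead)))
.dead)
(.branch (.kill 42 (.kill 29 (.branch (.kill 32 (.branch .leaf
.leaf))
.dead)))
.dead))))
.dead))
(.kill 33 (.branch (.kill 28 .dead)
.dead))))
.dead)
(.branch (.kill 28 (.kill 29 .dead))
.dead)))
.dead))
(.branch (.branch (.kill 31 (.branch (.branch (.kill 34 (.kill 33 (.branch (.branch (.kill 35 (.kill 37 (.branch (.branch (.kill 42 (.kill 41 (.branch (.kill 45 (.branch .leaf
.leaf))
.dead)))
.dead)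
(.branch (.kill 26 .dead)
.dead))))
.dead)
(.branch (.kill 26 .dead)
.dead))))
.dead)
(.branch (.kill 28 .dead)
.dead)))
.dead)
(.branch (.kill 26 (.branch (.branch (.kill 34 (.kill 33 (.branch (.branch (.kill 35 (.kill 36 (.branch (.branch (.kill 42 (.kill 41 (.branch (.kill 43 (.branch .leaf
.leaf))
.dead)))
.dead)
(.branch (.kill 42 .dead)
.dead))))
.dead)
(.branch (.kill 35 .dead)
.dead))))
.dead)
(.branch (.kill 28 .dead)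
.dead)))
.dead))))
.dead)))
(.branch (.kill 25 (.branch (.branch (.kill 28 (.branch (.kill 30 (.branch (.branch (.branch (.branch (.kill 35 (.branch (.kill 37 (.branch (.branch (.branch (.kill 41 (.branch (.branch (.branch (.branch (.kill 46 .leaf)
.dead)
(.branch (.kill 26 .leaf)
.dead))
(.branch (.branch (.kill 46 .leaf)
.dead)
(.branch (.kill 26 .leaf)
.dead)))
(.kill 27 (.branch (.branch (.kill 31 .leaf)
.dead)
(.branch (.kill 26 .leaf)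
.dead)))))
.dead)
(.branch (.kill 41 (.branch (.kill 33 (.branch (.branch (.kill 46 .leaf)
.dead)
(.branch (.kill 26 .leaf)
.dead)))
(.kill 27 (.branch (.branch (.kill 31 .leaf)
.dead)
(.branch (.kill 26 .leaf)
.dead)))))
.dead))
(.kill 27 (.branch (.kill 41 (.branch (.kill 34 (.branch (.branch (.kill 46 .leaf)
.dead)
(.branch (.kill 26 .leaf)
.dead)))
(.kill 34 (.branch (.branch (.kill 31 .leaf)
.dead)
(.branch (.kill 26 .leaf)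
.dead)))))
.dead))))
.dead))
.dead)
(.branch (.kill 26 (.branch (.kill 29 (.branch (.kill 32 (.branch (.kill 41 (.branch (.kill 39 (.branch (.branch (.kill 46 .leaf)
.dead)
(.branch (.kill 46 .leaf)
.dead)))
(.kill 27 (.branch (.branch (.kill 31 .leaf)
.dead)
(.branch (.kill 31 .leaf)
.dead)))))
.dead))
(.kill 27 (.branch (.kill 41 (.branch .dead
.dead))
.dead))))
.dead))
.dead))
(.kill 27 (.branch (.kill 29 (.branch (.kill 31 (.kill 32 (.branch (.branch (.kill 41 (.branch (.kill 40 (.branch (.branch (.kill 46 .leaf)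
.dead)
(.branch (.kill 26 .leaf)
.dead)))
(.kill 40 (.branch (.branch (.kill 46 .leaf)
.dead)
(.branch (.kill 26 .leaf)
.dead)))))
.dead)
(.branch (.kill 41 (.branch .dead
.dead))
.dead))))
.dead))
.dead)))
(.branch (.branch (.branch (.kill 35 (.branch (.kill 37 (.kill 33 (.kill 34 (.branch (.kill 41 (.branch (.branch (.branch (.branch (.kill 42 .leaf)
.dead)
(.branch (.kill 26 .leaf)
.dead))
(.branch (.branch (.kill 42 .leaf)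
.dead)
(.branch (.kill 26 .leaf)
.dead)))
(.kill 27 (.branch (.branch (.kill 31 .leaf)
.dead)
(.branch (.kill 26 .leaf)
.dead)))))
.dead))))
.dead))
.dead)
(.branch (.kill 26 (.branch (.kill 29 (.kill 33 .dead))
.dead))
.dead))
(.kill 27 (.branch (.kill 29 (.branch (.kill 31 .dead)
.dead))
.dead)))))
.dead))
.dead)
(.branch (.kill 26 (.branch (.kill 30 (.branch (.branch (.kill 33 (.branch (.kill 35 (.branch (.kill 36 (.branch (.kill 39 (.branch (.kill 41 (.branch (.kill 43 (.branch (.branch (.kill 46 .leaf)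
.dead)
(.branch (.kill 46 .leaf)
.dead)))
.dead))
.dead))
.dead))
.dead))
.dead))
.dead)
(.branch (.kill 33 (.branch (.kill 35 (.branch (.kill 36 (.branch (.kill 34 (.branch (.kill 41 (.branch (.kill 43 (.branch (.branch (.kill 42 .leaf)
.dead)
(.branch (.kill 42 .leaf)
.dead)))
.dead))
.dead))
.dead))
.dead))
.dead))
.dead)))
.dead))
.dead)))
.dead))

theorem descF4_ok : packF4.descOK invRepsF4 invTableF4 invTreeF4 = true := by decide +kernel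

/-- Rank certificate F4, 0: piv. -/
def pivF4_0 : List ℕ := [1, 2, 3, 4, 5, 7, 8, 9, 11, 15, 16, 18, 21, 23, 51, 0]

/-- Rank certificate F4, 0: spn. -/
def spnF4_0 : List (List ℕ) := [[15], [0], [1], [2], [3], [4], [], [5], [6], [7], [], [8], [], [], [], [9], [10], [], [11], [], [], [12], [], [13], [], [], [], [], [], [], [], [], [], [], [], [], [], [], [], [], [], [], [], [], [], [], [], [], [], [], [], [14]]

/-- Rank certificate F4, 0: dual. -/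
def dualF4_0 : List (List ℕ) := [[24], [26], [29], [31], [32], [36], [38], [39], [40], [42], [43], [44], [45], [46], [47, 48], [48]]

theorem rankF4_0 : packF4.rankOK (Pack.oneWord [47]) pivF4_0 spnF4_0 dualF4_0 = true := by
  decide +kernel

theorem pivF4_0_length : pivF4_0.length = 16 := by decide +kernel

/-- Rank certificate F4, 1: piv. -/
def pivF4_1 : List ℕ := [7, 8, 9, 10, 11, 12, 13, 14, 48, 0, 1, 2, 3, 4, 5, 6]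

/-- Rank certificate F4, 1: spn. -/
def spnF4_1 : List (List ℕ) := [[9], [10], [11], [12], [13], [14], [15], [0], [1], [2], [3], [4], [5], [6], [7], [], [], [], [], [], [], [], [], [], [], [], [], [], [], [], [], [], [], [], [], [], [], [], [], [], [], [], [], [], [], [], [], [], [8], [], [], []]

/-- Rank certificate F4, 1: dual. -/
def dualF4_1 : List (List ℕ) := [[33], [34], [35], [36], [37], [38], [39], [40], [44, 49], [18], [19], [20], [49], [27], [28], [29]]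

theorem rankF4_1 : packF4.rankOK (Pack.oneWord [44]) pivF4_1 spnF4_1 dualF4_1 = true := by
  decide +kernel

theorem pivF4_1_length : pivF4_1.length = 16 := by decide +kernel

/-- Rank certificate F4, 2: piv. -/
def pivF4_2 : List ℕ := [10, 12, 13, 14, 15, 16, 18, 21, 23, 51, 6, 7, 8, 9, 11, 1, 2, 3, 4, 5, 0]

/-- Rank certificate F4, 2: spn. -/
def spnF4_2 : List (List ℕ) := [[20], [15], [16], [17], [18], [19], [10], [11], [12], [13], [0], [14], [1], [2], [3], [4], [5], [], [6], [], [], [7], [], [8], [], [], [], [], [], [], [], [], [], [], [], [], [], [], [], [], [], [], [], [], [], [], [], [], [6], [], [], [9]]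

/-- Rank certificate F4, 2: dual. -/
def dualF4_2 : List (List ℕ) := [[36, 33], [38, 34], [39, 35], [40, 37], [42, 19], [43, 20], [44, 49, 18], [45, 27], [46, 28], [47, 29, 49, 18], [29, 49], [33], [34], [35], [37], [19], [20], [49], [27], [28], [18]]

theorem rankF4_2 : packF4.rankOK (Pack.oneWord [47, 44]) pivF4_2 spnF4_2 dualF4_2 = true := by
  decide +kernel

theorem pivF4_2_length : pivF4_2.length = 21 := by decide +kernel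

/-- Rank certificate F4, 3: piv. -/
def pivF4_3 : List ℕ := [5, 6, 9, 10, 11, 12, 13, 16, 17, 18, 19, 20, 25, 26, 49, 4, 8, 15, 50, 2, 3, 7, 0, 1]

/-- Rank certificate F4, 3: spn. -/
def spnF4_3 : List (List ℕ) := [[22], [23], [19], [20], [15], [0], [1], [21], [16], [2], [3], [4], [5], [6], [], [17], [7], [8], [9], [10], [11], [2, 12], [3, 13], [], [], [12], [13], [6], [], [], [], [], [], [], [11], [], [], [], [], [], [], [], [], [], [], [], [], [], [], [14], [18], []]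

/-- Rank certificate F4, 3: dual. -/
def dualF4_3 : List (List ℕ) := [[30], [31], [37, 9], [38, 10], [28], [29], [40, 13], [41], [42], [35], [36], [44, 20], [46, 9], [47, 10], [39, 48, 45], [14], [48, 51], [33], [45, 51], [51], [13], [20], [9], [10]]

theorem rankF4_3 : packF4.rankOK (Pack.oneWord [39, 45]) pivF4_3 spnF4_3 dualF4_3 = true := by
  decide +kernel

theorem pivF4_3_length : pivF4_3.length = 24 := by decide +kernel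

/-- The long roots of F4. -/
def invLongF4 : List ℕ := [0, 1, 2, 4, 5, 6, 15, 16, 17, 21, 22, 23, 24, 25, 26, 30, 31, 32, 41, 42, 43, 45, 46, 47]

end CfsgLib.Chev
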