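/-
Descent of involutions through the orbits of positive roots under an involutive twist, in a simply laced
group in characteristic two, from a checked certificate.
-/
import Cfsg.Agent.Lib.Chev.InvClass.Move
import Cfsg.Agent.Lib.Chev.InvClass.Descent
import Cfsg.Agent.Lib.Chev.Twist.Fix

set_option autoImplicit false
set_option linter.dupNamespace false
set_option linter.unusedSectionVars false
set_option linter.unusedSimpArgs false
set_option maxHeartbeats 1000000

namespace CfsgLib.Chev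

open Cfsg.Lie Matrix

/-- A tree of cases for the coordinates at the orbits, in a fixed order of the orbits. -/
inductive TwTree where
  | dead
  | leaf
  | kill (A : List ℕ) (T : TwTree)
  | back (i a u : ℕ)
  | branch (T0 T1 : TwTree)

namespace Pack

variable (P : Pack) (rho : ℕ → ℕ)

/-- The pairing is non-negative. -/
noncomputable def nonneg (a b : ℕ) : Bool :=
  forceZ (P.prP a b) fun p => zeq p 0 || zeq p 1 || zeq p 2

/-- `f + a` is the root `r`. -/
noncomputable def hitB (a r f : ℕ) : Bool := zeq (P.prP f a) (-1) && Nat.beq (P.S f a) r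

/-- The roots with a sum at `r`. -/
noncomputable def twHits (a r : ℕ) (F : List ℕ) : List ℕ := F.filter (P.hitB a r)

/-- All sums with `a` lie in `Q`. -/
noncomputable def lowQ (a : ℕ) (Q F : List ℕ) : Bool :=
  F.all fun f => P.nonneg f a || (zeq (P.prP f a) (-1) && Q.contains (P.S f a))

/-- All sums within the list lie in `Q`. -/
noncomputable def sqLowQ (Q : List ℕ) (F : List ℕ) : Bool :=
  List.rec true (fun f t ih => P.lowQ f Q t && ih) F

/-- The pairs with a sum at `r`. -/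
noncomputable def sqPairs (r : ℕ) (F : List ℕ) : List (ℕ × ℕ) :=
  List.rec [] (fun f t ih => (P.twHits f r t).map (fun g => (f, g)) ++ ih) F

/-- Sums of positive roots with roots of `r :: Q` lie in `Q`. -/
noncomputable def upQ (r : ℕ) (Q : List ℕ) : Bool :=
  (!(Q.contains r)) && (r :: Q).all (fun x => P.posB x) &&
    allN P.n fun a => (!(P.posB a)) || P.lowQ a Q (r :: Q)

/-- The order of the orbits is admissible. -/
noncomputable def ordOK : List (List ℕ) → Bool
  | [] => true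
  | o :: rest =>
    (match o with
    | [r] => Nat.beq (rho r) r && P.upQ r rest.flatten
    | [r, r'] => Nat.beq (rho r) r' && Nat.beq (rho r') r && (!(Nat.beq r r')) && zeq (P.prP r r') 0 &&
        P.upQ r (r' :: rest.flatten) && P.upQ r' (r :: rest.flatten) && P.upQ r' rest.flatten
    | _ => false) && ordOK rest

/-- All positive roots are listed. -/
noncomputable def coverOK (ord : List (List ℕ)) : Bool :=
  allN P.n fun a => (!(P.posB a)) || ord.flatten.contains a

/-- The list consists of orbits. -/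
noncomputable def orbF : List ℕ → Bool
  | [] => true
  | [r] => Nat.beq (rho r) r
  | r :: s :: t => (Nat.beq (rho r) r && orbF (s :: t)) ||
      (Nat.beq (rho r) s && Nat.beq (rho s) r && zeq (P.prP r s) 0 && orbF t)

/-- The coordinate at the orbit `o` can be cleared with `A`. -/
noncomputable def killTw (o : List ℕ) (Q F A : List ℕ) : Bool :=
  (fun r => match A with
    | [a] => P.posB a && Nat.beq (rho a) a && P.lowQ a (r :: Q) F && Nat.beq o.length 1 &&
        (match P.twHits a r F with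
        | [f] => Nat.beq (rho f) f
        | _ => false)
    | [a, a'] => P.posB a && P.posB a' && Nat.beq (rho a) a' && Nat.beq (rho a') a && (!(Nat.beq a a')) &&
        zeq (P.prP a a') 0 && P.lowQ a (r :: Q) F && P.lowQ a' (r :: Q) F &&
        (match P.twHits a r F, P.twHits a' r F with
        | [_], [] => true
        | [], [_] => true
        | [f], [g] => Nat.beq o.length 1 && Nat.beq (rho f) g
        | _, _ => false)
    | _ => false) (o.headD 0)

/-- The roots from the position `k` on. -/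
noncomputable def fromPos (ord : List (List ℕ)) (k : ℕ) : List ℕ := (ord.drop k).flatten

/-- The roots after the first one at the position `k`. -/
noncomputable def afterPos (ord : List (List ℕ)) (k : ℕ) : List ℕ :=
  (ord.getD k []).tail ++ fromPos ord (k + 1)

/-- The first root at the position `k`. -/
noncomputable def headPos (ord : List (List ℕ)) (k : ℕ) : ℕ := (ord.getD k []).headD 0

/-- The constraint from the square sends the case to an earlier one. -/
noncomputable def backOK (ord : List (List ℕ)) (stk : List (List ℕ × ℕ)) (F : List ℕ) (k i a u : ℕ) :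
    Bool :=
  Nat.blt k ord.length && Nat.beq (ord.getD k []).length 1 &&
  P.sqLowQ (headPos ord k :: afterPos ord k) F && P.orbF rho F &&
  Nat.blt i stk.length &&
  (fun E => match E.2 with
    | 0 => false
    | j + 1 => Nat.blt j k && P.orbF rho E.1 && Nat.beq u (headPos ord j) &&
        (F == E.1 ++ ord.getD j [] ++ F.drop (E.1.length + (ord.getD j []).length)) &&
        (F.drop (E.1.length + (ord.getD j []).length)).all (fun x => (fromPos ord (j + 1)).contains x) &&
        P.posB a && Nat.beq (rho a) a && P.lowQ a (headPos ord j :: afterPos ord j) E.1 &&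
        (match P.twHits a u E.1, P.sqPairs (headPos ord k) F with
        | [h], [(f, g), (f', g')] =>
            ((Nat.beq (rho f) f' && Nat.beq (rho g) g') || (Nat.beq (rho f) g' && Nat.beq (rho g) f')) &&
            ((Nat.beq u f && Nat.beq (rho h) g) || (Nat.beq u g && Nat.beq (rho h) f) ||
              (Nat.beq u f' && Nat.beq (rho h) g') || (Nat.beq u g' && Nat.beq (rho h) f'))
        | _, _ => false)) (stk.getD i ([], 0))

/-- The tree is valid, with leaves in the table. -/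
noncomputable def twTreeOK (ord tab : List (List ℕ)) :
    TwTree → List (List ℕ × ℕ) → List ℕ → ℕ → Bool
  | TwTree.dead, _, F, k => Nat.blt k ord.length && P.orbF rho F &&
      P.sqLowQ (headPos ord k :: afterPos ord k) F && Nat.beq (P.sqPairs (headPos ord k) F).length 1
  | TwTree.leaf, _, F, k => Nat.beq k ord.length && (F.isEmpty || tab.any fun R => R == F)
  | TwTree.kill A T, stk, F, k => Nat.blt k ord.length && P.orbF rho F &&
      P.killTw rho (ord.getD k []) (afterPos ord k) F A && twTreeOK ord tab T stk F (k + 1)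
  | TwTree.back i a u, stk, F, k => P.backOK rho ord stk F k i a u
  | TwTree.branch T0 T1, stk, F, k => Nat.blt k ord.length && P.orbF rho F &&
      (ord.getD k []).all (fun x => !(F.contains x)) && twTreeOK ord tab T0 stk F (k + 1) &&
      twTreeOK ord tab T1 ((F, k + 1) :: stk) (F ++ ord.getD k []) (k + 1)

end Pack

namespace Chev

variable {D : ChevalleyDatum} (Φ : Chev D)

/-- The tables of a package are those of the group. -/
structure TabEq (P : Pack) : Prop where
  hn : D.nroots = P.n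
  pair : ∀ r s, Φ.pair r s = P.prP r.val s.val
  sum : ∀ r s, Φ.pair r s = -1 → (Φ.S r s).val = P.S r.val s.val
  rev : ∀ r : Fin D.nroots, r.rev.val = P.rev r.val

variable {K : Type*} [Field K]

/-- The predicate of membership of the index in a list. -/
def inQ (Q : List ℕ) : Fin D.nroots → Prop := fun r => r.val ∈ Q

/-- The product of the root elements of the list with parameters given by a function. -/
def elt (L : List (Fin D.nroots)) (t : Fin D.nroots → K) : GL D.Idx K :=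
  Φ.el (L.map fun r => (r, t r))

/-- The hypotheses on a twist of order two with trivial signs. -/
structure InvolTwist {S : Φ.Sym} (T : Tw S K) (q : ℕ) (rho : ℕ → ℕ) : Prop where
  app : ∀ r t, T.app (Φ.toAlg.xg r t) = Φ.toAlg.xg (S.ρ r) (t ^ q)
  rho_val : ∀ r, (S.ρ r).val = rho r.val
  invol : ∀ r, S.ρ (S.ρ r) = r
  qq : ∀ c : K, (c ^ q) ^ q = c
  add : ∀ a b : K, (a + b) ^ q = a ^ q + b ^ q
  trace : ∀ c : K, c ^ q = c → ∃ z : K, z + z ^ q = c
  q0 : q ≠ 0

/-- The parameters are compatible with the twist. -/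
def TSym (S : Φ.Sym) (q : ℕ) (t : Fin D.nroots → K) : Prop := ∀ r, t (S.ρ r) = t r ^ q

theorem elt_nil (t : Fin D.nroots → K) : Φ.elt [] t = 1 := rfl

theorem elt_cons (r : Fin D.nroots) (L : List (Fin D.nroots)) (t : Fin D.nroots → K) :
    Φ.elt (r :: L) t = Φ.toAlg.xg r (t r) * Φ.elt L t := Φ.el_cons _ _

theorem elt_append (L L' : List (Fin D.nroots)) (t : Fin D.nroots → K) :
    Φ.elt (L ++ L') t = Φ.elt L t * Φ.elt L' t := by
  rw [elt, List.map_append, el_append]; rfl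

theorem elt_congr {L : List (Fin D.nroots)} {t t' : Fin D.nroots → K} (h : ∀ r ∈ L, t r = t' r) :
    Φ.elt L t = Φ.elt L t' := by
  rw [elt, elt, List.map_congr_left fun r hr => by rw [h r hr]]

theorem elt_mem {U : Fin D.nroots → Prop} {L : List (Fin D.nroots)} {t : Fin D.nroots → K}
    (h : ∀ r ∈ L, U r) : Φ.elt L t ∈ Φ.US K U := el_mem fun p hp => by
  obtain ⟨r, hr, rfl⟩ := List.mem_map.1 hp
  exact h r hr

section Twist

variable {Φ} {S : Φ.Sym} {T : Tw S K} {q : ℕ} {rho : ℕ → ℕ}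

theorem InvolTwist.fix_xg (hT : Φ.InvolTwist T q rho) {r : Fin D.nroots} (hr : S.ρ r = r) {c : K}
    (hc : c ^ q = c) : Φ.toAlg.xg r c ∈ T.fix :=
  ⟨Φ.toAlg.xg_mem_group r c, by rw [hT.app, hr, hc]⟩

theorem InvolTwist.fix_pair [CharP K 2] (hT : Φ.InvolTwist T q rho) (hL : Φ.Laced) {r r' : Fin D.nroots}
    (hr : S.ρ r = r') (hp : 0 ≤ Φ.pair r r') (c : K) :
    Φ.toAlg.xg r c * Φ.toAlg.xg r' (c ^ q) ∈ T.fix := by
  refine ⟨mul_mem (Φ.toAlg.xg_mem_group _ _) (Φ.toAlg.xg_mem_group _ _), ?_⟩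
  rw [T.app_mul (Φ.toAlg.xg_mem_group _ _) (Φ.toAlg.xg_mem_group _ _), hT.app, hT.app, hr, hT.qq,
    show S.ρ r' = r by rw [← hr, hT.invol], (hL.commute hp c (c ^ q)).eq]

theorem InvolTwist.fix_orbF [CharP K 2] (hT : Φ.InvolTwist T q rho) (hL : Φ.Laced) {P : Pack}
    (hP : Φ.TabEq P) {t : Fin D.nroots → K} (ht : Φ.TSym S q t) :
    ∀ (L : List (Fin D.nroots)), P.orbF rho (L.map Fin.val) = true → Φ.elt L t ∈ T.fix
  | [], _ => by rw [elt_nil]; exact one_mem _
  | [r], h => by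
    have hr : S.ρ r = r := Fin.ext (by
      rw [hT.rho_val]; exact Nat.eq_of_beq_eq_true (by simpa [Pack.orbF] using h))
    rw [elt_cons, elt_nil, mul_one]
    exact hT.fix_xg hr (by rw [← ht, hr])
  | r :: s :: L, h => by
    simp only [List.map_cons, Pack.orbF, Bool.or_eq_true, Bool.and_eq_true] at h
    rcases h with ⟨h1, h2⟩ | ⟨⟨⟨h1, -⟩, h3⟩, h4⟩
    · have hr : S.ρ r = r := Fin.ext (by rw [hT.rho_val]; exact Nat.eq_of_beq_eq_true h1)
      rw [elt_cons]
      exact mul_mem (hT.fix_xg hr (by rw [← ht, hr]))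
        (fix_orbF hT hL hP ht (s :: L) (by simpa using h2))
    · have hr : S.ρ r = s := Fin.ext (by rw [hT.rho_val]; exact Nat.eq_of_beq_eq_true h1)
      rw [zeq_iff] at h3
      rw [elt_cons, elt_cons, ← mul_assoc, show t s = t r ^ q by rw [← hr, ht]]
      exact mul_mem (hT.fix_pair hL hr (by rw [hP.pair, h3]) _) (fix_orbF hT hL hP ht L h4)

end Twist

variable {Φ} {P : Pack}

theorem TabEq.nonneg (hP : Φ.TabEq P) {a b : Fin D.nroots} (h : P.nonneg a.val b.val = true) :
    0 ≤ Φ.pair a b := by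
  simp only [Pack.nonneg, forceZ_eq, Bool.or_eq_true, zeq_iff] at h
  rw [hP.pair]; omega

theorem TabEq.pos (hP : Φ.TabEq P) {r : Fin D.nroots} (h : P.posB r.val = true) :
    Φ.toTables.Pos r := by
  simp only [Pack.posB, Bool.and_eq_true, Nat.ble_eq] at h
  show D.nroots ≤ 2 * r.val
  have := hP.hn
  omega

theorem TabEq.posB (hP : Φ.TabEq P) {r : Fin D.nroots} (h : Φ.toTables.Pos r) :
    P.posB r.val = true := by
  simp only [Pack.posB, Bool.and_eq_true, Nat.ble_eq, Nat.blt_eq]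
  exact ⟨hP.hn ▸ (show D.nroots ≤ 2 * r.val from h), hP.hn ▸ r.isLt⟩

theorem TabEq.lowQ (hP : Φ.TabEq P) {a f : Fin D.nroots} {Q F : List ℕ}
    (h : P.lowQ a.val Q F = true) (hf : f.val ∈ F) :
    0 ≤ Φ.pair f a ∨ (Φ.pair f a = -1 ∧ inQ Q (Φ.S f a)) := by
  simp only [Pack.lowQ, List.all_eq_true, Bool.or_eq_true, Bool.and_eq_true, List.contains_iff_mem,
    zeq_iff] at h
  rcases h _ hf with h | ⟨h1, h2⟩
  · exact Or.inl (hP.nonneg h)
  · have e : Φ.pair f a = -1 := by rw [hP.pair, h1]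
    exact Or.inr ⟨e, by show (Φ.S f a).val ∈ Q; rw [hP.sum f a e]; exact h2⟩

theorem TabEq.upQ (hP : Φ.TabEq P) {r : Fin D.nroots} {Q : List ℕ} (h : P.upQ r.val Q = true) :
    Φ.toTables.Pos r ∧ ¬ inQ Q r ∧ (∀ x : Fin D.nroots, inQ Q x → Φ.toTables.Pos x) ∧
      ∀ a f : Fin D.nroots, Φ.toTables.Pos a → f.val ∈ r.val :: Q →
        0 ≤ Φ.pair f a ∨ (Φ.pair f a = -1 ∧ inQ Q (Φ.S f a)) := by
  simp only [Pack.upQ, Bool.and_eq_true, Bool.not_eq_true', allN_iff, Bool.or_eq_true] at h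
  obtain ⟨⟨h1, h2⟩, h3⟩ := h
  rw [List.all_eq_true] at h2
  refine ⟨hP.pos (h2 _ List.mem_cons_self), fun hc => ?_,
    fun x hx => hP.pos (h2 _ (List.mem_cons_of_mem _ hx)), fun a f ha hf => ?_⟩
  · rw [List.contains_eq_mem, decide_eq_false_iff_not] at h1
    exact h1 hc
  · rcases h3 a.val (hP.hn ▸ a.isLt) with e | e
    · rw [hP.posB ha] at e; exact absurd e (by decide)
    · exact hP.lowQ e hf

theorem TabEq.closed_Q (hP : Φ.TabEq P) (hL : Φ.Laced) {r : Fin D.nroots} {Q : List ℕ}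
    (h : P.upQ r.val Q = true) : Φ.Closed (inQ Q) := by
  obtain ⟨-, -, hQ, hup⟩ := hP.upQ h
  intro x y hx hy hN
  by_cases e1 : y = x
  · subst e1; exact absurd (Φ.toSys.N_self _) hN
  have e2 : y ≠ x.rev := fun e => (Φ.pos_rev_iff x).1 (e ▸ hQ y hy) (hQ x hx)
  have hp := (hL.nz x y e1 e2).1 hN
  rcases hup y x (hQ y hy) (List.mem_cons_of_mem _ hx) with h1 | ⟨-, h2⟩
  · omega
  · exact h2

theorem TabEq.conj_Q [CharP K 2] (hP : Φ.TabEq P) (hL : Φ.Laced) {r : Fin D.nroots} {Q : List ℕ}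
    (h : P.upQ r.val Q = true) {a : Fin D.nroots} (ha : Φ.toTables.Pos a) (l : K) {g : GL D.Idx K}
    (hg : g ∈ Φ.US K (inQ Q)) :
    Φ.toAlg.xg a l * g * (Φ.toAlg.xg a l)⁻¹ ∈ Φ.US K (inQ Q) := by
  obtain ⟨-, -, -, hup⟩ := hP.upQ h
  refine Φ.conj_mem_of_gen (fun s v hs => ?_) hg
  rcases hup a s ha (List.mem_cons_of_mem _ hs) with h1 | ⟨h1, h2⟩
  · rw [← (hL.commute h1 v l).eq, mul_inv_cancel_right]
    exact Φ.xg_mem_US hs v
  · rw [hL.conj_eq h1]
    exact mul_mem (Φ.xg_mem_US hs v) (Φ.xg_mem_US h2 _)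

theorem TabEq.normal_Q [CharP K 2] (hP : Φ.TabEq P) (hL : Φ.Laced) {r : Fin D.nroots} {Q : List ℕ}
    (h : P.upQ r.val Q = true) :
    ((Φ.US K (inQ Q)).subgroupOf (Φ.US K Φ.toTables.Pos)).Normal := by
  refine ⟨fun n hn g => ?_⟩
  rw [Subgroup.mem_subgroupOf] at hn ⊢
  obtain ⟨g, hg⟩ := g
  show g * (n : GL D.Idx K) * g⁻¹ ∈ Φ.US K (inQ Q)
  revert hn
  generalize (n : GL D.Idx K) = m
  induction hg using Subgroup.closure_induction_left with
  | one => simp
  | mul_left x hx y _ ih =>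
    intro hm
    obtain ⟨a, t, ha, rfl⟩ := hx
    rw [show Φ.toAlg.xg a t * y * m * (Φ.toAlg.xg a t * y)⁻¹ =
      Φ.toAlg.xg a t * (y * m * y⁻¹) * (Φ.toAlg.xg a t)⁻¹ by group]
    exact hP.conj_Q hL h ha t (ih hm)
  | inv_mul_cancel x hx y _ ih =>
    intro hm
    obtain ⟨a, t, ha, rfl⟩ := hx
    rw [← Φ.toAlg.xg_neg, show Φ.toAlg.xg a (-t) * y * m * (Φ.toAlg.xg a (-t) * y)⁻¹ =
      Φ.toAlg.xg a (-t) * (y * m * y⁻¹) * (Φ.toAlg.xg a (-t))⁻¹ by group]
    exact hP.conj_Q hL h ha (-t) (ih hm)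

/-- A root element of a positive root. -/
def xU (Φ : Chev D) (r : Fin D.nroots) (h : Φ.toTables.Pos r) (t : K) : ↥(Φ.US K Φ.toTables.Pos) :=
  ⟨Φ.toAlg.xg r t, Φ.xg_mem_US h t⟩

/-- The sum of the values at `r` of a conjugation. -/
noncomputable def hitSum (P : Pack) (a r : ℕ) (l : K) (L : List (Fin D.nroots))
    (t : Fin D.nroots → K) : K :=
  ((L.filter fun f => P.hitB a r f.val).map fun f => t f * l).sum

/-- The sum of the values at `r` of a square. -/
noncomputable def squareSum (P : Pack) (r : ℕ) (t : Fin D.nroots → K) : List (Fin D.nroots) → K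
  | [] => 0
  | p :: L => hitSum P p.val r (t p) L t + squareSum P r t L

section Quotient

variable [CharP K 2] {G : Type*} [Group G] {ν : ↥(Φ.US K Φ.toTables.Pos) →* G}
  {r : Fin D.nroots} {Q : List ℕ}
  (hker : ∀ u : ↥(Φ.US K Φ.toTables.Pos), ν u = 1 ↔ (u : GL D.Idx K) ∈ Φ.US K (inQ Q))
  (hpos : Φ.toTables.Pos r)

local notation "ξ" c:max => ν (xU Φ r hpos c)

theorem xi_add (c d : K) : ν (xU Φ r hpos (c + d)) = ξ c * ξ d := by
  rw [← map_mul]
  exact congrArg ν (Subtype.ext (Φ.toAlg.xg_add r c d))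

theorem xi_zero : ν (xU Φ r hpos (0 : K)) = 1 := by
  rw [← map_one ν]
  exact congrArg ν (Subtype.ext (Φ.toAlg.xg_zero r))

variable (hP : Φ.TabEq P) (hL : Φ.Laced) (hup : P.upQ r.val Q = true)

include hker hP hL hup in
theorem xi_inj {c : K} (h : ξ c = 1) : c = 0 := by
  obtain ⟨h1, h2, h3, -⟩ := hP.upQ hup
  have hm : Φ.toAlg.xg r c ∈ Φ.US K (inQ Q) := (hker _).1 h
  refine (Φ.toAlg.xg_eq_one_iff (r := r) (t := c)).1 (Φ.US_unique (T := fun y => y = r) (U := inQ Q)
    (fun y hy => hy ▸ h1) h3 (fun x y hx hy hN => ?_) (hP.closed_Q hL hup)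
    (fun y hy hy' => h2 (hy ▸ hy')) (Φ.xg_mem_US (S := fun y => y = r) rfl c) hm)
  rw [hx, hy] at hN
  exact absurd (Φ.toSys.N_self _) hN

include hker hP hL hup in
theorem xi_coord {v : GL D.Idx K} (hv : v ∈ Φ.US K (inQ (r.val :: Q))) :
    ∀ hvU : v ∈ Φ.US K Φ.toTables.Pos, ∃ c : K, ν ⟨v, hvU⟩ = ξ c := by
  obtain ⟨h1, -, h3, -⟩ := hP.upQ hup
  induction hv using Subgroup.closure_induction with
  | mem y hy =>
    intro hvU
    obtain ⟨s, t, hs, rfl⟩ := hy
    rcases List.mem_cons.1 (show s.val ∈ r.val :: Q from hs) with e | e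
    · obtain rfl : s = r := Fin.ext e
      exact ⟨t, rfl⟩
    · exact ⟨0, by rw [xi_zero]; exact (hker _).2 (Φ.xg_mem_US e t)⟩
  | one =>
    intro hvU
    exact ⟨0, by rw [xi_zero, ← map_one ν]; rfl⟩
  | mul y z hy hz ihy ihz =>
    intro hvU
    have hsub : ∀ x : Fin D.nroots, inQ (r.val :: Q) x → Φ.toTables.Pos x := fun x hx => by
      rcases List.mem_cons.1 hx with e | e
      · obtain rfl : x = r := Fin.ext e
        exact h1
      · exact h3 x e
    obtain ⟨c, hc⟩ := ihy (Φ.US_mono hsub hy)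
    obtain ⟨d, hd⟩ := ihz (Φ.US_mono hsub hz)
    refine ⟨c + d, ?_⟩
    rw [xi_add, ← hc, ← hd, ← map_mul]
    rfl
  | inv y hy ihy =>
    intro hvU
    have hsub : ∀ x : Fin D.nroots, inQ (r.val :: Q) x → Φ.toTables.Pos x := fun x hx => by
      rcases List.mem_cons.1 hx with e | e
      · obtain rfl : x = r := Fin.ext e
        exact h1
      · exact h3 x e
    obtain ⟨c, hc⟩ := ihy (Φ.US_mono hsub hy)
    refine ⟨c, ?_⟩
    have e : ξ c * ξ c = 1 := by rw [← xi_add, CharTwo.add_self_eq_zero, xi_zero]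
    rw [← inv_eq_of_mul_eq_one_right e, ← hc, ← map_inv]
    rfl

include hker hP hL hup in
theorem xi_central (x : ↥(Φ.US K Φ.toTables.Pos)) (c : K) : Commute (ν x) (ξ c) := by
  obtain ⟨-, -, -, hQ⟩ := hP.upQ hup
  obtain ⟨x, hx⟩ := x
  induction hx using Subgroup.closure_induction with
  | mem y hy =>
    obtain ⟨a, t, ha, rfl⟩ := hy
    show ν (xU Φ a ha t) * ξ c = ξ c * ν (xU Φ a ha t)
    rw [← map_mul, ← map_mul]
    rcases hQ a r ha List.mem_cons_self with h1 | ⟨h1, h2⟩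
    · exact congrArg ν (Subtype.ext (hL.commute h1 c t).eq.symm)
    · set W : ↥(Φ.US K Φ.toTables.Pos) := ⟨Φ.toAlg.xg (Φ.S r a) (c * t),
        Φ.US_mono (hP.upQ hup).2.2.1 (Φ.xg_mem_US h2 _)⟩
      have hW : ν W = 1 := (hker W).2 (Φ.xg_mem_US h2 _)
      have e : xU Φ a ha t * xU Φ r hpos c = xU Φ r hpos c * W * xU Φ a ha t := Subtype.ext (by
        show Φ.toAlg.xg a t * Φ.toAlg.xg r c =
          Φ.toAlg.xg r c * Φ.toAlg.xg (Φ.S r a) (c * t) * Φ.toAlg.xg a t
        exact eq_mul_of_mul_inv_eq (hL.conj_eq h1 c t))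
      rw [e, map_mul, map_mul, hW, mul_one, map_mul]
  | one =>
    show Commute (ν 1) _
    rw [map_one]; exact Commute.one_left _
  | mul y z hy hz h1 h2 =>
    show Commute (ν (⟨y, hy⟩ * ⟨z, hz⟩)) _
    rw [map_mul]; exact h1.mul_left h2
  | inv y hy h1 =>
    show Commute (ν (⟨y, hy⟩⁻¹)) _
    rw [map_inv]; exact h1.inv_left

include hker hP hL hup in
theorem xi_conj {a : Fin D.nroots} (ha : Φ.toTables.Pos a) (l : K) (t : Fin D.nroots → K) :
    ∀ {L : List (Fin D.nroots)}, P.lowQ a.val (r.val :: Q) (L.map Fin.val) = true →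
    (∀ f ∈ L, Φ.toTables.Pos f) →
    ∀ hU : Φ.elt L t ∈ Φ.US K Φ.toTables.Pos,
    ν (xU Φ a ha l) * ν ⟨_, hU⟩ * ν (xU Φ a ha l) =
      ν ⟨_, hU⟩ * ξ (hitSum P a.val r.val l L t) := by
  intro L
  induction L with
  | nil =>
    intro _ _ hU
    rw [show (⟨_, hU⟩ : ↥(Φ.US K Φ.toTables.Pos)) = 1 from Subtype.ext rfl, map_one, mul_one, one_mul,
      show hitSum P a.val r.val l ([] : List (Fin D.nroots)) t = 0 from rfl, xi_zero, ← map_mul,
      ← map_one ν]
    exact congrArg ν (Subtype.ext (Chev.xg_sq _ _))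
  | cons f L ih =>
    intro hlow hp hU
    have hf := hp f List.mem_cons_self
    have hU' : Φ.elt L t ∈ Φ.US K Φ.toTables.Pos :=
      Φ.elt_mem fun x hx => hp x (List.mem_cons_of_mem _ hx)
    set A := ν (xU Φ a ha l) with hA
    set δ : K := if P.hitB a.val r.val f.val then t f * l else 0 with hδ
    have e1 : A * ν (xU Φ f hf (t f)) * A = ν (xU Φ f hf (t f)) * ξ δ := by
      have hf' : f.val ∈ (f :: L).map Fin.val := List.mem_cons_self
      rcases hP.lowQ hlow hf' with h1 | ⟨h1, h2⟩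
      · have hn : P.hitB a.val r.val f.val = false := by
          rw [Bool.eq_false_iff]
          intro h
          simp only [Pack.hitB, Bool.and_eq_true, zeq_iff] at h
          rw [hP.pair, h.1] at h1
          exact absurd h1 (by decide)
        rw [hδ, hn, if_neg (by decide), xi_zero, mul_one, hA, ← map_mul, ← map_mul]
        refine congrArg ν (Subtype.ext ?_)
        show Φ.toAlg.xg a l * Φ.toAlg.xg f (t f) * Φ.toAlg.xg a l = Φ.toAlg.xg f (t f)
        rw [← (hL.commute h1 (t f) l).eq, mul_assoc, Chev.xg_sq, mul_one]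
      · have e := hL.conj_eq (F := K) h1 (t f) l
        rw [Chev.xg_inv_self] at e
        have hS : Φ.toTables.Pos (Φ.S f a) := by
          rcases List.mem_cons.1 h2 with e' | e'
          · rw [show Φ.S f a = r from Fin.ext e']; exact hpos
          · exact (hP.upQ hup).2.2.1 _ e'
        have key : ν (xU Φ (Φ.S f a) hS (t f * l)) = ξ δ := by
          rw [hδ]
          by_cases hh : P.hitB a.val r.val f.val = true
          · rw [if_pos hh]
            simp only [Pack.hitB, Bool.and_eq_true, Nat.beq_eq, zeq_iff] at hh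
            congr 1
            refine Subtype.ext ?_
            show Φ.toAlg.xg (Φ.S f a) _ = Φ.toAlg.xg r _
            rw [show Φ.S f a = r from Fin.ext (by rw [hP.sum f a h1]; exact hh.2)]
          · rw [if_neg hh, xi_zero]
            refine (hker _).2 (Φ.xg_mem_US (S := inQ Q) ((List.mem_cons.1 h2).resolve_left
              fun e' => hh ?_) _)
            simp only [Pack.hitB, Bool.and_eq_true, Nat.beq_eq, zeq_iff]
            exact ⟨by rw [← hP.pair, h1], by rw [← hP.sum f a h1]; exact e'⟩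
        rw [← key, hA, ← map_mul, ← map_mul, ← map_mul]
        exact congrArg ν (Subtype.ext e)
    have key := ih (by
      simp only [Pack.lowQ, List.map_cons, List.all_cons, Bool.and_eq_true] at hlow
      exact hlow.2) (fun x hx => hp x (List.mem_cons_of_mem _ hx)) hU'
    have hsum : hitSum P a.val r.val l (f :: L) t = δ + hitSum P a.val r.val l L t := by
      rw [hδ, hitSum, hitSum, List.filter_cons]
      by_cases hh : P.hitB a.val r.val f.val = true
      · rw [if_pos hh, if_pos hh, List.map_cons, List.sum_cons]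
      · rw [if_neg hh, if_neg hh, zero_add]
    have hcen := xi_central hker hpos hP hL hup ⟨_, hU'⟩ δ
    have hAA : A * A = 1 := by
      rw [hA, ← map_mul, ← map_one ν]
      exact congrArg ν (Subtype.ext (Chev.xg_sq _ _))
    rw [show (⟨_, hU⟩ : ↥(Φ.US K Φ.toTables.Pos)) = xU Φ f hf (t f) * ⟨_, hU'⟩ from
      Subtype.ext (Φ.elt_cons f L t), map_mul, hsum, xi_add]
    calc A * (ν (xU Φ f hf (t f)) * ν ⟨_, hU'⟩) * A
        = (A * ν (xU Φ f hf (t f)) * A) * (A⁻¹ * ν ⟨_, hU'⟩ * A) := by group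
      _ = ν (xU Φ f hf (t f)) * ξ δ * (A * ν ⟨_, hU'⟩ * A) := by
          rw [e1, inv_eq_of_mul_eq_one_right hAA]
      _ = ν (xU Φ f hf (t f)) * (ξ δ * ν ⟨_, hU'⟩) * ξ (hitSum P a.val r.val l L t) := by
          rw [key]; group
      _ = _ := by rw [← hcen.eq]; group

include hker hP hL hup in
theorem xi_square (t : Fin D.nroots → K) :
    ∀ {L : List (Fin D.nroots)}, P.sqLowQ (r.val :: Q) (L.map Fin.val) = true →
    (∀ f ∈ L, Φ.toTables.Pos f) →
    ∀ hU : Φ.elt L t ∈ Φ.US K Φ.toTables.Pos,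
    ν ⟨_, hU⟩ * ν ⟨_, hU⟩ = ξ (squareSum P r.val t L) := by
  intro L
  induction L with
  | nil =>
    intro _ _ hU
    rw [show (⟨_, hU⟩ : ↥(Φ.US K Φ.toTables.Pos)) = 1 from Subtype.ext rfl, map_one, mul_one,
      squareSum, xi_zero]
  | cons f L ih =>
    intro hlow hp hU
    have hlow' : (P.lowQ f.val (r.val :: Q) (L.map Fin.val) &&
        P.sqLowQ (r.val :: Q) (L.map Fin.val)) = true := hlow
    rw [Bool.and_eq_true] at hlow'
    have hf := hp f List.mem_cons_self
    have hpL := fun x (hx : x ∈ L) => hp x (List.mem_cons_of_mem _ hx)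
    have hU' : Φ.elt L t ∈ Φ.US K Φ.toTables.Pos := Φ.elt_mem hpL
    have key := xi_conj hker hpos hP hL hup hf (t f) t hlow'.1 hpL hU'
    have hcen := xi_central hker hpos hP hL hup ⟨_, hU'⟩ (hitSum P f.val r.val (t f) L t)
    rw [show (⟨_, hU⟩ : ↥(Φ.US K Φ.toTables.Pos)) = xU Φ f hf (t f) * ⟨_, hU'⟩ from
      Subtype.ext (Φ.elt_cons f L t), map_mul, squareSum, xi_add, ← ih hlow'.2 hpL hU']
    calc ν (xU Φ f hf (t f)) * ν ⟨_, hU'⟩ * (ν (xU Φ f hf (t f)) * ν ⟨_, hU'⟩)
        = ν (xU Φ f hf (t f)) * ν ⟨_, hU'⟩ * ν (xU Φ f hf (t f)) * ν ⟨_, hU'⟩ := by group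
      _ = (ν ⟨_, hU'⟩ * ξ (hitSum P f.val r.val (t f) L t)) * ν ⟨_, hU'⟩ := by rw [key]
      _ = _ := by rw [hcen.eq]; group

end Quotient

/-- The roots with a sum at `r`, as a list of indices. -/
theorem map_filter_hits (P : Pack) (a r : ℕ) (L : List (Fin D.nroots)) :
    (L.filter fun f => P.hitB a r f.val).map Fin.val = P.twHits a r (L.map Fin.val) := by
  rw [Pack.twHits, List.filter_map]
  rfl

theorem hitSum_eq (P : Pack) (a r : ℕ) (l : K) {L : List (Fin D.nroots)} (t : Fin D.nroots → K) :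
    (∀ f, P.twHits a r (L.map Fin.val) = [f] →
      ∃ ff ∈ L, ff.val = f ∧ hitSum P a r l L t = t ff * l) ∧
    (P.twHits a r (L.map Fin.val) = [] → hitSum P a r l L t = 0) := by
  refine ⟨fun f hf => ?_, fun h0 => ?_⟩
  · rw [← map_filter_hits] at hf
    rcases hM : L.filter (fun f => P.hitB a r f.val) with _ | ⟨ff, _ | ⟨g, M⟩⟩ <;> rw [hM] at hf
    · simp at hf
    · refine ⟨ff, ?_, by simpa using hf, by rw [hitSum, hM]; simp⟩
      have : ff ∈ L.filter fun f => P.hitB a r f.val := by rw [hM]; exact List.mem_cons_self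
      exact (List.mem_filter.1 this).1
    · simp at hf
  · rw [← map_filter_hits, List.map_eq_nil_iff] at h0
    rw [hitSum, h0]; rfl

/-- The pairs of roots behind the values of a square. -/
theorem squareSum_eq (P : Pack) (r : ℕ) (t : Fin D.nroots → K) : ∀ L : List (Fin D.nroots),
    ∃ M : List (Fin D.nroots × Fin D.nroots),
      M.map (fun p => (p.1.val, p.2.val)) = P.sqPairs r (L.map Fin.val) ∧
      (∀ p ∈ M, p.1 ∈ L ∧ p.2 ∈ L) ∧ squareSum P r t L = (M.map fun p => t p.1 * t p.2).sum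
  | [] => ⟨[], rfl, fun p hp => absurd hp List.not_mem_nil, rfl⟩
  | f :: L => by
    obtain ⟨M, h1, h2, h3⟩ := squareSum_eq P r t L
    refine ⟨((L.filter fun g => P.hitB f.val r g.val).map fun g => (f, g)) ++ M, ?_, fun p hp => ?_, ?_⟩
    · rw [List.map_append, h1, List.map_map]
      show _ = (P.twHits f.val r (L.map Fin.val)).map (fun g => (f.val, g)) ++ P.sqPairs r (L.map Fin.val)
      rw [← map_filter_hits, List.map_map]
      rfl
    · rcases List.mem_append.1 hp with hp | hp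
      · obtain ⟨g, hg, rfl⟩ := List.mem_map.1 hp
        exact ⟨List.mem_cons_self, List.mem_cons_of_mem _ (List.mem_filter.1 hg).1⟩
      · exact ⟨List.mem_cons_of_mem _ (h2 p hp).1, List.mem_cons_of_mem _ (h2 p hp).2⟩
    · rw [squareSum, h3, List.map_append, List.sum_append, hitSum, List.map_map]
      refine congrArg (· + _) (congrArg List.sum (List.map_congr_left fun g _ => ?_))
      exact mul_comm _ _

theorem exists_fins {n : ℕ} {o : List ℕ} (h : ∀ x ∈ o, x < n) :
    ∃ L : List (Fin n), L.map Fin.val = o := by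
  induction o with
  | nil => exact ⟨[], rfl⟩
  | cons x o ih =>
    obtain ⟨L, hL⟩ := ih fun y hy => h y (List.mem_cons_of_mem _ hy)
    exact ⟨⟨x, h x List.mem_cons_self⟩ :: L, by rw [List.map_cons, hL]⟩

theorem ordOK_drop {rho : ℕ → ℕ} : ∀ {ord : List (List ℕ)}, P.ordOK rho ord = true →
    ∀ k, P.ordOK rho (ord.drop k) = true
  | [], h, k => by rw [List.drop_nil]; exact h
  | o :: rest, h, 0 => h
  | o :: rest, h, k + 1 => by
    simp only [Pack.ordOK, Bool.and_eq_true] at h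
    exact ordOK_drop h.2 k

section Descent

variable [CharP K 2] {S : Φ.Sym} {T : Tw S K} {q : ℕ} {rho : ℕ → ℕ}
  (hL : Φ.Laced) (hP : Φ.TabEq P) (hT : Φ.InvolTwist T q rho)

/-- The element is conjugate in the fixed group to an element of the table. -/
def TwGoal (T : Tw S K) (q : ℕ) (tab : List (List ℕ)) (g : GL D.Idx K) : Prop :=
  ∃ L : List (Fin D.nroots), (L = [] ∨ L.map Fin.val ∈ tab) ∧ ∃ t, Φ.TSym S q t ∧
    (∀ r ∈ L, t r ≠ 0) ∧ ∃ x ∈ T.fix, x * g * x⁻¹ = Φ.elt L t

/-- The claim at one state of the descent. -/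
def TwState (T : Tw S K) (q : ℕ) (ord tab : List (List ℕ)) (F : List ℕ) (k : ℕ) : Prop :=
  ∀ L : List (Fin D.nroots), L.map Fin.val = F → (∀ r ∈ L, Φ.toTables.Pos r) →
  ∀ t, Φ.TSym S q t → (∀ r ∈ L, t r ≠ 0) → ∀ g ∈ T.fix, g * g = 1 →
    (Φ.elt L t)⁻¹ * g ∈ Φ.US K (inQ (Pack.fromPos ord k)) → TwGoal T q tab g

include hP hT in
theorem ordOK_stable : ∀ {ord : List (List ℕ)}, P.ordOK rho ord = true →
    ∀ r : Fin D.nroots, r.val ∈ ord.flatten → Φ.toTables.Pos r ∧ (S.ρ r).val ∈ ord.flatten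
  | [], _, r, hr => absurd hr List.not_mem_nil
  | o :: rest, h, r, hr => by
    simp only [Pack.ordOK, Bool.and_eq_true] at h
    rw [List.flatten_cons, List.mem_append] at hr
    rcases hr with hr | hr
    · rw [List.flatten_cons, hT.rho_val]
      obtain ⟨ho, -⟩ := h
      rcases o with _ | ⟨a, _ | ⟨b, _ | ⟨c, o⟩⟩⟩
      · simp at ho
      · simp only [Bool.and_eq_true, Nat.beq_eq] at ho
        rw [List.mem_singleton] at hr
        refine ⟨(hP.upQ (r := r) (by rw [hr]; exact ho.2)).1, List.mem_append_left _ ?_⟩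
        rw [hr, ho.1]; exact List.mem_singleton_self _
      · simp only [Bool.and_eq_true, Nat.beq_eq] at ho
        simp only [List.mem_cons, List.not_mem_nil, or_false] at hr
        obtain ⟨⟨⟨⟨⟨⟨e1, e2⟩, -⟩, -⟩, hu⟩, -⟩, hu'⟩ := ho
        rcases hr with hr | hr
        · exact ⟨(hP.upQ (r := r) (by rw [hr]; exact hu)).1,
            List.mem_append_left _ (by rw [hr, e1]; simp)⟩
        · exact ⟨(hP.upQ (r := r) (by rw [hr]; exact hu')).1,
            List.mem_append_left _ (by rw [hr, e2]; simp)⟩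
      · simp at ho
    · obtain ⟨h1, h2⟩ := ordOK_stable h.2 r hr
      exact ⟨h1, by rw [List.flatten_cons]; exact List.mem_append_right _ h2⟩

variable {ord : List (List ℕ)} (hord : P.ordOK rho ord = true)

include hP hT hord in
theorem from_pos {k : ℕ} (r : Fin D.nroots) (hr : inQ (Pack.fromPos ord k) r) : Φ.toTables.Pos r :=
  (ordOK_stable hP hT (ordOK_drop hord k) r hr).1

include hP hT hord in
theorem from_stable (k : ℕ) : S.Stable (inQ (Pack.fromPos ord k)) := fun r => by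
  refine ⟨fun h => ?_, fun h => (ordOK_stable hP hT (ordOK_drop hord k) r h).2⟩
  have := (ordOK_stable hP hT (ordOK_drop hord k) (S.ρ r) h).2
  rwa [hT.invol] at this

include hP hT hord in
/-- The shape of one orbit in the order. -/
theorem orbit_data {k : ℕ} (hk : k < ord.length) :
    ∃ r : Fin D.nroots, r.val = Pack.headPos ord k ∧
      P.upQ r.val (Pack.afterPos ord k) = true ∧
      Pack.fromPos ord k = r.val :: Pack.afterPos ord k ∧
      ((S.ρ r = r ∧ ord.getD k [] = [r.val]) ∨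
        (S.ρ r ≠ r ∧ 0 ≤ Φ.pair r (S.ρ r) ∧ ord.getD k [] = [r.val, (S.ρ r).val] ∧
          P.upQ (S.ρ r).val (Pack.fromPos ord (k + 1)) = true)) := by
  have hd := ordOK_drop hord k
  have he : ord.drop k = ord.getD k [] :: ord.drop (k + 1) := by
    rw [List.getD_eq_getElem _ _ hk]; exact List.drop_eq_getElem_cons hk
  rw [he] at hd
  have hf : Pack.fromPos ord k = ord.getD k [] ++ Pack.fromPos ord (k + 1) := by
    rw [Pack.fromPos, he, List.flatten_cons]; rfl
  rcases hoe : ord.getD k [] with _ | ⟨a, _ | ⟨b, _ | ⟨c, o⟩⟩⟩ <;> rw [hoe] at hd hf <;>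
    simp only [Pack.ordOK, Bool.and_eq_true] at hd <;> obtain ⟨ho, -⟩ := hd
  · simp at ho
  · simp only [Bool.and_eq_true, Nat.beq_eq] at ho
    have ha : a < D.nroots := by
      have := ho.2
      simp only [Pack.upQ, Bool.and_eq_true, List.all_cons] at this
      have h' := this.1.2.1
      simp only [Pack.posB, Bool.and_eq_true, Nat.blt_eq] at h'
      rw [hP.hn]; exact h'.2
    have e1 : Pack.afterPos ord k = Pack.fromPos ord (k + 1) := by rw [Pack.afterPos, hoe]; rfl
    refine ⟨⟨a, ha⟩, by rw [Pack.headPos, hoe]; rfl, by rw [e1]; exact ho.2, by rw [e1]; exact hf,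
      Or.inl ⟨Fin.ext (by rw [hT.rho_val]; exact ho.1), rfl⟩⟩
  · simp only [Bool.and_eq_true, Nat.beq_eq, Bool.not_eq_true', zeq_iff] at ho
    obtain ⟨⟨⟨⟨⟨⟨h1, -⟩, h3⟩, h4⟩, h5⟩, -⟩, h7⟩ := ho
    have ha : a < D.nroots := by
      have := h5
      simp only [Pack.upQ, Bool.and_eq_true, List.all_cons] at this
      have h' := this.1.2.1
      simp only [Pack.posB, Bool.and_eq_true, Nat.blt_eq] at h'
      rw [hP.hn]; exact h'.2
    have e1 : Pack.afterPos ord k = b :: Pack.fromPos ord (k + 1) := by rw [Pack.afterPos, hoe]; rfl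
    have hb : (S.ρ ⟨a, ha⟩).val = b := by rw [hT.rho_val]; exact h1
    refine ⟨⟨a, ha⟩, by rw [Pack.headPos, hoe]; rfl, by rw [e1]; exact h5, by rw [e1]; exact hf,
      Or.inr ⟨fun e => ?_, ?_, by rw [hb], by rw [hb]; exact h7⟩⟩
    · have : a = b := by rw [← hb, e]
      rw [this, Nat.beq_refl] at h3
      exact Bool.noConfusion h3
    · rw [hP.pair, hb, h4]
  · simp at ho

include hL hP hT hord in
/-- The coordinates of a fixed element at an orbit. -/
theorem split_fix {k : ℕ} (hk : k < ord.length) {r : Fin D.nroots}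
    (hr : r.val = Pack.headPos ord k) {G : Type*} [Group G] {ν : ↥(Φ.US K Φ.toTables.Pos) →* G}
    (hker : ∀ u : ↥(Φ.US K Φ.toTables.Pos), ν u = 1 ↔
      (u : GL D.Idx K) ∈ Φ.US K (inQ (Pack.afterPos ord k)))
    (hpos : Φ.toTables.Pos r) {v : GL D.Idx K} (hv : v ∈ Φ.US K (inQ (Pack.fromPos ord k)))
    (hvf : v ∈ T.fix) {c : K} (hvU : v ∈ Φ.US K Φ.toTables.Pos)
    (hc : ν ⟨v, hvU⟩ = ν (xU Φ r hpos c)) :
    (S.ρ r = r → c ^ q = c ∧ Φ.toAlg.xg r c * v ∈ Φ.US K (inQ (Pack.fromPos ord (k + 1)))) ∧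
    (S.ρ r ≠ r → Φ.toAlg.xg r c * Φ.toAlg.xg (S.ρ r) (c ^ q) * v ∈
      Φ.US K (inQ (Pack.fromPos ord (k + 1)))) := by
  obtain ⟨r', hr', hup, -, hshape⟩ := orbit_data hP hT hord hk
  obtain rfl : r' = r := Fin.ext (hr'.trans hr.symm)
  have hst := from_stable hP hT hord (k + 1)
  have hsub : ∀ x : Fin D.nroots, inQ (Pack.afterPos ord k) x → Φ.toTables.Pos x :=
    (hP.upQ hup).2.2.1
  -- modulo the rest, `v` is the root element
  have h1 : ν (xU Φ r' hpos c * ⟨v, hvU⟩) = 1 := by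
    rw [map_mul, hc, ← xi_add, CharTwo.add_self_eq_zero, xi_zero]
  have hw : Φ.toAlg.xg r' c * v ∈ Φ.US K (inQ (Pack.afterPos ord k)) := (hker _).1 h1
  have happ : ∀ {x : GL D.Idx K}, x ∈ Φ.US K (inQ (Pack.fromPos ord (k + 1))) →
      T.app x ∈ Φ.US K (inQ (Pack.fromPos ord (k + 1))) := fun hx => T.app_mem_US hst hx
  refine ⟨fun hfx => ?_, fun hne => ?_⟩
  · rcases hshape with ⟨-, ho⟩ | ⟨hne, -⟩
    swap
    · exact absurd hfx hne
    have e : Pack.afterPos ord k = Pack.fromPos ord (k + 1) := by rw [Pack.afterPos, ho]; rfl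
    rw [e] at hw
    refine ⟨?_, hw⟩
    have h2 := happ hw
    rw [T.app_mul (Φ.toAlg.xg_mem_group _ _) hvf.1, hT.app, hfx, hvf.2] at h2
    have h3 : Φ.toAlg.xg r' (c + c ^ q) ∈ Φ.US K (inQ (Pack.fromPos ord (k + 1))) := by
      rw [Φ.toAlg.xg_add]
      have := mul_mem hw (inv_mem h2)
      rwa [_root_.mul_inv_rev, Chev.xg_inv_self, mul_assoc, mul_inv_cancel_left] at this
    have h4 : c + c ^ q = 0 := xi_inj hker hpos hP hL hup ((hker _).2 (by rw [e]; exact h3))
    exact (CharTwo.add_eq_zero.1 h4).symm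
  · rcases hshape with ⟨e', -⟩ | ⟨-, hp, ho, hup'⟩
    · exact absurd e' hne
    set s := S.ρ r' with hs
    have e : Pack.afterPos ord k = s.val :: Pack.fromPos ord (k + 1) := by
      rw [Pack.afterPos, ho]; rfl
    rw [e] at hw
    haveI := hP.normal_Q (K := K) hL hup'
    set μ := QuotientGroup.mk' ((Φ.US K (inQ (Pack.fromPos ord (k + 1)))).subgroupOf
      (Φ.US K Φ.toTables.Pos))
    have hker' : ∀ u : ↥(Φ.US K Φ.toTables.Pos), μ u = 1 ↔
        (u : GL D.Idx K) ∈ Φ.US K (inQ (Pack.fromPos ord (k + 1))) := fun u => by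
      rw [QuotientGroup.mk'_apply, QuotientGroup.eq_one_iff, Subgroup.mem_subgroupOf]
    have hps : Φ.toTables.Pos s := (hP.upQ hup').1
    have hwU : Φ.toAlg.xg r' c * v ∈ Φ.US K Φ.toTables.Pos := mul_mem (Φ.xg_mem_US hpos c) hvU
    obtain ⟨d, hd⟩ := xi_coord hker' hps hP hL hup' hw hwU
    have h2 : μ (xU Φ s hps d * ⟨_, hwU⟩) = 1 := by
      rw [map_mul, hd, ← xi_add, CharTwo.add_self_eq_zero, xi_zero]
    have hz : Φ.toAlg.xg s d * (Φ.toAlg.xg r' c * v) ∈ Φ.US K (inQ (Pack.fromPos ord (k + 1))) :=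
      (hker' _).1 h2
    have hss : S.ρ s = r' := hT.invol r'
    have h3 := happ hz
    rw [T.app_mul (Φ.toAlg.xg_mem_group _ _) (mul_mem (Φ.toAlg.xg_mem_group _ _) hvf.1),
      T.app_mul (Φ.toAlg.xg_mem_group _ _) hvf.1, hT.app, hT.app, hvf.2, hss, ← hs] at h3
    -- comparing the two
    have hcm : ∀ a b : K, Commute (Φ.toAlg.xg r' a) (Φ.toAlg.xg s b) := fun a b => hL.commute hp a b
    have h5 : Φ.toAlg.xg r' (c + d ^ q) * Φ.toAlg.xg s (d + c ^ q) ∈
        Φ.US K (inQ (Pack.fromPos ord (k + 1))) := by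
      have h6 := mul_mem hz (inv_mem h3)
      rw [show Φ.toAlg.xg s d * (Φ.toAlg.xg r' c * v) *
          (Φ.toAlg.xg r' (d ^ q) * (Φ.toAlg.xg s (c ^ q) * v))⁻¹ =
          Φ.toAlg.xg s d * Φ.toAlg.xg r' c * (Φ.toAlg.xg s (c ^ q))⁻¹ *
            (Φ.toAlg.xg r' (d ^ q))⁻¹ by group, Chev.xg_inv_self, Chev.xg_inv_self] at h6
      convert h6 using 1
      rw [Φ.toAlg.xg_add, Φ.toAlg.xg_add, ← (hcm c d).eq, mul_assoc (Φ.toAlg.xg r' c * Φ.toAlg.xg s d),
        ← (hcm (d ^ q) (c ^ q)).eq]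
      calc Φ.toAlg.xg r' c * Φ.toAlg.xg r' (d ^ q) * (Φ.toAlg.xg s d * Φ.toAlg.xg s (c ^ q))
          = Φ.toAlg.xg r' c * (Φ.toAlg.xg r' (d ^ q) * Φ.toAlg.xg s d) * Φ.toAlg.xg s (c ^ q) := by group
        _ = Φ.toAlg.xg r' c * (Φ.toAlg.xg s d * Φ.toAlg.xg r' (d ^ q)) * Φ.toAlg.xg s (c ^ q) := by
          rw [(hcm (d ^ q) d).eq]
        _ = _ := by group
    -- read off the first coordinate
    have h7 : c + d ^ q = 0 := by
      refine xi_inj hker hpos hP hL hup ((hker _).2 ?_)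
      show Φ.toAlg.xg r' (c + d ^ q) ∈ _
      rw [e]
      have := mul_mem (Φ.US_mono (T := inQ (s.val :: Pack.fromPos ord (k + 1)))
        (fun x hx => List.mem_cons_of_mem _ hx) h5)
        (inv_mem (Φ.xg_mem_US (S := inQ (s.val :: Pack.fromPos ord (k + 1))) List.mem_cons_self
          (d + c ^ q)))
      rwa [mul_inv_cancel_right] at this
    have hd' : d = c ^ q := by
      have h8 := congrArg (· ^ q) (CharTwo.add_eq_zero.1 h7)
      simp only [hT.qq] at h8
      exact h8.symm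
    rw [hd', ← mul_assoc, ← (hcm c (c ^ q)).eq] at hz
    exact hz

include hL hP hT hord in
/-- Clearing the coordinate at one orbit with a conjugation. -/
theorem clearAt {tab : List (List ℕ)} {F : List ℕ} {k : ℕ} (hk : k < ord.length)
    (hnext : TwState T q ord tab F (k + 1)) {L : List (Fin D.nroots)} (hLF : L.map Fin.val = F)
    (hpL : ∀ r ∈ L, Φ.toTables.Pos r) {t : Fin D.nroots → K} (hts : Φ.TSym S q t)
    (htn : ∀ r ∈ L, t r ≠ 0) (hef : Φ.elt L t ∈ T.fix) {g : GL D.Idx K} (hg : g ∈ T.fix)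
    (hg2 : g * g = 1) (hv : (Φ.elt L t)⁻¹ * g ∈ Φ.US K (inQ (Pack.fromPos ord k)))
    {r : Fin D.nroots} (hr : r.val = Pack.headPos ord k) (hpos : Φ.toTables.Pos r)
    {G : Type*} [Group G] {ν : ↥(Φ.US K Φ.toTables.Pos) →* G}
    (hker : ∀ u : ↥(Φ.US K Φ.toTables.Pos), ν u = 1 ↔
      (u : GL D.Idx K) ∈ Φ.US K (inQ (Pack.afterPos ord k)))
    {c : K} (hc : ∀ h : (Φ.elt L t)⁻¹ * g ∈ Φ.US K Φ.toTables.Pos, ν ⟨_, h⟩ = ν (xU Φ r hpos c))
    {x : GL D.Idx K} (hxU : x ∈ Φ.US K Φ.toTables.Pos) (hxf : x ∈ T.fix) (hx2 : x * x = 1)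
    (hxc : ∀ hU : Φ.elt L t ∈ Φ.US K Φ.toTables.Pos,
      ν ⟨x, hxU⟩ * ν ⟨_, hU⟩ * ν ⟨x, hxU⟩ = ν ⟨_, hU⟩ * ν (xU Φ r hpos c)) :
    TwGoal T q tab g := by
  obtain ⟨r', hr', hup, hfrom, hshape⟩ := orbit_data hP hT hord hk
  obtain rfl : r' = r := Fin.ext (hr'.trans hr.symm)
  have hU : Φ.elt L t ∈ Φ.US K Φ.toTables.Pos := Φ.elt_mem hpL
  have hvU : (Φ.elt L t)⁻¹ * g ∈ Φ.US K Φ.toTables.Pos :=
    Φ.US_mono (fun y hy => from_pos hP hT hord y hy) hv
  have hgU : g ∈ Φ.US K Φ.toTables.Pos := by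
    have := mul_mem hU hvU
    rwa [mul_inv_cancel_left] at this
  have hg' : x * g * x ∈ Φ.US K Φ.toTables.Pos := mul_mem (mul_mem hxU hgU) hxU
  set g' : ↥(Φ.US K Φ.toTables.Pos) := ⟨_, hg'⟩ with hg'def
  set X : ↥(Φ.US K Φ.toTables.Pos) := ⟨x, hxU⟩
  have hX : ν X * ν X = 1 := by
    rw [← map_mul, ← map_one ν]
    exact congrArg ν (Subtype.ext hx2)
  have h1 : ν ((⟨_, hU⟩ : ↥(Φ.US K Φ.toTables.Pos))⁻¹ * g') = 1 := by
    have e : g' = X * (⟨_, hU⟩ * ⟨_, hvU⟩) * X := Subtype.ext (by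
      show x * g * x = x * (Φ.elt L t * ((Φ.elt L t)⁻¹ * g)) * x
      rw [mul_inv_cancel_left])
    rw [e, map_mul, map_inv, map_mul, map_mul, map_mul, hc hvU]
    have hcen := xi_central hker hpos hP hL hup X c
    calc (ν ⟨_, hU⟩)⁻¹ * (ν X * (ν ⟨_, hU⟩ * ν (xU Φ r' hpos c)) * ν X)
        = (ν ⟨_, hU⟩)⁻¹ * (ν X * ν ⟨_, hU⟩ * (ν (xU Φ r' hpos c) * ν X)) := by group
      _ = (ν ⟨_, hU⟩)⁻¹ * (ν X * ν ⟨_, hU⟩ * ν X) * ν (xU Φ r' hpos c) := by rw [← hcen.eq]; group
      _ = ν (xU Φ r' hpos c) * ν (xU Φ r' hpos c) := by rw [hxc hU]; group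
      _ = 1 := by rw [← xi_add, CharTwo.add_self_eq_zero, xi_zero]
  have hw : (Φ.elt L t)⁻¹ * (x * g * x) ∈ Φ.US K (inQ (Pack.afterPos ord k)) := (hker _).1 h1
  have hwf : (Φ.elt L t)⁻¹ * (x * g * x) ∈ T.fix :=
    mul_mem (inv_mem hef) (mul_mem (mul_mem hxf hg) hxf)
  have hwk : (Φ.elt L t)⁻¹ * (x * g * x) ∈ Φ.US K (inQ (Pack.fromPos ord k)) :=
    Φ.US_mono (fun y hy => by rw [hfrom]; exact List.mem_cons_of_mem _ hy) hw
  have hwU : (Φ.elt L t)⁻¹ * (x * g * x) ∈ Φ.US K Φ.toTables.Pos := mul_mem (inv_mem hU) hg'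
  have hw0 : ν ⟨_, hwU⟩ = ν (xU Φ r' hpos 0) := by rw [xi_zero]; exact (hker _).2 hw
  have hs := split_fix hL hP hT hord hk hr hker hpos hwk hwf hwU hw0
  have hnew : (Φ.elt L t)⁻¹ * (x * g * x) ∈ Φ.US K (inQ (Pack.fromPos ord (k + 1))) := by
    by_cases e : S.ρ r' = r'
    · simpa [Φ.toAlg.xg_zero] using (hs.1 e).2
    · simpa [Φ.toAlg.xg_zero, zero_pow hT.q0] using hs.2 e
  obtain ⟨L', hL', t', ht', hn', y, hy, hye⟩ := hnext L hLF hpL t hts htn (x * g * x)
    (mul_mem (mul_mem hxf hg) hxf) (by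
      calc x * g * x * (x * g * x) = x * g * (x * x) * g * x := by group
        _ = x * (g * g) * x := by rw [hx2]; group
        _ = 1 := by rw [hg2, mul_one, hx2]) hnew
  refine ⟨L', hL', t', ht', hn', y * x, mul_mem hy hxf, ?_⟩
  rw [← hye, _root_.mul_inv_rev, inv_eq_of_mul_eq_one_right hx2]
  group

include hL hP hT hord in
/-- The descent along a checked tree. -/
theorem descend [Finite K] {tab : List (List ℕ)} : ∀ {Tr : TwTree} {stk : List (List ℕ × ℕ)}
    {F : List ℕ} {k : ℕ}, P.twTreeOK rho ord tab Tr stk F k = true →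
    (∀ s ∈ stk, TwState T q ord tab s.1 s.2) → TwState T q ord tab F k := by
  intro Tr
  induction Tr with
  | leaf =>
    intro stk F k hok _ L hLF hpL t hts htn g hg _ hv
    simp only [Pack.twTreeOK, Bool.and_eq_true, Bool.or_eq_true, Nat.beq_eq, List.isEmpty_iff,
      List.any_eq_true, beq_iff_eq] at hok
    obtain ⟨hk, hm⟩ := hok
    have hbot : Φ.US K (inQ (Pack.fromPos ord k)) ≤ (⊥ : Subgroup (GL D.Idx K)) := by
      rw [Chev.US, Subgroup.closure_le]
      rintro _ ⟨r, c, hr, rfl⟩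
      have : r.val ∈ Pack.fromPos ord k := hr
      rw [Pack.fromPos, hk, List.drop_length] at this
      exact absurd this List.not_mem_nil
    refine ⟨L, ?_, t, hts, htn, 1, one_mem _, ?_⟩
    · rcases hm with e | ⟨R, hR, rfl⟩
      · exact Or.inl (List.map_eq_nil_iff.1 (hLF.trans e))
      · exact Or.inr (hLF ▸ hR)
    · rw [one_mul, _root_.inv_one, mul_one, inv_mul_eq_one.1 (Subgroup.mem_bot.1 (hbot hv))]
  | dead =>
    intro stk F k hok _ L hLF hpL t hts htn g hg hg2 hv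
    exfalso
    simp only [Pack.twTreeOK, Bool.and_eq_true, Nat.blt_eq, Nat.beq_eq] at hok
    obtain ⟨⟨⟨hk, horb⟩, hlow⟩, hlen⟩ := hok
    subst hLF
    obtain ⟨r, hr, hup, hfrom, -⟩ := orbit_data hP hT hord hk
    have hpos := (hP.upQ hup).1
    haveI := hP.normal_Q (K := K) hL hup
    set ν := QuotientGroup.mk' ((Φ.US K (inQ (Pack.afterPos ord k))).subgroupOf
      (Φ.US K Φ.toTables.Pos))
    have hker : ∀ u : ↥(Φ.US K Φ.toTables.Pos), ν u = 1 ↔
        (u : GL D.Idx K) ∈ Φ.US K (inQ (Pack.afterPos ord k)) := fun u => by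
      rw [QuotientGroup.mk'_apply, QuotientGroup.eq_one_iff, Subgroup.mem_subgroupOf]
    have hvU : (Φ.elt L t)⁻¹ * g ∈ Φ.US K Φ.toTables.Pos :=
      Φ.US_mono (fun y hy => from_pos hP hT hord y hy) hv
    obtain ⟨c, hc⟩ := xi_coord hker hpos hP hL hup
      (show (Φ.elt L t)⁻¹ * g ∈ Φ.US K (inQ (r.val :: Pack.afterPos ord k)) by rw [← hfrom]; exact hv) hvU
    have hU : Φ.elt L t ∈ Φ.US K Φ.toTables.Pos := Φ.elt_mem hpL
    have h1 : ν (⟨_, hU⟩ * ⟨_, hvU⟩) * ν (⟨_, hU⟩ * ⟨_, hvU⟩) = 1 := by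
      rw [← map_mul, ← map_one ν]
      refine congrArg ν (Subtype.ext ?_)
      show Φ.elt L t * ((Φ.elt L t)⁻¹ * g) * (Φ.elt L t * ((Φ.elt L t)⁻¹ * g)) = 1
      rw [mul_inv_cancel_left]; exact hg2
    rw [map_mul, hc, (xi_central hker hpos hP hL hup ⟨_, hU⟩ c).symm.mul_mul_mul_comm,
      xi_square hker hpos hP hL hup t (by rw [hr]; exact hlow) hpL hU, ← xi_add, ← xi_add,
      CharTwo.add_self_eq_zero, add_zero] at h1
    obtain ⟨M, hM1, hM2, hM3⟩ := squareSum_eq P r.val t L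
    rw [hr] at hM1
    have hlenM : M.length = 1 := by rw [← hlen, ← hM1, List.length_map]
    obtain ⟨p, rfl⟩ := List.length_eq_one_iff.1 hlenM
    have h0 := xi_inj hker hpos hP hL hup h1
    rw [hM3, List.map_singleton, List.sum_singleton] at h0
    exact mul_ne_zero (htn _ (hM2 p List.mem_cons_self).1) (htn _ (hM2 p List.mem_cons_self).2) h0
  | kill A Tr ih =>
    intro stk F k hok hstk L hLF hpL t hts htn g hg hg2 hv
    simp only [Pack.twTreeOK, Bool.and_eq_true, Nat.blt_eq] at hok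
    obtain ⟨⟨⟨hk, horb⟩, hkill⟩, hrec⟩ := hok
    have hnext := ih hrec hstk
    subst hLF
    obtain ⟨r, hr, hup, hfrom, hshape⟩ := orbit_data hP hT hord hk
    have hpos := (hP.upQ hup).1
    haveI := hP.normal_Q (K := K) hL hup
    set ν := QuotientGroup.mk' ((Φ.US K (inQ (Pack.afterPos ord k))).subgroupOf
      (Φ.US K Φ.toTables.Pos))
    have hker : ∀ u : ↥(Φ.US K Φ.toTables.Pos), ν u = 1 ↔
        (u : GL D.Idx K) ∈ Φ.US K (inQ (Pack.afterPos ord k)) := fun u => by
      rw [QuotientGroup.mk'_apply, QuotientGroup.eq_one_iff, Subgroup.mem_subgroupOf]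
    have hvU : (Φ.elt L t)⁻¹ * g ∈ Φ.US K Φ.toTables.Pos :=
      Φ.US_mono (fun y hy => from_pos hP hT hord y hy) hv
    have hef : Φ.elt L t ∈ T.fix := hT.fix_orbF hL hP hts L horb
    obtain ⟨c, hc⟩ := xi_coord hker hpos hP hL hup
      (show (Φ.elt L t)⁻¹ * g ∈ Φ.US K (inQ (r.val :: Pack.afterPos ord k)) by rw [← hfrom]; exact hv) hvU
    have hsp := split_fix hL hP hT hord hk hr hker hpos hv (mul_mem (inv_mem hef) hg) hvU hc
    have fin : ∀ {x : GL D.Idx K} (hxU : x ∈ Φ.US K Φ.toTables.Pos), x ∈ T.fix → x * x = 1 →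
        (∀ hU : Φ.elt L t ∈ Φ.US K Φ.toTables.Pos,
          ν ⟨x, hxU⟩ * ν ⟨_, hU⟩ * ν ⟨x, hxU⟩ = ν ⟨_, hU⟩ * ν (xU Φ r hpos c)) →
        TwGoal T q tab g := fun hxU hxf hx2 hxc =>
      clearAt hL hP hT hord hk hnext rfl hpL hts htn hef hg hg2 hv hr hpos hker (fun _ => hc)
        hxU hxf hx2 hxc
    have hfixed : (ord.getD k []).length = 1 → c ^ q = c := fun e => by
      rcases hshape with ⟨e', -⟩ | ⟨-, -, ho, -⟩
      · exact (hsp.1 e').1
      · rw [ho] at e; simp at e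
    simp only [Pack.killTw, show (ord.getD k []).headD 0 = r.val from hr.symm] at hkill
    rcases A with _ | ⟨a, _ | ⟨a', _ | ⟨a'', A⟩⟩⟩
    · simp at hkill
    · simp only [Bool.and_eq_true, Nat.beq_eq] at hkill
      obtain ⟨⟨⟨⟨ha, hra⟩, hlow⟩, holen⟩, hhit⟩ := hkill
      have han : a < D.nroots := by
        simp only [Pack.posB, Bool.and_eq_true, Nat.blt_eq] at ha
        rw [hP.hn]; exact ha.2
      set af : Fin D.nroots := ⟨a, han⟩
      have hap : Φ.toTables.Pos af := hP.pos ha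
      have hraf : S.ρ af = af := Fin.ext (by rw [hT.rho_val]; exact hra)
      rcases hh : P.twHits a r.val (L.map Fin.val) with _ | ⟨f, _ | ⟨f2, H⟩⟩ <;> rw [hh] at hhit <;>
        simp only [Bool.false_eq_true, Nat.beq_eq] at hhit
      obtain ⟨ff, hff, hfv, -⟩ := (hitSum_eq P a r.val (1 : K) t).1 f hh
      subst hfv
      have hrf : S.ρ ff = ff := Fin.ext (by rw [hT.rho_val]; exact hhit)
      have htf : t ff ^ q = t ff := by rw [← hts, hrf]
      have hl : (c / t ff) ^ q = c / t ff := by rw [div_pow, hfixed holen, htf]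
      refine fin (Φ.xg_mem_US hap (c / t ff)) (hT.fix_xg hraf hl) (Chev.xg_sq _ _) fun hU => ?_
      obtain ⟨ff', hff', hfv', hsum⟩ := (hitSum_eq P a r.val (c / t ff) t).1 ff.val hh
      obtain rfl : ff' = ff := Fin.ext hfv'
      have := xi_conj hker hpos hP hL hup hap (c / t ff') t (L := L) hlow hpL hU
      rw [hsum, mul_div_cancel₀ _ (htn _ hff)] at this
      exact this
    · simp only [Bool.and_eq_true, Nat.beq_eq, Bool.not_eq_true', zeq_iff] at hkill
      obtain ⟨⟨⟨⟨⟨⟨⟨⟨ha, ha'⟩, hra⟩, -⟩, -⟩, hpair⟩, hlow⟩, hlow'⟩, hhit⟩ := hkill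
      have han : a < D.nroots := by
        simp only [Pack.posB, Bool.and_eq_true, Nat.blt_eq] at ha
        rw [hP.hn]; exact ha.2
      have han' : a' < D.nroots := by
        simp only [Pack.posB, Bool.and_eq_true, Nat.blt_eq] at ha'
        rw [hP.hn]; exact ha'.2
      set af : Fin D.nroots := ⟨a, han⟩
      set bf : Fin D.nroots := ⟨a', han'⟩
      have hap : Φ.toTables.Pos af := hP.pos ha
      have hbp : Φ.toTables.Pos bf := hP.pos ha'
      have hrab : S.ρ af = bf := Fin.ext (by rw [hT.rho_val]; exact hra)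
      have hp0 : 0 ≤ Φ.pair af bf := by rw [hP.pair]; exact hpair.ge
      have hcm := fun u w : K => hL.commute hp0 u w
      have fin2 : ∀ l : K, (hitSum P a r.val l L t + hitSum P a' r.val (l ^ q) L t = c) →
          TwGoal T q tab g := by
        intro l hsum
        refine fin (mul_mem (Φ.xg_mem_US hap l) (Φ.xg_mem_US hbp (l ^ q)))
          (hT.fix_pair hL hrab hp0 l) ?_ fun hU => ?_
        · rw [(hcm l (l ^ q)).symm.mul_mul_mul_comm, Chev.xg_sq, Chev.xg_sq, one_mul]
        · have e1 : ν (xU Φ af hap l) * ν ⟨_, hU⟩ * ν (xU Φ af hap l) =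
              ν ⟨_, hU⟩ * ν (xU Φ r hpos (hitSum P a r.val l L t)) :=
            xi_conj hker hpos hP hL hup hap l t (L := L) hlow hpL hU
          have e2 : ν (xU Φ bf hbp (l ^ q)) * ν ⟨_, hU⟩ * ν (xU Φ bf hbp (l ^ q)) =
              ν ⟨_, hU⟩ * ν (xU Φ r hpos (hitSum P a' r.val (l ^ q) L t)) :=
            xi_conj hker hpos hP hL hup hbp (l ^ q) t (L := L) hlow' hpL hU
          have hcen := xi_central hker hpos hP hL hup (xU Φ af hap l) (hitSum P a' r.val (l ^ q) L t)
          have hab : ν (xU Φ af hap l) * ν (xU Φ bf hbp (l ^ q)) =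
              ν (xU Φ bf hbp (l ^ q)) * ν (xU Φ af hap l) := by
            rw [← map_mul, ← map_mul]
            exact congrArg ν (Subtype.ext (hcm l (l ^ q)).eq)
          rw [show (⟨Φ.toAlg.xg af l * Φ.toAlg.xg bf (l ^ q),
              mul_mem (Φ.xg_mem_US hap l) (Φ.xg_mem_US hbp (l ^ q))⟩ :
              ↥(Φ.US K Φ.toTables.Pos)) = xU Φ af hap l * xU Φ bf hbp (l ^ q) from rfl, map_mul]
          calc ν (xU Φ af hap l) * ν (xU Φ bf hbp (l ^ q)) * ν ⟨_, hU⟩ *
                (ν (xU Φ af hap l) * ν (xU Φ bf hbp (l ^ q)))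
              = ν (xU Φ af hap l) * (ν (xU Φ bf hbp (l ^ q)) * ν ⟨_, hU⟩ * ν (xU Φ bf hbp (l ^ q))) *
                ν (xU Φ af hap l) := by
                  conv_lhs => arg 2; rw [hab]
                  group
            _ = ν (xU Φ af hap l) * ν ⟨_, hU⟩ *
                (ν (xU Φ r hpos (hitSum P a' r.val (l ^ q) L t)) * ν (xU Φ af hap l)) := by
              rw [e2]; group
            _ = (ν (xU Φ af hap l) * ν ⟨_, hU⟩ * ν (xU Φ af hap l)) *
                ν (xU Φ r hpos (hitSum P a' r.val (l ^ q) L t)) := by rw [← hcen.eq]; group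
            _ = _ := by rw [e1, ← hsum, xi_add]; group
      rcases hh : P.twHits a r.val (L.map Fin.val) with _ | ⟨f, _ | ⟨f2, H⟩⟩ <;>
        rcases hh' : P.twHits a' r.val (L.map Fin.val) with _ | ⟨f', _ | ⟨f3, H'⟩⟩ <;>
        rw [hh, hh'] at hhit <;> simp only [Bool.false_eq_true, Bool.and_eq_true, Nat.beq_eq] at hhit
      · obtain ⟨gg, hgg, hgv, -⟩ := (hitSum_eq P a' r.val (1 : K) t).1 f' hh'
        subst hgv
        refine fin2 ((c / t gg) ^ q) ?_
        obtain ⟨gg', -, hgv', hs⟩ := (hitSum_eq P a' r.val (((c / t gg) ^ q) ^ q) t).1 gg.val hh'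
        obtain rfl : gg' = gg := Fin.ext hgv'
        rw [(hitSum_eq P a r.val _ t).2 hh, hs, hT.qq, zero_add, mul_div_cancel₀ _ (htn _ hgg)]
      · obtain ⟨ff, hff, hfv, -⟩ := (hitSum_eq P a r.val (1 : K) t).1 f hh
        subst hfv
        refine fin2 (c / t ff) ?_
        obtain ⟨ff', -, hfv', hs⟩ := (hitSum_eq P a r.val (c / t ff) t).1 ff.val hh
        obtain rfl : ff' = ff := Fin.ext hfv'
        rw [(hitSum_eq P a' r.val _ t).2 hh', hs, add_zero, mul_div_cancel₀ _ (htn _ hff)]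
      · obtain ⟨holen, hrf⟩ := hhit
        obtain ⟨ff, hff, hfv, -⟩ := (hitSum_eq P a r.val (1 : K) t).1 f hh
        subst hfv
        obtain ⟨z, hz⟩ := hT.trace c (hfixed holen)
        refine fin2 (z / t ff) ?_
        obtain ⟨ff', -, hfv', hs⟩ := (hitSum_eq P a r.val (z / t ff) t).1 ff.val hh
        obtain rfl : ff' = ff := Fin.ext hfv'
        obtain ⟨gg, -, hgv, hs'⟩ := (hitSum_eq P a' r.val ((z / t ff') ^ q) t).1 f' hh'
        have : gg = S.ρ ff' := Fin.ext (by rw [hgv, hT.rho_val, hrf])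
        rw [hs, hs', this, hts, ← mul_pow, mul_div_cancel₀ _ (htn _ hff), hz]
    · simp at hkill
  | back i a u =>
    intro stk F k hok hstk L hLF hpL t hts htn g hg hg2 hv
    simp only [Pack.twTreeOK, Pack.backOK, Bool.and_eq_true, Nat.blt_eq, Nat.beq_eq] at hok
    obtain ⟨⟨⟨⟨⟨hk, holen⟩, hlow⟩, horb⟩, hi⟩, hE⟩ := hok
    have hE' : stk.getD i ([], 0) ∈ stk := by
      rw [List.getD_eq_getElem _ _ hi]; exact List.getElem_mem hi
    rcases hEe : stk.getD i ([], 0) with ⟨Fi, ki⟩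
    rw [hEe] at hE hE'
    rcases ki with _ | j
    · simp at hE
    simp only [Bool.and_eq_true, Nat.blt_eq, Nat.beq_eq, beq_iff_eq, List.all_eq_true,
      List.contains_iff_mem] at hE
    obtain ⟨⟨⟨⟨⟨⟨⟨⟨hjk, horbi⟩, hu⟩, hsplit⟩, hrest⟩, ha⟩, hra⟩, hlowa⟩, hhit⟩ := hE
    have hnext : TwState T q ord tab Fi (j + 1) := hstk _ hE'
    have hj : j < ord.length := hjk.trans hk
    obtain ⟨rs, hrs, hups, hfroms, hshapes⟩ := orbit_data hP hT hord hj
    obtain ⟨r, hr, hup, hfrom, hshape⟩ := orbit_data hP hT hord hk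
    subst hLF
    rw [List.append_assoc] at hsplit
    obtain ⟨Li, Lrest, rfl, hLi, hLrest⟩ := List.map_eq_append_iff.1 hsplit
    obtain ⟨Lo, Lr, rfl, hLo, hLr⟩ := List.map_eq_append_iff.1 hLrest
    -- the constraint from the square
    have hpos := (hP.upQ hup).1
    haveI := hP.normal_Q (K := K) hL hup
    set ν := QuotientGroup.mk' ((Φ.US K (inQ (Pack.afterPos ord k))).subgroupOf
      (Φ.US K Φ.toTables.Pos))
    have hker : ∀ u : ↥(Φ.US K Φ.toTables.Pos), ν u = 1 ↔
        (u : GL D.Idx K) ∈ Φ.US K (inQ (Pack.afterPos ord k)) := fun u => by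
      rw [QuotientGroup.mk'_apply, QuotientGroup.eq_one_iff, Subgroup.mem_subgroupOf]
    have hvU : (Φ.elt (Li ++ (Lo ++ Lr)) t)⁻¹ * g ∈ Φ.US K Φ.toTables.Pos :=
      Φ.US_mono (fun y hy => from_pos hP hT hord y hy) hv
    obtain ⟨c, hc⟩ := xi_coord hker hpos hP hL hup
      (show (Φ.elt (Li ++ (Lo ++ Lr)) t)⁻¹ * g ∈ Φ.US K (inQ (r.val :: Pack.afterPos ord k)) by
        rw [← hfrom]; exact hv) hvU
    have hU : Φ.elt (Li ++ (Lo ++ Lr)) t ∈ Φ.US K Φ.toTables.Pos := Φ.elt_mem hpL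
    have h1 : ν (⟨_, hU⟩ * ⟨_, hvU⟩) * ν (⟨_, hU⟩ * ⟨_, hvU⟩) = 1 := by
      rw [← map_mul, ← map_one ν]
      refine congrArg ν (Subtype.ext ?_)
      show Φ.elt _ t * ((Φ.elt _ t)⁻¹ * g) * (Φ.elt _ t * ((Φ.elt _ t)⁻¹ * g)) = 1
      rw [mul_inv_cancel_left]; exact hg2
    rw [map_mul, hc, (xi_central hker hpos hP hL hup ⟨_, hU⟩ c).symm.mul_mul_mul_comm,
      xi_square hker hpos hP hL hup t (by rw [hr]; exact hlow) hpL hU, ← xi_add, ← xi_add,
      CharTwo.add_self_eq_zero, add_zero] at h1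
    have h0 := xi_inj hker hpos hP hL hup h1
    obtain ⟨M, hM1, hM2, hM3⟩ := squareSum_eq P r.val t (Li ++ (Lo ++ Lr))
    rw [hr] at hM1
    rcases hh : P.twHits a u Fi with _ | ⟨hn, _ | ⟨hn2, H⟩⟩ <;> rw [hh] at hhit
    · simp at hhit
    swap
    · simp at hhit
    rcases hsq : P.sqPairs (Pack.headPos ord k) ((Li ++ (Lo ++ Lr)).map Fin.val) with
      _ | ⟨⟨f, f₂⟩, _ | ⟨⟨f', f₂'⟩, _ | ⟨x3, X⟩⟩⟩ <;> rw [hsq] at hhit
    · simp at hhit
    · simp at hhit
    swap
    · simp at hhit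
    simp only [Bool.and_eq_true, Bool.or_eq_true, Nat.beq_eq] at hhit
    obtain ⟨hconj, hsel⟩ := hhit
    rw [hsq] at hM1
    obtain ⟨p1, M1, rfl, hp1, hM1'⟩ := List.map_eq_cons_iff.1 hM1
    obtain ⟨p2, M2, rfl, hp2, hM2'⟩ := List.map_eq_cons_iff.1 hM1'
    rw [List.map_eq_nil_iff] at hM2'
    subst hM2'
    simp only [Prod.mk.injEq] at hp1 hp2
    simp only [hM3, List.map_cons, List.map_nil, List.sum_cons, List.sum_nil, add_zero] at h0
    have hz : t p2.1 * t p2.2 = (t p1.1 * t p1.2) ^ q := by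
      rcases hconj with ⟨e1, e2⟩ | ⟨e1, e2⟩
      · rw [show p2.1 = S.ρ p1.1 from Fin.ext (by rw [hp2.1, hT.rho_val, hp1.1, e1]),
          show p2.2 = S.ρ p1.2 from Fin.ext (by rw [hp2.2, hT.rho_val, hp1.2, e2]), hts, hts, mul_pow]
      · rw [show p2.2 = S.ρ p1.1 from Fin.ext (by rw [hp2.2, hT.rho_val, hp1.1, e1]),
          show p2.1 = S.ρ p1.2 from Fin.ext (by rw [hp2.1, hT.rho_val, hp1.2, e2]), hts, hts, mul_pow,
          mul_comm]
    rw [hz] at h0
    have hzq : (t p1.1 * t p1.2) ^ q = t p1.1 * t p1.2 := (CharTwo.add_eq_zero.1 h0).symm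
    -- the conjugation
    obtain ⟨hh', hhL, hhv, -⟩ := (hitSum_eq P a u (1 : K) (L := Li) t).1 hn (by rw [hLi]; exact hh)
    have hus : u = rs.val := by rw [hu, hrs]
    obtain ⟨uu, huu, huv⟩ : ∃ uu ∈ Lo, uu = rs := by
      have : rs.val ∈ Lo.map Fin.val := by
        have hj' : rs.val ∈ ord.getD j [] := by
          rcases hshapes with ⟨-, e⟩ | ⟨-, -, e, -⟩ <;> rw [e] <;> exact List.mem_cons_self
        rw [hLo]; exact hj'
      obtain ⟨x, hx, hxv⟩ := List.mem_map.1 this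
      exact ⟨x, hx, Fin.ext hxv⟩
    subst huv
    have hne_u : t uu ≠ 0 := htn uu (List.mem_append_right _ (List.mem_append_left _ huu))
    have hne_h : t hh' ≠ 0 := htn hh' (List.mem_append_left _ hhL)
    have hratio : (t uu / t hh') ^ q = t uu / t hh' := by
      have hzq' : (t p2.1 * t p2.2) ^ q = t p2.1 * t p2.2 := by rw [hz, hT.qq, hzq]
      have key : (t uu * t hh' ^ q) ^ q = t uu * t hh' ^ q := by
        rcases hsel with ((⟨e1, e2⟩ | ⟨e1, e2⟩) | ⟨e1, e2⟩) | ⟨e1, e2⟩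
        · rw [← hts hh', show uu = p1.1 from Fin.ext (by rw [hp1.1, ← e1, hus]),
            show S.ρ hh' = p1.2 from Fin.ext (by rw [hT.rho_val, hhv, hp1.2, e2])]
          exact hzq
        · rw [← hts hh', show uu = p1.2 from Fin.ext (by rw [hp1.2, ← e1, hus]),
            show S.ρ hh' = p1.1 from Fin.ext (by rw [hT.rho_val, hhv, hp1.1, e2]), mul_comm]
          exact hzq
        · rw [← hts hh', show uu = p2.1 from Fin.ext (by rw [hp2.1, ← e1, hus]),
            show S.ρ hh' = p2.2 from Fin.ext (by rw [hT.rho_val, hhv, hp2.2, e2])]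
          exact hzq'
        · rw [← hts hh', show uu = p2.2 from Fin.ext (by rw [hp2.2, ← e1, hus]),
            show S.ρ hh' = p2.1 from Fin.ext (by rw [hT.rho_val, hhv, hp2.1, e2]), mul_comm]
          exact hzq'
      have hN : (t hh' * t hh' ^ q) ^ q = t hh' * t hh' ^ q := by rw [mul_pow, hT.qq, mul_comm]
      have e : t uu / t hh' = t uu * t hh' ^ q / (t hh' * t hh' ^ q) := by
        rw [mul_div_mul_right _ _ (pow_ne_zero _ hne_h)]
      rw [e, div_pow, key, hN]
    have han : a < D.nroots := by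
      simp only [Pack.posB, Bool.and_eq_true, Nat.blt_eq] at ha
      rw [hP.hn]; exact ha.2
    set af : Fin D.nroots := ⟨a, han⟩
    have hap : Φ.toTables.Pos af := hP.pos ha
    have hraf : S.ρ af = af := Fin.ext (by rw [hT.rho_val]; exact hra)
    have hposs := (hP.upQ hups).1
    haveI := hP.normal_Q (K := K) hL hups
    set μ := QuotientGroup.mk' ((Φ.US K (inQ (Pack.afterPos ord j))).subgroupOf
      (Φ.US K Φ.toTables.Pos))
    have hker' : ∀ u : ↥(Φ.US K Φ.toTables.Pos), μ u = 1 ↔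
        (u : GL D.Idx K) ∈ Φ.US K (inQ (Pack.afterPos ord j)) := fun u => by
      rw [QuotientGroup.mk'_apply, QuotientGroup.eq_one_iff, Subgroup.mem_subgroupOf]
    have hpLi : ∀ x ∈ Li, Φ.toTables.Pos x := fun x hx => hpL x (List.mem_append_left _ hx)
    have hvi : (Φ.elt Li t)⁻¹ * g =
        Φ.elt (Lo ++ Lr) t * ((Φ.elt (Li ++ (Lo ++ Lr)) t)⁻¹ * g) := by
      rw [Φ.elt_append Li]; group
    have hsubk : ∀ x : Fin D.nroots, inQ (Pack.fromPos ord k) x → inQ (Pack.fromPos ord (j + 1)) x :=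
      fun x hx => by
        show x.val ∈ (ord.drop (j + 1)).flatten
        obtain ⟨o, ho, hxo⟩ := List.mem_flatten.1 (show x.val ∈ (ord.drop k).flatten from hx)
        refine List.mem_flatten.2 ⟨o, ?_, hxo⟩
        rw [show k = (j + 1) + (k - (j + 1)) by omega, ← List.drop_drop] at ho
        exact List.mem_of_mem_drop ho
    have hoj : ∀ x ∈ Lo, inQ (Pack.fromPos ord j) x := fun x hx => by
      have : x.val ∈ ord.getD j [] := by rw [← hLo]; exact List.mem_map.2 ⟨x, hx, rfl⟩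
      show x.val ∈ (ord.drop j).flatten
      rw [List.drop_eq_getElem_cons hj, List.flatten_cons]
      rw [List.getD_eq_getElem _ _ hj] at this
      exact List.mem_append_left _ this
    have hrestj : ∀ x ∈ Lr, inQ (Pack.fromPos ord (j + 1)) x := fun x hx =>
      hrest x.val (by rw [← hLr]; exact List.mem_map.2 ⟨x, hx, rfl⟩)
    have hj1 : ∀ x : Fin D.nroots, inQ (Pack.fromPos ord (j + 1)) x → inQ (Pack.afterPos ord j) x :=
      fun x hx => List.mem_append_right _ hx
    have hjj : ∀ x : Fin D.nroots, inQ (Pack.fromPos ord (j + 1)) x → inQ (Pack.fromPos ord j) x :=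
      fun x hx => by
        show x.val ∈ (ord.drop j).flatten
        rw [List.drop_eq_getElem_cons hj, List.flatten_cons]
        exact List.mem_append_right _ hx
    have hvj : (Φ.elt Li t)⁻¹ * g ∈ Φ.US K (inQ (Pack.fromPos ord j)) := by
      rw [hvi]
      refine mul_mem (Φ.elt_mem fun x hx => ?_)
        (Φ.US_mono (fun x hx => hjj x (hsubk x hx)) hv)
      rcases List.mem_append.1 hx with hx | hx
      · exact hoj x hx
      · exact hjj x (hrestj x hx)
    refine clearAt hL hP hT hord hj hnext hLi hpLi hts (fun x hx => htn x (List.mem_append_left _ hx))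
      (hT.fix_orbF hL hP hts Li (by rw [hLi]; exact horbi)) hg hg2 hvj hrs hposs hker' (c := t uu)
      (fun hU' => ?_) (Φ.xg_mem_US hap (t uu / t hh')) (hT.fix_xg hraf hratio) (Chev.xg_sq _ _)
      fun hU' => ?_
    · have hLoU : Φ.elt Lo t ∈ Φ.US K Φ.toTables.Pos :=
        Φ.elt_mem fun x hx => hpL x (List.mem_append_right _ (List.mem_append_left _ hx))
      have hLrU : Φ.elt Lr t * ((Φ.elt (Li ++ (Lo ++ Lr)) t)⁻¹ * g) ∈ Φ.US K Φ.toTables.Pos :=
        mul_mem (Φ.elt_mem fun x hx => hpL x (List.mem_append_right _ (List.mem_append_right _ hx)))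
          hvU
      rw [show (⟨_, hU'⟩ : ↥(Φ.US K Φ.toTables.Pos)) = ⟨_, hLoU⟩ * ⟨_, hLrU⟩ from Subtype.ext (by
        show (Φ.elt Li t)⁻¹ * g = Φ.elt Lo t * (Φ.elt Lr t * _)
        rw [hvi, Φ.elt_append Lo, mul_assoc]), map_mul,
        (hker' ⟨_, hLrU⟩).2 (mul_mem (Φ.elt_mem fun x hx => hj1 x (hrestj x hx))
          (Φ.US_mono (fun x hx => hj1 x (hsubk x hx)) hv)), mul_one]
      -- the first root of the orbit
      rcases Lo with _ | ⟨x, Lo'⟩
      · simp at huu
      have hx : x = uu := by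
        refine Fin.ext ?_
        rw [hrs, Pack.headPos, ← hLo]
        rfl
      subst hx
      have hpx : Φ.elt Lo' t ∈ Φ.US K Φ.toTables.Pos := Φ.elt_mem fun y hy =>
        hpL y (List.mem_append_right _ (List.mem_append_left _ (List.mem_cons_of_mem _ hy)))
      rw [show (⟨_, hLoU⟩ : ↥(Φ.US K Φ.toTables.Pos)) = xU Φ x hposs (t x) * ⟨_, hpx⟩ from
        Subtype.ext (Φ.elt_cons x Lo' t), map_mul, (hker' ⟨_, hpx⟩).2 (Φ.elt_mem fun y hy => by
          show y.val ∈ (ord.getD j []).tail ++ Pack.fromPos ord (j + 1)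
          rw [← hLo]
          exact List.mem_append_left _ (List.mem_map.2 ⟨y, hy, rfl⟩)), mul_one]
    · obtain ⟨h2, hh2L, hh2v, hsum⟩ := (hitSum_eq P a u (t uu / t hh') (L := Li) t).1 hn
        (by rw [hLi]; exact hh)
      obtain rfl : h2 = hh' := Fin.ext (hh2v.trans hhv.symm)
      have := xi_conj hker' hposs hP hL hups hap (t uu / t h2) t (L := Li)
        (by rw [hLi, hrs]; exact hlowa) hpLi hU'
      rw [← hus, hsum, mul_div_cancel₀ _ hne_h] at this
      exact this
  | branch T0 T1 ih0 ih1 =>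
    intro stk F k hok hstk L hLF hpL t hts htn g hg hg2 hv
    simp only [Pack.twTreeOK, Bool.and_eq_true, Nat.blt_eq, List.all_eq_true, Bool.not_eq_true'] at hok
    obtain ⟨⟨⟨⟨hk, horb⟩, hfresh⟩, h0⟩, h1⟩ := hok
    have hS0 := ih0 h0 hstk
    have hS1 := ih1 h1 fun s hs => by
      rcases List.mem_cons.1 hs with rfl | hs
      · exact hS0
      · exact hstk s hs
    subst hLF
    obtain ⟨r, hr, hup, hfrom, hshape⟩ := orbit_data hP hT hord hk
    have hpos := (hP.upQ hup).1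
    haveI := hP.normal_Q (K := K) hL hup
    set ν := QuotientGroup.mk' ((Φ.US K (inQ (Pack.afterPos ord k))).subgroupOf
      (Φ.US K Φ.toTables.Pos))
    have hker : ∀ u : ↥(Φ.US K Φ.toTables.Pos), ν u = 1 ↔
        (u : GL D.Idx K) ∈ Φ.US K (inQ (Pack.afterPos ord k)) := fun u => by
      rw [QuotientGroup.mk'_apply, QuotientGroup.eq_one_iff, Subgroup.mem_subgroupOf]
    have hvU : (Φ.elt L t)⁻¹ * g ∈ Φ.US K Φ.toTables.Pos :=
      Φ.US_mono (fun y hy => from_pos hP hT hord y hy) hv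
    have hef : Φ.elt L t ∈ T.fix := hT.fix_orbF hL hP hts L horb
    obtain ⟨c, hc⟩ := xi_coord hker hpos hP hL hup
      (show (Φ.elt L t)⁻¹ * g ∈ Φ.US K (inQ (r.val :: Pack.afterPos ord k)) by rw [← hfrom]; exact hv) hvU
    have hsp := split_fix hL hP hT hord hk hr hker hpos hv (mul_mem (inv_mem hef) hg) hvU hc
    by_cases hc0 : c = 0
    · refine hS0 L rfl hpL t hts htn g hg hg2 ?_
      subst hc0
      by_cases e : S.ρ r = r
      · simpa [Φ.toAlg.xg_zero] using (hsp.1 e).2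
      · simpa [Φ.toAlg.xg_zero, zero_pow hT.q0] using hsp.2 e
    -- the new parameters
    classical
    set t' : Fin D.nroots → K := fun x => if x = r then c else if x = S.ρ r then c ^ q else t x with ht'
    have hnotin : ∀ x : Fin D.nroots, x.val ∈ ord.getD k [] → x ∉ L := fun x hx hxL => by
      have := hfresh x.val hx
      rw [List.contains_eq_mem, decide_eq_false_iff_not] at this
      exact this (List.mem_map.2 ⟨x, hxL, rfl⟩)
    have hin : r.val ∈ ord.getD k [] ∧ (S.ρ r).val ∈ ord.getD k [] := by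
      rcases hshape with ⟨e, ho⟩ | ⟨-, -, ho, -⟩ <;> rw [ho]
      · rw [e]; exact ⟨List.mem_singleton_self _, List.mem_singleton_self _⟩
      · simp
    have hagree : ∀ x ∈ L, t' x = t x := fun x hx => by
      have h1 : x ≠ r := fun e => hnotin r hin.1 (e ▸ hx)
      have h2 : x ≠ S.ρ r := fun e => hnotin _ hin.2 (e ▸ hx)
      simp only [ht', if_neg h1, if_neg h2]
    have hts' : Φ.TSym S q t' := fun x => by
      by_cases h1 : x = r
      · rw [h1]
        by_cases e : S.ρ r = r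
        · simp only [ht', e, if_true]; exact (hsp.1 e).1.symm
        · simp only [ht', if_neg e, if_true]
      by_cases h2 : x = S.ρ r
      · have h3 : S.ρ r ≠ r := fun e => h1 (h2.trans e)
        rw [h2, hT.invol]
        simp only [ht', if_true, if_neg h3, hT.qq]
      · have h3 : S.ρ x ≠ r := fun e => h2 (by rw [← e, hT.invol])
        have h4 : S.ρ x ≠ S.ρ r := fun e => h1 (S.ρ.injective e)
        simp only [ht', if_neg h1, if_neg h2, if_neg h3, if_neg h4]
        exact hts x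
    rcases hshape with ⟨e, ho⟩ | ⟨e, hp, ho, -⟩
    · refine hS1 (L ++ [r]) (by rw [List.map_append, ho]; rfl) (fun x hx => ?_) t' hts'
        (fun x hx => ?_) g hg hg2 ?_
      · rcases List.mem_append.1 hx with hx | hx
        · exact hpL x hx
        · rw [List.mem_singleton.1 hx]; exact hpos
      · rcases List.mem_append.1 hx with hx | hx
        · rw [hagree x hx]; exact htn x hx
        · rw [List.mem_singleton.1 hx]; simp only [ht', if_true]; exact hc0
      · rw [Φ.elt_append, Φ.elt_congr hagree, Φ.elt_cons, Φ.elt_nil, mul_one,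
          show t' r = c by simp [ht'], _root_.mul_inv_rev, Chev.xg_inv_self, mul_assoc]
        exact (hsp.1 e).2
    · refine hS1 (L ++ [r, S.ρ r]) (by rw [List.map_append, ho]; rfl) (fun x hx => ?_) t' hts'
        (fun x hx => ?_) g hg hg2 ?_
      · rcases List.mem_append.1 hx with hx | hx
        · exact hpL x hx
        · simp only [List.mem_cons, List.not_mem_nil, or_false] at hx
          rcases hx with rfl | rfl
          · exact hpos
          · exact (S.ρ_pos r).2 hpos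
      · rcases List.mem_append.1 hx with hx | hx
        · rw [hagree x hx]; exact htn x hx
        · simp only [List.mem_cons, List.not_mem_nil, or_false] at hx
          rcases hx with rfl | rfl
          · simp only [ht', if_true]; exact hc0
          · simp only [ht', if_neg e, if_true]; exact pow_ne_zero _ hc0
      · rw [Φ.elt_append, Φ.elt_congr hagree, Φ.elt_cons, Φ.elt_cons, Φ.elt_nil, mul_one,
          show t' r = c by simp [ht'], show t' (S.ρ r) = c ^ q by simp [ht', e],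
          _root_.mul_inv_rev, _root_.mul_inv_rev, Chev.xg_inv_self, Chev.xg_inv_self,
          (hL.commute hp c (c ^ q)).symm.eq, mul_assoc]
        exact hsp.2 e

end Descent

end Chev

end CfsgLib.Chev
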