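/-
Fusion of products of commuting root elements in a fixed group of an involutive twist, from a checked
table, and the classes of involutions.
-/
import Cfsg.Agent.Lib.Chev.InvClass.TwDescent
import Cfsg.Agent.Lib.Chev.InvClass.Classes

set_option autoImplicit false
set_option linter.dupNamespace false
set_option linter.unusedSectionVars false
set_option linter.unusedSimpArgs false
set_option maxHeartbeats 1000000

namespace CfsgLib.Chev

open Cfsg.Lie Matrix

/-- The reason for which a set of commuting roots leads to a representative. -/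
inductive TwStep where
  | rep
  | word (bs : List ℕ) (j : ℕ)
  | create (a u r j : ℕ)
  | norm (a u f r j : ℕ)
  | quad (r1 r2 r3 r4 a j : ℕ)

namespace Pack

variable (P : Pack) (rho : ℕ → ℕ) (nw : ℕ) (wev : ℕ → ℕ → ℕ)

/-- The roots pairwise have non-negative pairing. -/
noncomputable def commsNN (R : List ℕ) : Bool :=
  List.rec true (fun a t ih => t.all (fun b => P.nonneg a b) && ih) R

/-- A root fixed by the twist, with fixed opposite. -/
noncomputable def fixB (x : ℕ) : Bool := Nat.beq (rho x) x && Nat.beq (rho (P.rev x)) (P.rev x)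

/-- The check of one entry of the table against the earlier ones. -/
noncomputable def twStepChk (reps seen : List (List ℕ)) (R : List ℕ) : TwStep → Bool
  | TwStep.rep => reps.any (fun R' => R' == R) && R.all (P.fixB rho) && P.orthsOK R
  | TwStep.word bs j => Nat.blt j seen.length && bs.all (fun b => Nat.blt b nw) &&
      (R.map fun r => bs.foldr wev r).isPerm (seen.getD j [])
  | TwStep.create a u r j =>
      (fun ra ru =>
        (fun rest =>
          Nat.blt j seen.length && Nat.blt a P.n && Nat.blt u P.n && Nat.blt r P.n &&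
          R.isPerm (u :: ru :: rest) && Nat.beq (rho r) r && !(R.contains r) &&
          P.hitB a r ru && P.hitB ra r u && P.nonneg u a && P.nonneg ru ra && P.nonneg r a &&
          P.nonneg r ra && zeq (P.prP a ra) 0 &&
          rest.all (fun x => P.nonneg x a && P.nonneg x ra) && P.commsNN (r :: u :: ru :: rest) &&
          (r :: u :: ru :: rest).isPerm (seen.getD j [])) ((R.erase u).erase ru)) (rho a) (rho u)
  | TwStep.norm a u f r j =>
      (fun ra ru =>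
        (fun rest =>
          Nat.blt j seen.length && Nat.blt a P.n && Nat.blt u P.n && Nat.blt r P.n && Nat.blt f P.n &&
          R.isPerm (u :: ru :: f :: rest) && Nat.beq (rho r) r && Nat.beq (rho f) f && !(R.contains r) &&
          P.hitB a u f && P.hitB ra ru f && P.hitB ra r u && P.nonneg r a && P.nonneg r ra &&
          P.nonneg r f && P.nonneg r ru && P.nonneg r u && zeq (P.prP a ra) 0 &&
          rest.all (fun x => P.nonneg x a && P.nonneg x ra) &&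
          (r :: f :: rest).isPerm (seen.getD j [])) (((R.erase u).erase ru).erase f)) (rho a) (rho u)
  | TwStep.quad r1 r2 r3 r4 a j =>
      Nat.blt j seen.length && Nat.blt a P.n && R.isPerm [r1, r2, r3, r4] &&
      [r1, r2, r3, r4].all (P.fixB rho) && P.orthsOK [r1, r2, r3, r4] &&
      zeq (P.prP a r1) (-1) && zeq (P.prP a r2) (-1) && zeq (P.prP a r3) (-1) &&
      zeq (P.prP (P.S a r2) r3) (-1) &&
      zeq (P.code r4) (2 * P.code a + P.code r1 + P.code r2 + P.code r3) &&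
      Nat.beq (rho (P.S a r1)) (P.S a r1) && Nat.beq (rho (P.S a r2)) (P.S a r2) &&
      Nat.beq (rho (P.S a r3)) (P.S a r3) &&
      Nat.beq (rho (P.S (P.S a r2) r3)) (P.S (P.S a r2) r3) &&
      [r1, r2, r3].isPerm (seen.getD j [])

/-- The check of the table. -/
noncomputable def twTableGo (reps : List (List ℕ)) : List (List ℕ × TwStep) → List (List ℕ) → Bool
  | [], _ => true
  | e :: t, seen => P.commsNN e.1 && (e.1.map rho).isPerm e.1 && P.twStepChk rho nw wev reps seen e.1 e.2 &&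
      twTableGo reps t (seen ++ [e.1])

/-- The check of order, tree and table. -/
noncomputable def twDescOK (ord : List (List ℕ)) (reps : List (List ℕ))
    (tab : List (List ℕ × TwStep)) (T : TwTree) : Bool :=
  P.ordOK rho ord && P.coverOK ord && P.twTableGo rho nw wev reps tab [] &&
    P.twTreeOK rho ord (tab.map Prod.fst) T [] [] 0

end Pack

namespace Chev

variable {D : ChevalleyDatum} {Φ : Chev D} {P : Pack} {K : Type*} [Field K] [CharP K 2]
  {S : Φ.Sym} {T : Tw S K} {q : ℕ} {rho : ℕ → ℕ} {nw : ℕ} {wev : ℕ → ℕ → ℕ}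
  (hL : Φ.Laced) (hP : Φ.TabEq P) (hT : Φ.InvolTwist T q rho)

/-- Every product over the roots of `R` with compatible non-zero parameters leads to a representative. -/
def TwFine (T : Tw S K) (q : ℕ) (reps : List (List ℕ)) (R : List ℕ) : Prop :=
  ∀ L : List (Fin D.nroots), L.map Fin.val = R → ∀ t, Φ.TSym S q t → (∀ r ∈ L, t r ≠ 0) →
    ∃ R' ∈ reps, ∃ L' : List (Fin D.nroots), L'.map Fin.val = R' ∧
      ∃ x ∈ T.fix, x * Φ.elt L t * x⁻¹ = Φ.el1 L'

include hP in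
theorem cpair_of_commsNN (t : Fin D.nroots → K) : ∀ {L : List (Fin D.nroots)},
    P.commsNN (L.map Fin.val) = true → Φ.CPair (L.map fun r => (r, t r))
  | [], _ => List.Pairwise.nil
  | a :: L, h => by
    have h' : ((L.map Fin.val).all (fun b => P.nonneg a.val b) && P.commsNN (L.map Fin.val)) = true := h
    rw [Bool.and_eq_true, List.all_eq_true] at h'
    refine List.pairwise_cons.2 ⟨fun p hp => ?_, cpair_of_commsNN t h'.2⟩
    obtain ⟨b, hb, rfl⟩ := List.mem_map.1 hp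
    exact hP.nonneg (h'.1 _ (List.mem_map.2 ⟨b, hb, rfl⟩))

include hP in
theorem orths_of_check : ∀ {L : List (Fin D.nroots)}, P.orthsOK (L.map Fin.val) = true → Φ.Orths L
  | [], _ => List.Pairwise.nil
  | a :: L, h => by
    have h' : ((L.map Fin.val).all (fun b => zeq (P.prP a.val b) 0) && P.orthsOK (L.map Fin.val)) = true := h
    rw [Bool.and_eq_true, List.all_eq_true] at h'
    refine List.pairwise_cons.2 ⟨fun b hb => ?_, orths_of_check h'.2⟩
    rw [hP.pair]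
    exact zeq_iff.1 (h'.1 _ (List.mem_map.2 ⟨b, hb, rfl⟩))

theorem exists_reperm {L : List (Fin D.nroots)} {R : List ℕ} (h : (L.map Fin.val).Perm R) :
    ∃ L' : List (Fin D.nroots), L'.map Fin.val = R ∧ L.Perm L' := by
  obtain ⟨L', hL'⟩ := exists_fins (n := D.nroots) (o := R) fun x hx => by
    obtain ⟨y, -, rfl⟩ := List.mem_map.1 (h.mem_iff.2 hx)
    exact y.isLt
  exact ⟨L', hL', (List.map_perm_map_iff Fin.val_injective).1 (hL' ▸ h)⟩

include hL hP in
theorem elt_perm {L L' : List (Fin D.nroots)} (hp : L.Perm L') (t : Fin D.nroots → K)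
    (h : P.commsNN (L.map Fin.val) = true) : Φ.elt L t = Φ.elt L' t :=
  el_perm hL (hp.map _) (cpair_of_commsNN hP t h)

include hL hP in
theorem twFine_perm {reps : List (List ℕ)} {R : List ℕ} (hR : TwFine T q reps R)
    {L : List (Fin D.nroots)} (hp : (L.map Fin.val).Perm R) (hcm : P.commsNN R = true)
    {t : Fin D.nroots → K} (hts : Φ.TSym S q t) (htn : ∀ r ∈ L, t r ≠ 0) :
    ∃ R' ∈ reps, ∃ L' : List (Fin D.nroots), L'.map Fin.val = R' ∧
      ∃ x ∈ T.fix, x * Φ.elt L t * x⁻¹ = Φ.el1 L' := by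
  obtain ⟨L1, h1, h2⟩ := exists_reperm hp
  rw [← elt_perm hL hP h2.symm t (h1 ▸ hcm)]
  exact hR L1 h1 t hts fun r hr => htn r (h2.mem_iff.2 hr)

include hP hT in
theorem fixB_spec {r : Fin D.nroots} (h : P.fixB rho r.val = true) : S.ρ r = r ∧ S.ρ r.rev = r.rev := by
  simp only [Pack.fixB, Bool.and_eq_true, Nat.beq_eq] at h
  exact ⟨Fin.ext (by rw [hT.rho_val]; exact h.1), Fin.ext (by rw [hT.rho_val, hP.rev]; exact h.2)⟩

include hT in
theorem hw_mem_fix {r : Fin D.nroots} (h1 : S.ρ r = r) (h2 : S.ρ r.rev = r.rev) {u : Kˣ}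
    (hu : (u : K) ^ q = u) : Φ.hw r u ∈ T.fix := by
  have key : ∀ v : Kˣ, (v : K) ^ q = v → Φ.nw r v ∈ T.fix := fun v hv => by
    rw [Chev.nw]
    refine mul_mem (mul_mem (hT.fix_xg h1 hv) (hT.fix_xg h2 ?_)) (hT.fix_xg h1 hv)
    rw [CharTwo.neg_eq, inv_pow, hv]
  rw [Chev.hw]
  refine mul_mem (key u hu) (key _ ?_)
  rw [Units.val_neg, Units.val_one, CharTwo.neg_eq, one_pow]

variable [Finite K]

include hL hT in
/-- Parameters on orthogonal fixed roots can be made one. -/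
theorem norm_fix : ∀ {L : List (Fin D.nroots)}, Φ.Orths L →
    (∀ r ∈ L, S.ρ r = r ∧ S.ρ r.rev = r.rev) → ∀ {t : Fin D.nroots → K}, Φ.TSym S q t →
    (∀ r ∈ L, t r ≠ 0) →
    ∃ x ∈ T.fix, (∀ r u, (∀ p ∈ L, Φ.pair p r = 0) → Commute x (Φ.toAlg.xg r u)) ∧
      x * Φ.elt L t * x⁻¹ = Φ.el1 L
  | [], _, _, _, _, _ => ⟨1, one_mem _, fun _ _ _ => Commute.one_left _, by simp [el1, el_nil, elt]⟩
  | p :: L, h, hf, t, hts, hnz => by
    obtain ⟨hp, hLo⟩ := List.pairwise_cons.1 h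
    obtain ⟨x, hx, hxc, hxe⟩ := norm_fix hLo (fun r hr => hf r (List.mem_cons_of_mem _ hr)) hts
      fun r hr => hnz r (List.mem_cons_of_mem _ hr)
    haveI : Fact (Nat.Prime 2) := ⟨Nat.prime_two⟩
    obtain ⟨s, hs⟩ : ∃ s : K, s ^ 2 = (t p)⁻¹ :=
      (Finite.injective_iff_surjective.1 (frobenius_inj K 2)) (t p)⁻¹
    have htp : t p ^ q = t p := by rw [← hts, (hf p List.mem_cons_self).1]
    have hsq : s ^ q = s := frobenius_inj K 2 (by
      show (s ^ q) ^ 2 = s ^ 2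
      rw [← pow_mul, mul_comm, pow_mul, hs, inv_pow, htp])
    have hs0 : s ≠ 0 := by
      intro e; rw [e, zero_pow two_ne_zero] at hs
      exact inv_ne_zero (hnz p List.mem_cons_self) hs.symm
    set u : Kˣ := Units.mk0 s hs0
    set d := Φ.hw p u with hd
    have hdf : d ∈ T.fix :=
      hw_mem_fix hT (hf p List.mem_cons_self).1 (hf p List.mem_cons_self).2 hsq
    have hdc : ∀ r c, Φ.pair p r = 0 → Commute d (Φ.toAlg.xg r c) := fun r c hr => by
      show d * _ = _ * d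
      rw [hd, Φ.hw_eq, Φ.toAlg.torus_xg, Φ.chi_coChar, show (∑ k, Φ.C p k * Φ.A k r) = 0 from hr,
        zpow_zero, Units.val_one, one_mul]
    refine ⟨x * d, mul_mem hx hdf, fun r c hr => ?_, ?_⟩
    · exact (hxc r c fun q' hq' => hr q' (List.mem_cons_of_mem _ hq')).mul_left
        (hdc r c (hr p List.mem_cons_self))
    · have e1 : d * Φ.toAlg.xg p (t p) * d⁻¹ = Φ.toAlg.xg p 1 := by
        rw [hd, Φ.hw_xg, mul_inv_cancel_right, Units.val_mk0, hs,
          inv_mul_cancel₀ (hnz p List.mem_cons_self)]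
      have e2 : d * Φ.elt L t * d⁻¹ = Φ.elt L t := by
        rw [elt, (el_commute fun q' hq' => by
          obtain ⟨r, hr, rfl⟩ := List.mem_map.1 hq'
          exact hdc r (t r) (hp r hr)).eq, mul_inv_cancel_right]
      have e3 : x * Φ.toAlg.xg p 1 * x⁻¹ = Φ.toAlg.xg p 1 := by
        rw [(hxc p 1 fun q' hq' => by rw [hL.symm]; exact hp q' hq').eq, mul_inv_cancel_right]
      rw [elt_cons, show x * d * (Φ.toAlg.xg p (t p) * Φ.elt L t) * (x * d)⁻¹ =
        x * (d * Φ.toAlg.xg p (t p) * d⁻¹) * x⁻¹ * (x * (d * Φ.elt L t * d⁻¹) * x⁻¹) by group, e1, e2,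
        e3, hxe]
      simp [el1, el_cons]

include hL in
theorem conj_nonneg {r a : Fin D.nroots} (h : 0 ≤ Φ.pair r a) (t l : K) :
    MulAut.conj (Φ.toAlg.xg a l) (Φ.toAlg.xg r t) = Φ.toAlg.xg r t := by
  rw [MulAut.conj_apply, ← (hL.commute h t l).eq, mul_inv_cancel_right]

include hL in
theorem conj_elt_nonneg {a : Fin D.nroots} {L : List (Fin D.nroots)}
    (h : ∀ r ∈ L, 0 ≤ Φ.pair r a) (t : Fin D.nroots → K) (l : K) :
    MulAut.conj (Φ.toAlg.xg a l) (Φ.elt L t) = Φ.elt L t := by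
  induction L with
  | nil => rw [elt_nil, map_one]
  | cons r L ih =>
    rw [elt_cons, map_mul, conj_nonneg hL (h r List.mem_cons_self),
      ih fun x hx => h x (List.mem_cons_of_mem _ hx)]

include hP in
theorem hitB_spec {a r f : Fin D.nroots} (h : P.hitB a.val r.val f.val = true) :
    Φ.pair f a = -1 ∧ Φ.S f a = r := by
  simp only [Pack.hitB, Bool.and_eq_true, zeq_iff, Nat.beq_eq] at h
  have e : Φ.pair f a = -1 := by rw [hP.pair, h.1]
  exact ⟨e, Fin.ext (by rw [hP.sum f a e]; exact h.2)⟩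

include hL hT in
theorem update_sym {t : Fin D.nroots → K} (hts : Φ.TSym S q t) {r : Fin D.nroots} (hr : S.ρ r = r)
    {v : K} (hv : v ^ q = v) :
    ∃ t' : Fin D.nroots → K, Φ.TSym S q t' ∧ t' r = v ∧ ∀ x, x ≠ r → t' x = t x := by
  classical
  refine ⟨fun x => if x = r then v else t x, fun x => ?_, by simp, fun x hx => by simp [hx]⟩
  by_cases h : x = r
  · simp [h, hr, hv]
  · have h' : S.ρ x ≠ r := fun e => h (by rw [← hT.invol x, e, hr])
    simp only [if_neg h, if_neg h']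
    exact hts x

include hL hP hT in
theorem step_create {reps seen : List (List ℕ)} {R : List ℕ} {a u r j : ℕ}
    (hseen : ∀ R' ∈ seen, P.commsNN R' = true ∧ TwFine T q reps R')
    (hcm : P.commsNN R = true)
    (hok : P.twStepChk rho nw wev reps seen R (TwStep.create a u r j) = true) :
    TwFine T q reps R := by
  intro L hLR t hts htn
  subst hLR
  simp only [Pack.twStepChk, Bool.and_eq_true, Nat.blt_eq, Bool.not_eq_true', List.isPerm_iff,
    List.all_eq_true, Nat.beq_eq] at hok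
  obtain ⟨⟨⟨⟨⟨⟨⟨⟨⟨⟨⟨⟨⟨⟨⟨⟨hj, ha⟩, hu⟩, hr⟩, hperm⟩, hrr⟩, hnr⟩, hh1⟩, hh2⟩, n1⟩, n2⟩, n3⟩, n4⟩, hpa⟩,
    hrest⟩, -⟩, hseenp⟩ := hok
  have hn := hP.hn
  set af : Fin D.nroots := ⟨a, hn ▸ ha⟩
  set uf : Fin D.nroots := ⟨u, hn ▸ hu⟩
  set rf : Fin D.nroots := ⟨r, hn ▸ hr⟩
  have hrau : (S.ρ af).val = rho a ∧ (S.ρ uf).val = rho u := ⟨hT.rho_val af, hT.rho_val uf⟩
  have hrf : S.ρ rf = rf := Fin.ext (by rw [hT.rho_val]; exact hrr)
  obtain ⟨ea, eu⟩ := hrau
  simp only [← ea, ← eu] at hperm hh1 hh2 n2 n4 hpa hrest hseenp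
  obtain ⟨L1, hL1, hLp⟩ := exists_reperm (L := L) hperm
  obtain ⟨u', L2, rfl, hu', hL2⟩ := List.map_eq_cons_iff.1 hL1
  obtain ⟨v', M, rfl, hv', hM⟩ := List.map_eq_cons_iff.1 hL2
  obtain rfl : u' = uf := Fin.ext hu'
  obtain rfl : v' = S.ρ uf := Fin.ext hv'
  obtain ⟨hp1, hS1⟩ := hitB_spec hP (a := af) (r := rf) (f := S.ρ uf) hh1
  obtain ⟨hp2, hS2⟩ := hitB_spec hP (a := S.ρ af) (r := rf) (f := uf) hh2
  have hMn : ∀ x ∈ M, 0 ≤ Φ.pair x af ∧ 0 ≤ Φ.pair x (S.ρ af) := fun x hx => by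
    have := hrest x.val (hM ▸ List.mem_map.2 ⟨x, hx, rfl⟩)
    exact ⟨hP.nonneg this.1, hP.nonneg this.2⟩
  have hpaa : 0 ≤ Φ.pair af (S.ρ af) := by rw [hP.pair]; exact (zeq_iff.1 hpa).ge
  obtain ⟨z, hz⟩ := hT.trace 1 (one_pow _)
  have hv0 : t (S.ρ uf) ≠ 0 := htn _ (hLp.mem_iff.2 (by simp))
  set l := z / t (S.ρ uf) with hl
  have hsum : t (S.ρ uf) * l + t uf * l ^ q = 1 := by
    have e : t uf = t (S.ρ uf) ^ q := by rw [← hts, hT.invol]
    rw [e, ← mul_pow, hl, mul_div_cancel₀ _ hv0, hz]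
  set h := Φ.toAlg.xg af l * Φ.toAlg.xg (S.ρ af) (l ^ q) with hh
  have hhf : h ∈ T.fix := hT.fix_pair hL rfl hpaa l
  obtain ⟨t', hts', ht'r, ht'o⟩ := update_sym hL hT hts hrf (one_pow q : (1 : K) ^ q = 1)
  have hagree : ∀ x ∈ L, t' x = t x := fun x hx => ht'o x fun e => by
    rw [List.contains_eq_mem, decide_eq_false_iff_not] at hnr
    exact hnr (List.mem_map.2 ⟨x, hx, congrArg Fin.val e⟩)
  have hkey : h * Φ.elt L t * h⁻¹ = Φ.elt (rf :: uf :: S.ρ uf :: M) t' := by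
    rw [elt_perm hL hP hLp t hcm]
    rw [show h * Φ.elt (uf :: S.ρ uf :: M) t * h⁻¹ = MulAut.conj (Φ.toAlg.xg af l)
      (MulAut.conj (Φ.toAlg.xg (S.ρ af) (l ^ q)) (Φ.elt (uf :: S.ρ uf :: M) t)) by
      simp only [MulAut.conj_apply, hh]; group]
    have c1 : MulAut.conj (Φ.toAlg.xg (S.ρ af) (l ^ q)) (Φ.toAlg.xg uf (t uf)) =
        Φ.toAlg.xg uf (t uf) * Φ.toAlg.xg rf (t uf * l ^ q) := by
      rw [MulAut.conj_apply, hL.conj_eq hp2, hS2]
    have c2 : MulAut.conj (Φ.toAlg.xg af l) (Φ.toAlg.xg (S.ρ uf) (t (S.ρ uf))) =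
        Φ.toAlg.xg (S.ρ uf) (t (S.ρ uf)) * Φ.toAlg.xg rf (t (S.ρ uf) * l) := by
      rw [MulAut.conj_apply, hL.conj_eq hp1, hS1]
    rw [Φ.elt_cons uf, Φ.elt_cons (S.ρ uf)]
    simp only [map_mul]
    rw [c1, conj_nonneg hL (r := S.ρ uf) (a := S.ρ af) (hP.nonneg n2),
      conj_elt_nonneg hL (fun x hx => (hMn x hx).2)]
    simp only [map_mul]
    rw [c2, conj_nonneg hL (r := uf) (a := af) (hP.nonneg n1),
      conj_nonneg hL (r := rf) (a := af) (hP.nonneg n3), conj_elt_nonneg hL (fun x hx => (hMn x hx).1)]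
    have hru : ∀ a b : K, Commute (Φ.toAlg.xg rf a) (Φ.toAlg.xg (S.ρ uf) b) := fun a b => by
      refine (hL.commute ?_ b a).symm
      rw [← hS1, hL.pair_sum hp1, Φ.pair_self', hL.symm (S.ρ uf) af, hL.symm af (S.ρ uf), hp1]
      norm_num
    have hru' : ∀ a b : K, Commute (Φ.toAlg.xg rf a) (Φ.toAlg.xg uf b) := fun a b => by
      refine (hL.commute ?_ b a).symm
      rw [← hS2, hL.pair_sum hp2, Φ.pair_self', hp2]
      norm_num
    have e1 : Φ.elt (uf :: S.ρ uf :: M) t' = Φ.elt (uf :: S.ρ uf :: M) t :=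
      Φ.elt_congr fun x hx => hagree x (hLp.mem_iff.2 hx)
    rw [Φ.elt_cons rf, ht'r, e1, Φ.elt_cons uf, Φ.elt_cons (S.ρ uf), ← hsum, Φ.toAlg.xg_add]
    calc Φ.toAlg.xg uf (t uf) * Φ.toAlg.xg rf (t uf * l ^ q) *
          (Φ.toAlg.xg (S.ρ uf) (t (S.ρ uf)) * Φ.toAlg.xg rf (t (S.ρ uf) * l) * Φ.elt M t)
        = (Φ.toAlg.xg uf (t uf) * Φ.toAlg.xg rf (t uf * l ^ q)) *
          (Φ.toAlg.xg (S.ρ uf) (t (S.ρ uf)) * Φ.toAlg.xg rf (t (S.ρ uf) * l)) * Φ.elt M t := by group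
      _ = (Φ.toAlg.xg rf (t uf * l ^ q) * Φ.toAlg.xg uf (t uf)) *
          (Φ.toAlg.xg rf (t (S.ρ uf) * l) * Φ.toAlg.xg (S.ρ uf) (t (S.ρ uf))) * Φ.elt M t := by
        rw [(hru' _ _).eq, (hru _ _).eq]
      _ = Φ.toAlg.xg rf (t uf * l ^ q) * (Φ.toAlg.xg uf (t uf) * Φ.toAlg.xg rf (t (S.ρ uf) * l)) *
          Φ.toAlg.xg (S.ρ uf) (t (S.ρ uf)) * Φ.elt M t := by group
      _ = Φ.toAlg.xg rf (t uf * l ^ q) * (Φ.toAlg.xg rf (t (S.ρ uf) * l) * Φ.toAlg.xg uf (t uf)) *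
          Φ.toAlg.xg (S.ρ uf) (t (S.ρ uf)) * Φ.elt M t := by rw [(hru' _ _).eq]
      _ = _ := by
        rw [← mul_assoc (Φ.toAlg.xg rf (t uf * l ^ q)),
          show Φ.toAlg.xg rf (t uf * l ^ q) * Φ.toAlg.xg rf (t (S.ρ uf) * l) =
            Φ.toAlg.xg rf (t (S.ρ uf) * l) * Φ.toAlg.xg rf (t uf * l ^ q) by
          rw [← Φ.toAlg.xg_add, ← Φ.toAlg.xg_add, add_comm]]
        group
  have hjm : seen.getD j [] ∈ seen := by
    rw [List.getD_eq_getElem _ _ hj]; exact List.getElem_mem hj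
  obtain ⟨R', hR', L', hL', x, hx, hxe⟩ := twFine_perm hL hP (hseen _ hjm).2
    (L := rf :: uf :: S.ρ uf :: M) (by rw [List.map_cons, List.map_cons, List.map_cons, hM]; exact hseenp)
    (hseen _ hjm).1 hts' (fun y hy => by
      rcases List.mem_cons.1 hy with rfl | hy
      · rw [ht'r]; exact one_ne_zero
      · rw [hagree y (hLp.mem_iff.2 hy)]; exact htn y (hLp.mem_iff.2 hy))
  refine ⟨R', hR', L', hL', x * h, mul_mem hx hhf, ?_⟩
  rw [← hxe, ← hkey]
  group

include hL hP hT in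
theorem step_norm {reps seen : List (List ℕ)} {R : List ℕ} {a u f r j : ℕ}
    (hseen : ∀ R' ∈ seen, P.commsNN R' = true ∧ TwFine T q reps R')
    (hcm : P.commsNN R = true)
    (hok : P.twStepChk rho nw wev reps seen R (TwStep.norm a u f r j) = true) :
    TwFine T q reps R := by
  intro L hLR t hts htn
  subst hLR
  simp only [Pack.twStepChk, Bool.and_eq_true, Nat.blt_eq, Bool.not_eq_true', List.isPerm_iff,
    List.all_eq_true, Nat.beq_eq] at hok
  obtain ⟨⟨⟨⟨⟨⟨⟨⟨⟨⟨⟨⟨⟨⟨⟨⟨⟨⟨⟨hj, ha⟩, hu⟩, hr⟩, hf⟩, hperm⟩, hrr⟩, hff⟩, hnr⟩, hh1⟩, hh2⟩, hh3⟩,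
    n1⟩, n2⟩, n3⟩, n4⟩, n5⟩, hpa⟩, hrest⟩, hseenp⟩ := hok
  have hn := hP.hn
  set af : Fin D.nroots := ⟨a, hn ▸ ha⟩
  set uf : Fin D.nroots := ⟨u, hn ▸ hu⟩
  set rf : Fin D.nroots := ⟨r, hn ▸ hr⟩
  set ff : Fin D.nroots := ⟨f, hn ▸ hf⟩
  have hrau : (S.ρ af).val = rho a ∧ (S.ρ uf).val = rho u := ⟨hT.rho_val af, hT.rho_val uf⟩
  have hrf : S.ρ rf = rf := Fin.ext (by rw [hT.rho_val]; exact hrr)
  have hffr : S.ρ ff = ff := Fin.ext (by rw [hT.rho_val]; exact hff)
  obtain ⟨ea, eu⟩ := hrau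
  simp only [← ea, ← eu] at hperm hh2 hh3 n2 n4 hpa hrest hseenp
  obtain ⟨L1, hL1, hLp⟩ := exists_reperm (L := L) hperm
  obtain ⟨u', L2, rfl, hu', hL2⟩ := List.map_eq_cons_iff.1 hL1
  obtain ⟨v', L3, rfl, hv', hL3⟩ := List.map_eq_cons_iff.1 hL2
  obtain ⟨f', M, rfl, hf', hM⟩ := List.map_eq_cons_iff.1 hL3
  obtain rfl : u' = uf := Fin.ext hu'
  obtain rfl : v' = S.ρ uf := Fin.ext hv'
  obtain rfl : f' = ff := Fin.ext hf'
  obtain ⟨hp1, hS1⟩ := hitB_spec hP (a := af) (r := uf) (f := ff) hh1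
  obtain ⟨hp2, hS2⟩ := hitB_spec hP (a := S.ρ af) (r := S.ρ uf) (f := ff) hh2
  obtain ⟨hp3, hS3⟩ := hitB_spec hP (a := S.ρ af) (r := rf) (f := uf) hh3
  have hMn : ∀ x ∈ M, 0 ≤ Φ.pair x af ∧ 0 ≤ Φ.pair x (S.ρ af) := fun x hx => by
    have := hrest x.val (hM ▸ List.mem_map.2 ⟨x, hx, rfl⟩)
    exact ⟨hP.nonneg this.1, hP.nonneg this.2⟩
  have hpaa : 0 ≤ Φ.pair af (S.ρ af) := by rw [hP.pair]; exact (zeq_iff.1 hpa).ge
  have htu : t uf ≠ 0 := htn _ (hLp.mem_iff.2 (by simp))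
  have htf : t ff ≠ 0 := htn _ (hLp.mem_iff.2 (by simp))
  have htfq : t ff ^ q = t ff := by rw [← hts, hffr]
  set l := t uf / t ff with hl
  set N := t uf * l ^ q with hN
  have hNq : N ^ q = N := by
    rw [hN, hl, div_pow, htfq, mul_pow, div_pow, hT.qq, htfq, mul_div_assoc', mul_div_assoc', mul_comm]
  have hN0 : N ≠ 0 := mul_ne_zero htu (pow_ne_zero _ (div_ne_zero htu htf))
  set h := Φ.toAlg.xg (S.ρ af) (l ^ q) * Φ.toAlg.xg af l with hh
  have hhf : h ∈ T.fix := by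
    rw [hh, ← (hL.commute hpaa l (l ^ q)).eq]
    exact hT.fix_pair hL rfl hpaa l
  obtain ⟨t', hts', ht'r, ht'o⟩ := update_sym hL hT hts hrf hNq
  have hagree : ∀ x ∈ L, t' x = t x := fun x hx => ht'o x fun e => by
    rw [List.contains_eq_mem, decide_eq_false_iff_not] at hnr
    exact hnr (List.mem_map.2 ⟨x, hx, congrArg Fin.val e⟩)
  have hkey : h * Φ.elt (rf :: ff :: M) t' * h⁻¹ = Φ.elt L t := by
    rw [elt_perm hL hP hLp t hcm]
    rw [show h * Φ.elt (rf :: ff :: M) t' * h⁻¹ = MulAut.conj (Φ.toAlg.xg (S.ρ af) (l ^ q))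
      (MulAut.conj (Φ.toAlg.xg af l) (Φ.elt (rf :: ff :: M) t')) by
      simp only [MulAut.conj_apply, hh]; group]
    have e1 : Φ.elt (ff :: M) t' = Φ.elt (ff :: M) t :=
      Φ.elt_congr fun x hx => hagree x (hLp.mem_iff.2 (List.mem_cons_of_mem _ (List.mem_cons_of_mem _ hx)))
    have c1 : MulAut.conj (Φ.toAlg.xg af l) (Φ.toAlg.xg ff (t ff)) =
        Φ.toAlg.xg ff (t ff) * Φ.toAlg.xg uf (t uf) := by
      rw [MulAut.conj_apply, hL.conj_eq hp1, hS1, hl, mul_div_cancel₀ _ htf]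
    have c2 : MulAut.conj (Φ.toAlg.xg (S.ρ af) (l ^ q)) (Φ.toAlg.xg ff (t ff)) =
        Φ.toAlg.xg ff (t ff) * Φ.toAlg.xg (S.ρ uf) (t (S.ρ uf)) := by
      rw [MulAut.conj_apply, hL.conj_eq hp2, hS2, hl, div_pow, htfq, mul_div_cancel₀ _ htf, hts]
    have c3 : MulAut.conj (Φ.toAlg.xg (S.ρ af) (l ^ q)) (Φ.toAlg.xg uf (t uf)) =
        Φ.toAlg.xg uf (t uf) * Φ.toAlg.xg rf N := by
      rw [MulAut.conj_apply, hL.conj_eq hp3, hS3]
    rw [Φ.elt_cons rf, ht'r, e1, Φ.elt_cons ff]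
    simp only [map_mul]
    rw [conj_nonneg hL (r := rf) (a := af) (hP.nonneg n1), c1,
      conj_elt_nonneg hL (fun x hx => (hMn x hx).1)]
    simp only [map_mul]
    rw [conj_nonneg hL (r := rf) (a := S.ρ af) (hP.nonneg n2), c2, c3,
      conj_elt_nonneg hL (fun x hx => (hMn x hx).2), Φ.elt_cons uf, Φ.elt_cons (S.ρ uf), Φ.elt_cons ff]
    -- reorder the commuting factors
    have hrc : ∀ x : Fin D.nroots, 0 ≤ Φ.pair rf x → ∀ b : K,
        Commute (Φ.toAlg.xg rf N) (Φ.toAlg.xg x b) := fun x hx b => hL.commute hx N b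
    have hcp : Φ.CPair ((uf :: S.ρ uf :: ff :: M).map fun r => (r, t r)) :=
      (hLp.map fun r => (r, t r)).pairwise (cpair_of_commsNN hP t hcm)
        fun {x y} hxy => by rw [hL.symm]; exact hxy
    obtain ⟨h1, h2⟩ := List.pairwise_cons.1 hcp
    obtain ⟨h3, -⟩ := List.pairwise_cons.1 h2
    have k1 : Commute (Φ.toAlg.xg uf (t uf)) (Φ.toAlg.xg (S.ρ uf) (t (S.ρ uf))) :=
      hL.commute (h1 (S.ρ uf, t (S.ρ uf)) (by simp)) _ _
    have k2 : Commute (Φ.toAlg.xg uf (t uf)) (Φ.toAlg.xg ff (t ff)) :=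
      hL.commute (h1 (ff, t ff) (by simp)) _ _
    have k3 : Commute (Φ.toAlg.xg (S.ρ uf) (t (S.ρ uf))) (Φ.toAlg.xg ff (t ff)) :=
      hL.commute (h3 (ff, t ff) (by simp)) _ _
    calc Φ.toAlg.xg rf N * (Φ.toAlg.xg ff (t ff) * Φ.toAlg.xg (S.ρ uf) (t (S.ρ uf)) *
          (Φ.toAlg.xg uf (t uf) * Φ.toAlg.xg rf N) * Φ.elt M t)
        = (Φ.toAlg.xg rf N * (Φ.toAlg.xg ff (t ff) * Φ.toAlg.xg (S.ρ uf) (t (S.ρ uf)) *
          Φ.toAlg.xg uf (t uf))) * Φ.toAlg.xg rf N * Φ.elt M t := by group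
      _ = (Φ.toAlg.xg ff (t ff) * Φ.toAlg.xg (S.ρ uf) (t (S.ρ uf)) * Φ.toAlg.xg uf (t uf)) *
          (Φ.toAlg.xg rf N * Φ.toAlg.xg rf N) * Φ.elt M t := by
        rw [(((hrc _ (hP.nonneg n3) _).mul_right (hrc _ (hP.nonneg n4) _)).mul_right
          (hrc _ (hP.nonneg n5) _)).eq]
        group
      _ = (Φ.toAlg.xg ff (t ff) * Φ.toAlg.xg (S.ρ uf) (t (S.ρ uf))) * Φ.toAlg.xg uf (t uf) *
          Φ.elt M t := by rw [Chev.xg_sq, mul_one]
      _ = (Φ.toAlg.xg (S.ρ uf) (t (S.ρ uf)) * Φ.toAlg.xg ff (t ff)) * Φ.toAlg.xg uf (t uf) *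
          Φ.elt M t := by rw [k3.eq]
      _ = Φ.toAlg.xg uf (t uf) * (Φ.toAlg.xg (S.ρ uf) (t (S.ρ uf)) * Φ.toAlg.xg ff (t ff)) *
          Φ.elt M t := by rw [(k1.mul_right k2).eq]
      _ = _ := by group
  have hjm : seen.getD j [] ∈ seen := by
    rw [List.getD_eq_getElem _ _ hj]; exact List.getElem_mem hj
  obtain ⟨R', hR', L', hL', x, hx, hxe⟩ := twFine_perm hL hP (hseen _ hjm).2
    (L := rf :: ff :: M) (by rw [List.map_cons, List.map_cons, hM]; exact hseenp)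
    (hseen _ hjm).1 hts' (fun y hy => by
      rcases List.mem_cons.1 hy with rfl | hy
      · rw [ht'r]; exact hN0
      · have hy' := hLp.mem_iff.2 (List.mem_cons_of_mem _ (List.mem_cons_of_mem _ hy))
        rw [hagree y hy']; exact htn y hy')
  refine ⟨R', hR', L', hL', x * h⁻¹, mul_mem hx (inv_mem hhf), ?_⟩
  rw [← hxe, ← hkey]
  group
include hL hP hT in
theorem step_quad {reps seen : List (List ℕ)} {R : List ℕ} {r1 r2 r3 r4 a j : ℕ}
    (hseen : ∀ R' ∈ seen, P.commsNN R' = true ∧ TwFine T q reps R')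
    (hcode : ∀ r : Fin D.nroots, Φ.toTables.code r = P.code r.val)
    (hcm : P.commsNN R = true)
    (hok : P.twStepChk rho nw wev reps seen R (TwStep.quad r1 r2 r3 r4 a j) = true) :
    TwFine T q reps R := by
  intro L hLR t hts htn
  simp only [Pack.twStepChk, Bool.and_eq_true, Nat.blt_eq, List.isPerm_iff, List.all_eq_true,
    Nat.beq_eq, zeq_iff] at hok
  obtain ⟨⟨⟨⟨⟨⟨⟨⟨⟨⟨⟨⟨⟨⟨hj, ha⟩, hperm⟩, hfix⟩, horth⟩, h1⟩, h2⟩, h3⟩, h23⟩, hco⟩, g1⟩, g2⟩, g3⟩,
    g4⟩, hseenp⟩ := hok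
  set af : Fin D.nroots := ⟨a, hP.hn ▸ ha⟩
  obtain ⟨L1, hL1, hLp⟩ := exists_reperm (L := L) (hLR ▸ hperm)
  obtain ⟨p1, L2, rfl, rfl, hL2⟩ := List.map_eq_cons_iff.1 hL1
  obtain ⟨p2, L3, rfl, rfl, hL3⟩ := List.map_eq_cons_iff.1 hL2
  obtain ⟨p3, L4, rfl, rfl, hL4⟩ := List.map_eq_cons_iff.1 hL3
  obtain ⟨p4, L5, rfl, rfl, hL5⟩ := List.map_eq_cons_iff.1 hL4
  rw [List.map_eq_nil_iff] at hL5
  subst hL5
  have ho : Φ.Orths [p1, p2, p3, p4] := orths_of_check hP (by simpa using horth)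
  obtain ⟨x, hx, -, hxe⟩ := norm_fix hL hT ho (fun r hr => fixB_spec hP hT
    (hfix r.val (by simpa using List.mem_map.2 ⟨r, hr, rfl⟩))) hts
    (fun r hr => htn r (hLp.mem_iff.2 hr))
  have a1 : Φ.pair af p1 = -1 := by rw [hP.pair]; exact h1
  have a2 : Φ.pair af p2 = -1 := by rw [hP.pair]; exact h2
  have a3 : Φ.pair af p3 = -1 := by rw [hP.pair]; exact h3
  have fixmem : ∀ y : Fin D.nroots, rho y.val = y.val → Φ.toAlg.xg y 1 ∈ T.fix := fun y hy =>
    hT.fix_xg (Fin.ext (by rw [hT.rho_val]; exact hy)) (one_pow _)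
  have e23 : (Φ.S (Φ.S af p2) p3).val = P.S (P.S a p2.val) p3.val := by
    rw [hP.sum _ _ (by rw [hP.pair, hP.sum _ _ a2]; exact h23), hP.sum _ _ a2]
  obtain ⟨y, hy, hye⟩ := quad_reduce_mem (F := K) hL ho a1 a2 a3
    (by rw [hcode, hcode, hcode, hcode, hcode]; exact hco) (H := T.fix)
    (fixmem _ (by rw [hP.sum _ _ a1]; exact g1)) (fixmem _ (by rw [hP.sum _ _ a2]; exact g2))
    (fixmem _ (by rw [hP.sum _ _ a3]; exact g3)) (fixmem _ (by rw [e23]; exact g4))
  have hjm : seen.getD j [] ∈ seen := by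
    rw [List.getD_eq_getElem _ _ hj]; exact List.getElem_mem hj
  obtain ⟨R', hR', L', hL', z, hz, hze⟩ := twFine_perm hL hP (hseen _ hjm).2
    (L := [p1, p2, p3]) (by simpa using hseenp) (hseen _ hjm).1 (t := fun _ => 1)
    (fun _ => (one_pow q).symm) (fun _ _ => one_ne_zero)
  refine ⟨R', hR', L', hL', z * y * x, mul_mem (mul_mem hz hy) hx, ?_⟩
  rw [elt_perm hL hP hLp t (hLR ▸ hcm), ← hze, show Φ.elt [p1, p2, p3] (fun _ => (1 : K)) =
    Φ.el1 [p1, p2, p3] from rfl, ← hye, ← hxe]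
  group

include hL hP hT in
theorem step_rep {reps seen : List (List ℕ)} {R : List ℕ}
    (hok : P.twStepChk rho nw wev reps seen R TwStep.rep = true) : TwFine T q reps R := by
  intro L hLR t hts htn
  simp only [Pack.twStepChk, Bool.and_eq_true, List.any_eq_true, beq_iff_eq, List.all_eq_true] at hok
  obtain ⟨⟨⟨R', hR', rfl⟩, hfix⟩, horth⟩ := hok
  obtain ⟨x, hx, -, hxe⟩ := norm_fix hL hT (orths_of_check hP (L := L) (hLR ▸ horth))
    (fun r hr => fixB_spec hP hT (hfix r.val (hLR ▸ List.mem_map.2 ⟨r, hr, rfl⟩))) hts htn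
  exact ⟨R', hR', L, hLR, x, hx, hxe⟩

/-- The permutations of the generators of the fixed Weyl group, realised in the fixed group. -/
def WevReal (T : Tw S K) (nw : ℕ) (wev : ℕ → ℕ → ℕ) : Prop :=
  ∀ b < nw, ∃ n ∈ T.fix, ∃ π : Equiv.Perm (Fin D.nroots), Φ.Mono n π ∧
    (∀ r, (π r).val = wev b r.val) ∧ ∀ r, π (S.ρ r) = S.ρ (π r)

theorem WevReal.word (hW : WevReal T nw wev) : ∀ {bs : List ℕ}, bs.all (fun b => Nat.blt b nw) = true →
    ∃ n ∈ T.fix, ∃ π : Equiv.Perm (Fin D.nroots), Φ.Mono n π ∧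
      (∀ r, (π r).val = bs.foldr wev r.val) ∧ ∀ r, π (S.ρ r) = S.ρ (π r)
  | [], _ => ⟨1, one_mem _, 1, Mono.one Φ, fun _ => rfl, fun _ => rfl⟩
  | b :: bs, h => by
    simp only [List.all_cons, Bool.and_eq_true, Nat.blt_eq] at h
    obtain ⟨n, hn, π, hm, hv, hc⟩ := hW b h.1
    obtain ⟨n', hn', π', hm', hv', hc'⟩ := WevReal.word hW h.2
    refine ⟨n * n', mul_mem hn hn', π * π', Mono.mul Φ hm hm', fun r => ?_, fun r => ?_⟩
    · rw [Equiv.Perm.mul_apply, hv, hv']; rfl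
    · simp only [Equiv.Perm.mul_apply, hc', hc]

include hL hP hT in
theorem step_word {reps seen : List (List ℕ)} {R : List ℕ} {bs : List ℕ} {j : ℕ}
    (hW : WevReal T nw wev) (hseen : ∀ R' ∈ seen, P.commsNN R' = true ∧ TwFine T q reps R')
    (hok : P.twStepChk rho nw wev reps seen R (TwStep.word bs j) = true) : TwFine T q reps R := by
  intro L hLR t hts htn
  simp only [Pack.twStepChk, Bool.and_eq_true, Nat.blt_eq, List.isPerm_iff] at hok
  obtain ⟨⟨hj, hbs⟩, hperm⟩ := hok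
  obtain ⟨n, hn, π, hm, hv, hcomm⟩ := hW.word hbs
  choose e he hxe _ using hm.1
  have hesym : ∀ r, e (S.ρ r) = e r ^ q := fun r => by
    have h1 : n * Φ.toAlg.xg r 1 * n⁻¹ = Φ.toAlg.xg (π r) (e r) := by rw [hxe, mul_one]
    have h2 := congrArg T.app h1
    rw [T.app_mul (mul_mem hn.1 (Φ.toAlg.xg_mem_group _ _)) (inv_mem hn.1),
      T.app_mul hn.1 (Φ.toAlg.xg_mem_group _ _), T.app_inv hn.1, hn.2, hT.app, hT.app, one_pow,
      hxe, mul_one, hcomm] at h2
    have h3 : Φ.toAlg.xg (S.ρ (π r)) (e (S.ρ r) + e r ^ q) = 1 := by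
      rw [Φ.toAlg.xg_add, h2, Chev.xg_sq]
    exact CharTwo.add_eq_zero.1 ((Φ.toAlg.xg_eq_one_iff).1 h3)
  set t1 : Fin D.nroots → K := fun x => e (π.symm x) * t (π.symm x) with ht1
  have ht1s : Φ.TSym S q t1 := fun x => by
    have : π.symm (S.ρ x) = S.ρ (π.symm x) := by
      rw [Equiv.symm_apply_eq, hcomm, Equiv.apply_symm_apply]
    simp only [ht1, this, hesym, hts (π.symm x), mul_pow]
  have hconj : ∀ M : List (Fin D.nroots), n * Φ.elt M t * n⁻¹ = Φ.elt (M.map π) t1 := by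
    intro M
    induction M with
    | nil => simp [elt_nil]
    | cons p M ih =>
      rw [elt_cons, List.map_cons, elt_cons, ← ih, show t1 (π p) = e p * t p by simp [ht1], ← hxe]
      group
  have hjm : seen.getD j [] ∈ seen := by
    rw [List.getD_eq_getElem _ _ hj]; exact List.getElem_mem hj
  obtain ⟨R', hR', L', hL', x, hx, hxe'⟩ := twFine_perm hL hP (hseen _ hjm).2 (L := L.map π)
    (by
      have : (L.map π).map Fin.val = R.map fun r => bs.foldr wev r := by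
        rw [← hLR, List.map_map, List.map_map]
        exact List.map_congr_left fun r _ => hv r
      rw [this]; exact hperm)
    (hseen _ hjm).1 ht1s (fun p hp => by
      obtain ⟨p', hp', rfl⟩ := List.mem_map.1 hp
      simp only [ht1, Equiv.symm_apply_apply]
      exact mul_ne_zero (he p') (htn p' hp'))
  refine ⟨R', hR', L', hL', x * n, mul_mem hx hn, ?_⟩
  rw [← hxe', ← hconj]
  group

include hL hP hT in
theorem twFine_table (hW : WevReal T nw wev)
    (hcode : ∀ r : Fin D.nroots, Φ.toTables.code r = P.code r.val) {reps : List (List ℕ)} :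
    ∀ {tab : List (List ℕ × TwStep)} {seen : List (List ℕ)},
    P.twTableGo rho nw wev reps tab seen = true →
    (∀ R' ∈ seen, P.commsNN R' = true ∧ TwFine T q reps R') →
    ∀ R ∈ tab.map Prod.fst, P.commsNN R = true ∧ (R.map rho).Perm R ∧ TwFine T q reps R
  | [], _, _, _, R, hR => absurd hR List.not_mem_nil
  | ⟨R0, s⟩ :: tb, seen, h, hseen, R, hR => by
    simp only [Pack.twTableGo, Bool.and_eq_true, List.isPerm_iff] at h
    obtain ⟨⟨⟨hcm, hst⟩, hstep⟩, hrest⟩ := h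
    have hE : TwFine T q reps R0 := by
      cases s with
      | rep => exact step_rep hL hP hT hstep
      | word bs j => exact step_word hL hP hT hW hseen hstep
      | create a u r j => exact step_create hL hP hT hseen hcm hstep
      | norm a u f r j => exact step_norm hL hP hT hseen hcm hstep
      | quad r1 r2 r3 r4 a j => exact step_quad hL hP hT hseen hcode hcm hstep
    rcases List.mem_cons.1 (List.map_cons ▸ hR) with rfl | hR
    · exact ⟨hcm, hst, hE⟩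
    · refine twFine_table hW hcode hrest (fun R' hR' => ?_) R hR
      rcases List.mem_append.1 hR' with hR' | hR'
      · exact hseen R' hR'
      · rw [List.mem_singleton.1 hR']; exact ⟨hcm, hE⟩

include hL hP hT in
/-- Every involution of the fixed group is conjugate there to a representative. -/
theorem involution_twist (hW : WevReal T nw wev)
    (hcode : ∀ r : Fin D.nroots, Φ.toTables.code r = P.code r.val)
    (hsyl : ∀ g ∈ T.fix, g * g = 1 → ∃ x ∈ T.fix, x * g * x⁻¹ ∈ Φ.US K Φ.toTables.Pos)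
    {ord reps : List (List ℕ)} {tab : List (List ℕ × TwStep)} {Tr : TwTree}
    (hok : P.twDescOK rho nw wev ord reps tab Tr = true) {g : GL D.Idx K} (hg : g ∈ T.fix)
    (hg2 : g * g = 1) (hg1 : g ≠ 1) :
    ∃ R ∈ reps, ∃ L : List (Fin D.nroots), L.map Fin.val = R ∧
      ∃ x ∈ T.fix, x * g * x⁻¹ = Φ.el1 L := by
  simp only [Pack.twDescOK, Bool.and_eq_true] at hok
  obtain ⟨⟨⟨hord, hcover⟩, htab⟩, htree⟩ := hok
  obtain ⟨x, hx, hxU⟩ := hsyl g hg hg2
  have hall : ∀ r : Fin D.nroots, Φ.toTables.Pos r → inQ (Pack.fromPos ord 0) r := fun r hr => by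
    rw [Pack.coverOK, allN_iff] at hcover
    have := hcover r.val (hP.hn ▸ r.isLt)
    simp only [Bool.or_eq_true, Bool.not_eq_true', List.contains_iff_mem] at this
    rcases this with e | e
    · rw [hP.posB hr] at e; exact absurd e (by decide)
    · exact e
  obtain ⟨L, hL1, t, hts, htn, y, hy, hye⟩ :=
    descend hL hP hT hord htree (fun s hs => absurd hs List.not_mem_nil) ([] : List (Fin D.nroots)) rfl
      (fun r hr => absurd hr List.not_mem_nil) (fun _ => 0) (fun _ => (zero_pow hT.q0).symm)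
      (fun r hr => absurd hr List.not_mem_nil) (x * g * x⁻¹) (mul_mem (mul_mem hx hg) (inv_mem hx))
      (by rw [show x * g * x⁻¹ * (x * g * x⁻¹) = x * (g * g) * x⁻¹ by group, hg2]; group)
      (by rw [elt_nil, _root_.inv_one, one_mul]; exact Φ.US_mono hall hxU)
  rcases hL1 with rfl | hL1
  · rw [elt_nil, show y * (x * g * x⁻¹) * y⁻¹ = y * x * g * (y * x)⁻¹ by group, conj_eq_one_iff] at hye
    exact absurd hye hg1
  obtain ⟨R, hR, L', hL', z, hz, hze⟩ := (twFine_table hL hP hT hW hcode htab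
    (fun R' hR' => absurd hR' List.not_mem_nil) _ hL1).2.2 L rfl t hts htn
  refine ⟨R, hR, L', hL', z * y * x, mul_mem (mul_mem hz hy) hx, ?_⟩
  rw [← hze, ← hye]
  group

include hL hP hT in
/-- The number of classes of involutions of the fixed group. -/
theorem involution_twist_ncard (hW : WevReal T nw wev)
    (hcode : ∀ r : Fin D.nroots, Φ.toTables.code r = P.code r.val)
    (hsyl : ∀ g ∈ T.fix, g * g = 1 → ∃ x ∈ T.fix, x * g * x⁻¹ ∈ Φ.US K Φ.toTables.Pos)
    {ord reps : List (List ℕ)} {tab : List (List ℕ × TwStep)} {Tr : TwTree}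
    (hok : P.twDescOK rho nw wev ord reps tab Tr = true) (Ls : List (List (Fin D.nroots)))
    (hreps : Ls.map (fun L => L.map Fin.val) = reps) (hnd : Ls.Nodup)
    (hfix : reps.all (fun R => R.all (P.fixB rho) && P.orthsOK R) = true)
    (k : List (Fin D.nroots) → ℕ)
    (hk : ∀ L ∈ Ls, (((Φ.el1 L : GL D.Idx K) : Matrix D.Idx D.Idx K) - 1).rank = k L)
    (hk0 : ∀ L ∈ Ls, k L ≠ 0) (hkn : (Ls.map k).Nodup) :
    (ConjClasses.mk '' {g : ↥T.fix | orderOf g = 2}).ncard = Ls.length := by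
  classical
  haveI : Fact (Nat.Prime 2) := ⟨Nat.prime_two⟩
  subst hreps
  rw [List.all_eq_true] at hfix
  have hrep : ∀ L ∈ Ls, (Φ.el1 L : GL D.Idx K) ∈ T.fix ∧ orderOf (Φ.el1 L : GL D.Idx K) = 2 := by
    intro L hLs
    have h := hfix _ (List.mem_map.2 ⟨L, hLs, rfl⟩)
    rw [Bool.and_eq_true, List.all_eq_true] at h
    have ho := orths_of_check hP h.2
    refine ⟨?_, orderOf_eq_prime (by rw [sq]; exact el1_sq hL ho) fun e => ?_⟩
    · have : ∀ M : List (Fin D.nroots), (∀ r ∈ M, S.ρ r = r) → (Φ.el1 M : GL D.Idx K) ∈ T.fix := by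
        intro M
        induction M with
        | nil => intro _; exact one_mem _
        | cons r M ih =>
          intro hM
          rw [el1, List.map_cons, el_cons]
          exact mul_mem (hT.fix_xg (hM r List.mem_cons_self) (one_pow _))
            (ih fun y hy => hM y (List.mem_cons_of_mem _ hy))
      exact this L fun r hr => (fixB_spec hP hT (h.1 _ (List.mem_map.2 ⟨r, hr, rfl⟩))).1
    · have := hk L hLs
      rw [e, Units.val_one, sub_self, Matrix.rank_zero] at this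
      exact hk0 L hLs this.symm
  let φ : {L // L ∈ Ls} → ConjClasses ↥T.fix := fun L =>
    ConjClasses.mk ⟨Φ.el1 L.1, (hrep L.1 L.2).1⟩
  have hφ : Function.Injective φ := by
    intro L L' e
    obtain ⟨c, hc⟩ := isConj_iff.1 (ConjClasses.mk_eq_mk_iff_isConj.1 e)
    refine Subtype.ext (List.inj_on_of_nodup_map hkn L.2 L'.2 ?_)
    rw [← hk L.1 L.2, ← hk L'.1 L'.2]
    exact (rank_sub_one_conj (congrArg Subtype.val hc)).symm
  have himg : ConjClasses.mk '' {g : ↥T.fix | orderOf g = 2} = Set.range φ := by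
    ext C
    constructor
    · rintro ⟨g, hg, rfl⟩
      replace hg : orderOf g = 2 := hg
      obtain ⟨R, hR, L, hLR, x, hx, hxe⟩ := involution_twist hL hP hT hW hcode hsyl hok g.2
        (by rw [← Subgroup.coe_mul, ← sq, ← hg, pow_orderOf_eq_one]; rfl)
        (fun e => by
          rw [← Subgroup.orderOf_coe, e, orderOf_one] at hg
          exact absurd hg (by norm_num))
      obtain ⟨L', hL', rfl⟩ := List.mem_map.1 hR
      obtain rfl : L = L' := List.map_injective_iff.2 Fin.val_injective hLR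
      exact ⟨⟨L, hL'⟩, (ConjClasses.mk_eq_mk_iff_isConj.2
        (isConj_iff.2 ⟨⟨x, hx⟩, Subtype.ext hxe⟩)).symm⟩
    · rintro ⟨L, rfl⟩
      exact ⟨_, by rw [Set.mem_ofPred_eq, ← Subgroup.orderOf_coe]; exact (hrep L.1 L.2).2, rfl⟩
  rw [himg, Set.ncard_range_of_injective hφ, Nat.card_eq_fintype_card]
  rw [← List.toFinset_card_of_nodup hnd, ← Fintype.card_coe]
  exact Fintype.card_congr (Equiv.subtypeEquivRight fun L => List.mem_toFinset.symm)

end Chev

end CfsgLib.Chev
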