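/-
The certificates for the classes of involutions of ²E₆(q), q even.
-/
import Cfsg.Agent.Lib.Chev.InvClass.TwFusion
import Cfsg.Agent.Lib.Chev.Twist.DataE6

set_option autoImplicit false
set_option maxRecDepth 100000
set_option maxHeartbeats 0

namespace CfsgLib.Chev

open TwTree in
/-- The order of the orbits. -/
def ordTwE6 : List (List ℕ) := [[36, 56], [37, 42], [38, 57], [46], [39], [40, 43], [41, 58], [44], [45, 59], [60], [47], [48, 50], [49, 61], [51], [52, 62], [63], [53], [54, 64], [65], [55, 67], [66, 68], [69], [70], [71]]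

/-- The representatives. -/
def repsTwE6 : List (List ℕ) := [[71], [65, 69], [53, 65, 69]]

/-- The table of fusions. -/
def tabTwE6 : List (List ℕ × TwStep) := [([71], .rep),
  ([65, 69], .rep),
  ([53, 65, 69], .rep),
  ([39, 44, 60], .word [1, 2, 3, 1, 2, 1, 0] 2),
  ([39, 44, 60, 71], .quad 39 44 60 71 46 3),
  ([66, 68, 69], .norm 29 66 69 65 1),
  ([44, 71, 60], .word [1, 0] 2),
  ([55, 60, 67, 71], .norm 10 55 71 44 6),
  ([46, 69, 53, 65], .word [0, 1] 4),
  ([52, 53, 62, 65, 69], .norm 12 52 69 46 8),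
  ([60, 66, 68], .word [2, 1, 0] 5),
  ([66, 68], .create 21 66 60 10),
  ([44, 55, 67, 60], .word [0, 1, 2, 3, 2, 1, 0] 7),
  ([55, 60, 67], .create 10 55 44 12),
  ([46, 52, 62, 53, 65], .word [2, 1, 2, 3, 2, 1, 2] 9),
  ([52, 53, 62, 65], .create 12 52 46 14),
  ([70], .word [0] 0),
  ([69], .word [0, 1] 0),
  ([55, 67], .word [3] 11),
  ([65], .word [0, 1, 2] 0),
  ([65, 55, 67], .word [0, 1] 13),
  ([54, 64], .word [3, 2] 11),
  ([54, 64, 69], .word [0, 1, 2] 13),
  ([53], .word [0, 1, 2, 3] 0),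
  ([53, 69], .word [3] 1),
  ([53, 66, 68], .word [3, 0, 1] 13),
  ([53, 65], .word [3, 2] 1),
  ([63], .word [0, 1, 2, 1] 0),
  ([63, 70], .word [1] 1),
  ([63, 55, 67], .word [0] 13),
  ([63, 54, 64], .word [2, 0] 13),
  ([52, 62], .word [3, 2, 1] 11),
  ([52, 62, 70], .word [0, 1, 2, 1] 13),
  ([52, 62, 65], .word [2, 0, 1] 13),
  ([52, 62, 53], .word [2, 3, 0, 1] 13),
  ([52, 62, 53, 65], .word [] 15),
  ([51], .word [0, 1, 2, 3, 1] 0),
  ([51, 70], .word [3, 1] 1),
  ([51, 66, 68], .word [3, 0] 13),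
  ([51, 54, 64], .word [2, 3, 0] 13),
  ([51, 63], .word [3, 2, 1] 1),
  ([51, 63, 70], .word [1] 2),
  ([51, 63, 54, 64], .word [1] 15),
  ([49, 61], .word [3, 2, 1, 2] 11),
  ([49, 61, 70], .word [2, 0, 1, 2, 1] 13),
  ([49, 61, 69], .word [2, 0, 1, 2] 13),
  ([49, 61, 53], .word [2, 3, 0, 1, 2] 13),
  ([49, 61, 53, 69], .word [2] 15),
  ([49, 61, 51], .word [2, 3, 0, 1, 2, 1] 13),
  ([49, 61, 51, 70], .word [2, 1] 15),
  ([48, 50], .word [3, 2, 1, 2, 3] 11),
  ([48, 50, 70], .word [2, 0, 1, 2, 3, 1] 13),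
  ([48, 50, 69], .word [2, 0, 1, 2, 3] 13),
  ([48, 50, 65], .word [2, 0, 1, 2, 3, 2] 13),
  ([48, 50, 65, 69], .word [2, 3] 15),
  ([48, 50, 63], .word [2, 0, 1, 2, 3, 2, 1] 13),
  ([48, 50, 63, 70], .word [2, 3, 1] 15),
  ([47], .word [0, 1, 2, 3, 1, 2] 0),
  ([47, 70], .word [3, 1, 2] 1),
  ([47, 66, 68], .word [3, 2, 0] 13),
  ([47, 55, 67], .word [2, 3, 2, 0] 13),
  ([47, 63], .word [3, 2, 1, 2] 1),
  ([47, 63, 70], .word [1, 2] 2),
  ([47, 63, 55, 67], .word [1, 2] 15),
  ([47, 52, 62], .word [2, 3, 2, 0, 1, 2, 1] 13),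
  ([47, 52, 62, 70], .word [2, 1, 2] 15),
  ([47, 51], .word [3, 2, 1, 2, 3] 1),
  ([47, 51, 70], .word [1, 2, 3] 2),
  ([47, 51, 66, 68], .word [1, 2, 3] 15),
  ([47, 51, 63], .word [1, 2, 3, 1, 2, 1] 2),
  ([47, 51, 63, 70], .word [0] 4),
  ([60], .word [0, 1, 2, 1, 0] 0),
  ([60, 71], .word [1, 0] 1),
  ([60, 55, 67], .word [] 13),
  ([60, 54, 64], .word [2] 13),
  ([60, 52, 62], .word [2, 1] 13),
  ([60, 49, 61], .word [2, 1, 2] 13),
  ([45, 59], .word [3, 2, 1, 0] 11),
  ([45, 59, 71], .word [0, 1, 2, 1, 0] 13),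
  ([45, 59, 65], .word [2, 0, 1, 0] 13),
  ([45, 59, 53], .word [2, 3, 0, 1, 0] 13),
  ([45, 59, 53, 65], .word [0] 15),
  ([45, 59, 63], .word [2, 1, 0] 13),
  ([45, 59, 51], .word [2, 3, 1, 0] 13),
  ([45, 59, 51, 63], .word [0, 1] 15),
  ([44], .word [0, 1, 2, 3, 1, 0] 0),
  ([44, 71], .word [3, 1, 0] 1),
  ([44, 66, 68], .word [3] 13),
  ([44, 54, 64], .word [2, 3] 13),
  ([44, 52, 62], .word [2, 3, 1] 13),
  ([44, 48, 50], .word [2, 1, 2, 3] 13),
  ([44, 60], .word [3, 2, 1, 0] 1),
  ([44, 60, 71], .word [1, 0] 2),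
  ([44, 60, 54, 64], .word [1, 0] 15),
  ([44, 60, 52, 62], .word [0, 1, 0] 15),
  ([41, 58], .word [3, 2, 1, 2, 0] 11),
  ([41, 58, 71], .word [2, 0, 1, 2, 1, 0] 13),
  ([41, 58, 69], .word [2, 0, 1, 2, 0] 13),
  ([41, 58, 53], .word [2, 3, 0, 1, 2, 0] 13),
  ([41, 58, 53, 69], .word [2, 0] 15),
  ([41, 58, 63], .word [2, 1, 2, 0] 13),
  ([41, 58, 47], .word [2, 3, 1, 2, 0] 13),
  ([41, 58, 47, 63], .word [0, 1, 2] 15),
  ([41, 58, 44], .word [2, 3, 0, 1, 2, 1, 0] 13),
  ([41, 58, 44, 71], .word [2, 1, 0] 15),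
  ([40, 43], .word [3, 2, 1, 2, 3, 0] 11),
  ([40, 43, 71], .word [2, 0, 1, 2, 3, 1, 0] 13),
  ([40, 43, 69], .word [2, 0, 1, 2, 3, 0] 13),
  ([40, 43, 65], .word [2, 0, 1, 2, 3, 2, 0] 13),
  ([40, 43, 65, 69], .word [2, 3, 0] 15),
  ([40, 43, 51], .word [2, 1, 2, 3, 0] 13),
  ([40, 43, 47], .word [2, 1, 2, 3, 2, 0] 13),
  ([40, 43, 47, 51], .word [0, 1, 2, 3] 15),
  ([40, 43, 60], .word [2, 0, 1, 2, 3, 2, 1, 0] 13),
  ([40, 43, 60, 71], .word [2, 3, 1, 0] 15),
  ([39], .word [0, 1, 2, 3, 1, 2, 0] 0),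
  ([39, 71], .word [3, 1, 2, 0] 1),
  ([39, 66, 68], .word [3, 2] 13),
  ([39, 55, 67], .word [2, 3, 2] 13),
  ([39, 49, 61], .word [2, 3, 1, 2] 13),
  ([39, 48, 50], .word [2, 1, 2, 3, 2] 13),
  ([39, 60], .word [3, 2, 1, 2, 0] 1),
  ([39, 60, 71], .word [1, 2, 0] 2),
  ([39, 60, 55, 67], .word [1, 2, 0] 15),
  ([39, 60, 49, 61], .word [0, 1, 2, 0] 15),
  ([39, 45, 59], .word [2, 3, 2, 0, 1, 2, 1, 0] 13),
  ([39, 45, 59, 71], .word [2, 1, 2, 0] 15),
  ([39, 44], .word [3, 2, 1, 2, 3, 0] 1),
  ([39, 44, 71], .word [1, 2, 3, 0] 2),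
  ([39, 44, 66, 68], .word [1, 2, 3, 0] 15),
  ([39, 44, 48, 50], .word [0, 1, 2, 3, 0] 15),
  ([46], .word [0, 1, 2, 3, 1, 2, 1] 0),
  ([46, 69], .word [3, 1, 2, 1] 1),
  ([46, 66, 68], .word [3, 2, 0, 1] 13),
  ([46, 55, 67], .word [2, 3, 2, 0, 1] 13),
  ([46, 65], .word [3, 2, 1, 2, 1] 1),
  ([46, 65, 69], .word [1, 2, 1] 2),
  ([46, 65, 55, 67], .word [1, 2, 1] 15),
  ([46, 54, 64], .word [2, 3, 2, 0, 1, 2] 13),
  ([46, 54, 64, 69], .word [2, 1, 2, 1] 15),
  ([46, 53], .word [3, 2, 1, 2, 3, 1] 1),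
  ([46, 53, 69], .word [1, 2, 3, 1] 2),
  ([46, 53, 66, 68], .word [1, 2, 3, 1] 15),
  ([46, 53, 65], .word [1, 2, 3, 1, 2] 2),
  ([46, 53, 65, 69], .word [0, 1] 4),
  ([38, 57], .word [3, 2, 1, 2, 0, 1] 11),
  ([38, 57, 71], .word [2, 0, 1, 2, 0, 1, 0] 13),
  ([38, 57, 70], .word [2, 0, 1, 2, 0, 1] 13),
  ([38, 57, 65], .word [2, 1, 2, 0, 1] 13),
  ([38, 57, 51], .word [2, 3, 0, 1, 2, 0, 1] 13),
  ([38, 57, 51, 70], .word [2, 0, 1] 15),
  ([38, 57, 44], .word [2, 3, 0, 1, 2, 0, 1, 0] 13),
  ([38, 57, 44, 71], .word [2, 0, 1, 0] 15),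
  ([38, 57, 46], .word [2, 3, 1, 2, 0, 1] 13),
  ([38, 57, 46, 65], .word [0, 1, 2, 1] 15),
  ([37, 42], .word [3, 2, 1, 2, 3, 0, 1] 11),
  ([37, 42, 71], .word [2, 0, 1, 2, 3, 0, 1, 0] 13),
  ([37, 42, 70], .word [2, 0, 1, 2, 3, 0, 1] 13),
  ([37, 42, 53], .word [2, 1, 2, 3, 0, 1] 13),
  ([37, 42, 63], .word [2, 0, 1, 2, 3, 2, 0, 1] 13),
  ([37, 42, 63, 70], .word [2, 3, 0, 1] 15),
  ([37, 42, 60], .word [2, 0, 1, 2, 3, 2, 0, 1, 0] 13),
  ([37, 42, 60, 71], .word [2, 3, 0, 1, 0] 15),
  ([37, 42, 46], .word [2, 1, 2, 3, 2, 0, 1] 13),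
  ([37, 42, 46, 53], .word [0, 1, 2, 3, 1] 15),
  ([36, 56], .word [3, 2, 1, 2, 0, 1, 2] 11),
  ([36, 56, 71], .word [2, 1, 2, 0, 1, 2, 1, 0] 13),
  ([36, 56, 70], .word [2, 1, 2, 0, 1, 2, 1] 13),
  ([36, 56, 69], .word [2, 1, 2, 0, 1, 2] 13),
  ([36, 56, 47], .word [2, 3, 1, 2, 0, 1, 2, 1] 13),
  ([36, 56, 47, 70], .word [2, 0, 1, 2] 15),
  ([36, 56, 39], .word [2, 3, 1, 2, 0, 1, 2, 1, 0] 13),
  ([36, 56, 39, 71], .word [2, 0, 1, 2, 0] 15),
  ([36, 56, 46], .word [2, 3, 1, 2, 0, 1, 2] 13),
  ([36, 56, 46, 69], .word [2, 0, 1, 2, 1] 15)]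

/-- The tree of cases. -/
def treeTwE6 : TwTree := .branch (.branch (.branch (.branch (.branch (.branch (.branch (.branch (.branch (.branch (.branch (.branch (.branch (.branch (.branch (.branch (.branch (.branch (.branch (.branch (.branch (.branch (.branch (.branch (.leaf) (.leaf)) (.kill [46] (.leaf))) (.kill [39] (.kill [47] (.leaf)))) (.kill [37, 42] (.kill [40, 43] (.kill [48, 50] (.leaf))))) (.kill [36, 56] (.kill [38, 57] (.kill [41, 58] (.kill [49, 61] (.leaf)))))) (.branch (.kill [37, 42] (.branch (.kill [44] (.kill [51] (.leaf))) (.kill [39] (.kill [47] (.leaf))))) (.kill [36, 56] (.kill [38, 57] (.kill [44] (.kill [51] (.leaf))))))) (.kill [36, 56] (.kill [37, 42] (.kill [38, 57] (.branch (.kill [45, 59] (.kill [52, 62] (.leaf))) (.kill [39] (.kill [47] (.leaf)))))))) (.kill [36, 56] (.branch (.kill [38, 57] (.branch (.branch (.kill [60] (.kill [63] (.leaf))) (.kill [39] (.kill [47] (.leaf)))) (.kill [37, 42] (.kill [60] (.kill [63] (.leaf)))))) (.kill [38, 57] (.kill [37, 42]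 (.branch (.kill [44] (.kill [51] (.leaf))) (.kill [39] (.kill [47] (.leaf))))))))) (.branch (.branch (.kill [39] (.branch (.kill [40, 43] (.kill [44] (.branch (.kill [53] (.leaf)) (.kill [46] (.leaf))))) (.kill [36, 56] (.kill [44] (.kill [41, 58] (.kill [53] (.leaf))))))) (.kill [39] (.kill [37, 42] (.kill [38, 57] (.kill [44] (.kill [45, 59] (.kill [53] (.leaf)))))))) (.kill [36, 56] (.kill [39] (.kill [38, 57] (.kill [40, 43] (.kill [44] (.kill [60] (.dead))))))))) (.kill [36, 56] (.branch (.branch (.branch (.kill [40, 43] (.kill [41, 58] (.kill [45, 59] (.branch (.kill [54, 64] (.leaf)) (.kill [46] (.leaf)))))) (.kill [40, 43] (.kill [37, 42] (.kill [45, 59] (.kill [44] (.kill [51] (.leaf))))))) (.branch (.kill [37, 42] (.kill [38, 57] (.kill [45, 59] (.branch (.back 0 39 54) (.back 1 39 54))))) (.kill [37, 42] (.kill [38, 57] (.kill [45, 59] (.kill [44] (.back 1 39 54))))))) (.branch (.branch (.kill [38, 57] (.kill [41, 58] (.kill [45, 59] (.kill [60] (.kill [63] (.leaf)))))) (.kill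 [38, 57] (.kill [37, 42] (.kill [45, 59] (.kill [44] (.kill [51] (.leaf))))))) (.branch (.kill [37, 42] (.kill [41, 58] (.kill [45, 59] (.kill [60] (.back 0 39 54))))) (.kill [37, 42] (.kill [41, 58] (.kill [45, 59] (.kill [44] (.back 1 39 54)))))))))) (.kill [36, 56] (.branch (.kill [39] (.branch (.branch (.kill [41, 58] (.branch (.kill [60] (.branch (.kill [65] (.leaf)) (.kill [46] (.leaf)))) (.kill [60] (.kill [40, 43] (.kill [65] (.leaf)))))) (.kill [41, 58] (.kill [37, 42] (.kill [60] (.kill [44] (.dead)))))) (.branch (.kill [37, 42] (.kill [38, 57] (.kill [60] (.kill [45, 59] (.kill [65] (.leaf)))))) (.kill [37, 42] (.kill [38, 57] (.kill [60] (.kill [44] (.dead)))))))) (.kill [39] (.branch (.branch (.kill [41, 58] (.kill [40, 43] (.kill [44] (.branch (.kill [53] (.leaf)) (.kill [46] (.leaf)))))) (.kill [41, 58] (.kill [37, 42] (.kill [44] (.branch (.dead) (.dead)))))) (.branch (.kill [37, 42] (.kill [38, 57] (.kill [44] (.kill [45, 59] (.kill [53] (.leaf)))))) (.kill [37, 42] (.kill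 [38, 57] (.kill [44] (.kill [45, 59] (.dead))))))))))) (.branch (.kill [37, 42] (.kill [38, 57] (.branch (.kill [40, 43] (.kill [41, 58] (.branch (.kill [45, 59] (.branch (.branch (.kill [55, 67] (.leaf)) (.kill [46] (.leaf))) (.kill [39] (.kill [47] (.leaf))))) (.kill [36, 56] (.branch (.branch (.back 0 44 55) (.back 1 44 55)) (.kill [39] (.back 1 44 55))))))) (.kill [36, 56] (.kill [41, 58] (.branch (.kill [45, 59] (.branch (.kill [60] (.kill [63] (.leaf))) (.kill [39] (.kill [47] (.leaf))))) (.kill [45, 59] (.branch (.kill [60] (.back 0 44 55)) (.kill [39] (.back 1 44 55)))))))))) (.kill [36, 56] (.kill [38, 57] (.kill [39] (.kill [40, 43] (.kill [41, 58] (.branch (.kill [45, 59] (.kill [60] (.branch (.kill [65] (.leaf)) (.kill [46] (.leaf))))) (.kill [45, 59] (.kill [60] (.branch (.back 0 44 55) (.back 1 44 55)))))))))))) (.kill [36, 56] (.kill [37, 42] (.kill [38, 57] (.branch (.kill [40, 43] (.kill [41, 58] (.branch (.kill [45, 59] (.branch (.branch (.branch (.kill [66, 68] (.leaf))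 (.kill [46] (.leaf))) (.kill [39] (.kill [47] (.leaf)))) (.branch (.branch (.back 0 60 66) (.back 1 60 66)) (.kill [39] (.back 1 60 66))))) (.kill [45, 59] (.branch (.branch (.kill [44] (.kill [51] (.leaf))) (.kill [39] (.kill [47] (.leaf)))) (.branch (.kill [44] (.back 0 60 66)) (.kill [39] (.back 1 60 66)))))))) (.kill [40, 43] (.kill [41, 58] (.kill [39] (.kill [45, 59] (.branch (.kill [44] (.branch (.kill [53] (.leaf)) (.kill [46] (.leaf)))) (.kill [44] (.branch (.back 0 60 66) (.back 1 60 66))))))))))))) (.kill [37, 42] (.kill [38, 57] (.branch (.branch (.branch (.kill [44] (.kill [45, 59] (.kill [60] (.branch (.branch (.branch (.branch (.kill [69] (.leaf)) (.kill [46] (.leaf))) (.kill [39] (.dead))) (.branch (.kill [40, 43] (.kill [69] (.leaf))) (.kill [39] (.dead)))) (.kill [36, 56] (.branch (.kill [41, 58] (.kill [69] (.leaf))) (.kill [39] (.dead)))))))) (.kill [44] (.kill [45, 59] (.kill [39] (.branch (.kill [40, 43] (.branch (.branch (.kill [53] (.leaf)) (.kill [46] (.leaf)))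 (.branch (.dead) (.dead)))) (.kill [36, 56] (.branch (.kill [41, 58] (.kill [53] (.leaf))) (.kill [41, 58] (.dead))))))))) (.kill [36, 56] (.kill [44] (.kill [45, 59] (.kill [60] (.kill [40, 43] (.kill [41, 58] (.branch (.branch (.kill [69] (.leaf)) (.kill [46] (.leaf))) (.branch (.dead) (.dead)))))))))) (.kill [36, 56] (.branch (.kill [39] (.kill [45, 59] (.kill [60] (.kill [41, 58] (.branch (.branch (.branch (.kill [65] (.leaf)) (.kill [46] (.leaf))) (.branch (.dead) (.dead))) (.branch (.kill [40, 43] (.kill [65] (.leaf))) (.kill [40, 43] (.dead)))))))) (.kill [39] (.kill [45, 59] (.kill [60] (.kill [41, 58] (.kill [40, 43] (.branch (.branch (.kill [53] (.leaf)) (.kill [46] (.leaf))) (.branch (.dead) (.dead)))))))))))))) (.branch (.branch (.branch (.branch (.branch (.kill [46] (.branch (.branch (.kill [47] (.branch (.kill [48, 50] (.kill [51] (.kill [53] (.branch (.leaf) (.leaf))))) (.kill [36, 56] (.kill [51] (.kill [53] (.kill [49, 61] (.leaf))))))) (.kill [47] (.kill [37, 42] (.kill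 [38, 57] (.kill [51] (.kill [53] (.kill [52, 62] (.leaf)))))))) (.kill [36, 56] (.kill [47] (.kill [38, 57] (.kill [48, 50] (.kill [51] (.dead)))))))) (.kill [46] (.branch (.branch (.kill [47] (.kill [40, 43] (.kill [41, 58] (.kill [51] (.kill [53] (.kill [54, 64] (.leaf))))))) (.kill [47] (.kill [37, 42] (.kill [38, 57] (.kill [51] (.kill [53] (.back 0 39 54))))))) (.branch (.kill [47] (.kill [38, 57] (.kill [41, 58] (.kill [51] (.dead))))) (.kill [47] (.kill [37, 42] (.kill [41, 58] (.kill [51] (.dead))))))))) (.kill [36, 56] (.kill [46] (.kill [39] (.branch (.kill [47] (.kill [41, 58] (.kill [48, 50] (.dead)))) (.kill [47] (.kill [37, 42] (.kill [38, 57] (.dead))))))))) (.branch (.kill [37, 42] (.kill [46] (.branch (.kill [40, 43] (.kill [47] (.branch (.kill [45, 59] (.kill [51] (.kill [53] (.kill [55, 67] (.leaf))))) (.kill [36, 56] (.kill [51] (.kill [53] (.back 0 44 55))))))) (.kill [36, 56] (.kill [47] (.branch (.kill [45, 59] (.kill [51] (.dead))) (.kill [45, 59] (.kill [51] (.dead)))))))))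 (.kill [36, 56] (.kill [46] (.kill [39] (.kill [40, 43] (.kill [47] (.branch (.kill [45, 59] (.dead)) (.kill [45, 59] (.dead)))))))))) (.kill [36, 56] (.kill [37, 42] (.kill [38, 57] (.kill [46] (.kill [40, 43] (.kill [41, 58] (.kill [47] (.kill [45, 59] (.dead)))))))))) (.kill [37, 42] (.kill [38, 57] (.branch (.branch (.kill [46] (.kill [44] (.kill [45, 59] (.dead)))) (.kill [46] (.kill [44] (.kill [45, 59] (.dead))))) (.kill [36, 56] (.kill [46] (.kill [39] (.kill [45, 59] (.dead)))))))))) (.kill [36, 56] (.branch (.branch (.branch (.branch (.branch (.branch (.branch (.branch (.branch (.kill [48, 50] (.kill [49, 61] (.kill [52, 62] (.kill [54, 64] (.branch (.leaf) (.leaf)))))) (.kill [48, 50] (.kill [37, 42] (.kill [52, 62] (.kill [44] (.kill [51] (.leaf))))))) (.branch (.kill [37, 42] (.kill [38, 57] (.kill [52, 62] (.back 0 47 54)))) (.kill [37, 42] (.kill [38, 57] (.kill [52, 62] (.back 1 47 54)))))) (.branch (.branch (.kill [38, 57] (.kill [49, 61] (.kill [52, 62] (.kill [60] (.kill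 [63] (.leaf)))))) (.kill [38, 57] (.kill [37, 42] (.kill [52, 62] (.kill [44] (.kill [51] (.leaf))))))) (.branch (.kill [37, 42] (.kill [49, 61] (.kill [52, 62] (.back 0 47 54)))) (.kill [37, 42] (.kill [49, 61] (.kill [52, 62] (.back 1 47 54))))))) (.branch (.branch (.kill [39] (.kill [48, 50] (.kill [40, 43] (.kill [44] (.kill [54, 64] (.kill [53] (.leaf))))))) (.kill [39] (.kill [37, 42] (.kill [38, 57] (.kill [44] (.back 0 47 54)))))) (.branch (.kill [39] (.kill [38, 57] (.kill [40, 43] (.kill [44] (.kill [60] (.dead)))))) (.kill [39] (.kill [37, 42] (.kill [40, 43] (.kill [44] (.back 0 47 54)))))))) (.branch (.branch (.branch (.branch (.kill [40, 43] (.kill [41, 58] (.back 0 46 52))) (.kill [40, 43] (.kill [37, 42] (.back 1 46 52)))) (.branch (.kill [37, 42] (.kill [38, 57] (.back 1 46 52))) (.kill [37, 42] (.kill [38, 57] (.back 2 46 52))))) (.branch (.branch (.kill [38, 57] (.kill [41, 58] (.back 1 46 52))) (.kill [38, 57] (.kill [37, 42] (.back 2 46 52)))) (.branch (.kill [37,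 42] (.kill [41, 58] (.back 2 46 52))) (.kill [37, 42] (.kill [41, 58] (.back 3 46 52)))))) (.branch (.branch (.branch (.kill [40, 43] (.kill [41, 58] (.back 1 46 52))) (.kill [40, 43] (.kill [37, 42] (.back 2 46 52)))) (.branch (.kill [37, 42] (.kill [38, 57] (.back 2 46 52))) (.kill [37, 42] (.kill [38, 57] (.back 3 46 52))))) (.branch (.branch (.kill [38, 57] (.kill [41, 58] (.back 2 46 52))) (.kill [38, 57] (.kill [37, 42] (.back 3 46 52)))) (.branch (.kill [37, 42] (.kill [41, 58] (.back 3 46 52))) (.kill [37, 42] (.kill [41, 58] (.back 4 46 52)))))))) (.branch (.branch (.kill [39] (.branch (.branch (.kill [41, 58] (.kill [49, 61] (.kill [60] (.kill [54, 64] (.kill [65] (.leaf)))))) (.kill [41, 58] (.kill [37, 42] (.kill [60] (.kill [44] (.dead)))))) (.branch (.kill [37, 42] (.kill [38, 57] (.kill [60] (.back 0 47 54)))) (.kill [37, 42] (.kill [38, 57] (.kill [60] (.back 1 47 54))))))) (.kill [39] (.branch (.branch (.kill [41, 58] (.kill [40, 43] (.kill [44] (.kill [54, 64] (.kill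 [53] (.leaf)))))) (.kill [41, 58] (.kill [37, 42] (.kill [44] (.kill [54, 64] (.dead)))))) (.branch (.kill [37, 42] (.kill [38, 57] (.kill [44] (.back 0 47 54)))) (.kill [37, 42] (.kill [38, 57] (.kill [44] (.back 1 47 54)))))))) (.branch (.kill [39] (.branch (.branch (.kill [40, 43] (.kill [49, 61] (.back 0 46 52))) (.kill [40, 43] (.kill [37, 42] (.back 1 46 52)))) (.branch (.kill [37, 42] (.kill [38, 57] (.back 1 46 52))) (.kill [37, 42] (.kill [38, 57] (.back 2 46 52)))))) (.kill [39] (.branch (.branch (.kill [40, 43] (.kill [49, 61] (.back 1 46 52))) (.kill [40, 43] (.kill [37, 42] (.back 2 46 52)))) (.branch (.kill [37, 42] (.kill [38, 57] (.back 2 46 52))) (.kill [37, 42] (.kill [38, 57] (.back 3 46 52))))))))) (.branch (.kill [37, 42] (.kill [38, 57] (.branch (.kill [40, 43] (.kill [41, 58] (.kill [48, 50] (.dead)))) (.kill [40, 43] (.kill [41, 58] (.kill [48, 50] (.dead))))))) (.kill [37, 42] (.kill [38, 57] (.kill [39] (.kill [40, 43] (.kill [41, 58] (.kill [48, 50] (.dead)))))))))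 (.branch (.kill [37, 42] (.kill [38, 57] (.branch (.kill [40, 43] (.kill [41, 58] (.branch (.dead) (.dead)))) (.kill [40, 43] (.kill [41, 58] (.kill [39] (.dead))))))) (.kill [37, 42] (.kill [38, 57] (.branch (.kill [40, 43] (.kill [41, 58] (.branch (.dead) (.dead)))) (.kill [40, 43] (.kill [41, 58] (.kill [39] (.dead))))))))) (.kill [37, 42] (.kill [38, 57] (.branch (.branch (.branch (.kill [44] (.dead)) (.kill [44] (.dead))) (.branch (.kill [44] (.dead)) (.kill [44] (.dead)))) (.branch (.branch (.kill [39] (.dead)) (.kill [39] (.dead))) (.branch (.kill [39] (.dead)) (.kill [39] (.dead)))))))))) (.kill [36, 56] (.branch (.branch (.branch (.branch (.kill [46] (.branch (.branch (.kill [47] (.branch (.branch (.kill [49, 61] (.branch (.kill [63] (.kill [65] (.branch (.leaf) (.leaf)))) (.kill [63] (.kill [65] (.kill [48, 50] (.leaf)))))) (.kill [49, 61] (.kill [37, 42] (.kill [63] (.dead))))) (.branch (.kill [37, 42] (.kill [38, 57] (.kill [63] (.kill [65] (.kill [52, 62] (.leaf)))))) (.kill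 [37, 42] (.kill [38, 57] (.kill [63] (.dead))))))) (.kill [47] (.branch (.kill [39] (.kill [49, 61] (.kill [40, 43] (.dead)))) (.kill [39] (.kill [37, 42] (.kill [38, 57] (.dead))))))) (.branch (.kill [47] (.branch (.branch (.kill [40, 43] (.kill [41, 58] (.kill [63] (.kill [65] (.kill [54, 64] (.leaf)))))) (.kill [40, 43] (.kill [37, 42] (.kill [63] (.dead))))) (.branch (.kill [37, 42] (.kill [38, 57] (.kill [63] (.kill [65] (.back 0 39 54))))) (.kill [37, 42] (.kill [38, 57] (.kill [63] (.dead))))))) (.kill [47] (.branch (.branch (.kill [40, 43] (.kill [41, 58] (.dead))) (.kill [40, 43] (.kill [37, 42] (.dead)))) (.branch (.kill [37, 42] (.kill [38, 57] (.dead))) (.kill [37, 42] (.kill [38, 57] (.dead))))))))) (.kill [46] (.kill [37, 42] (.kill [38, 57] (.kill [47] (.kill [40, 43] (.kill [41, 58] (.dead)))))))) (.branch (.kill [46] (.kill [38, 57] (.branch (.kill [47] (.kill [41, 58] (.branch (.kill [45, 59] (.branch (.kill [63] (.kill [65] (.kill [66, 68] (.leaf)))) (.kill [63] (.kill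 [65] (.back 0 60 66))))) (.kill [45, 59] (.branch (.kill [63] (.dead)) (.kill [63] (.dead))))))) (.kill [47] (.kill [41, 58] (.kill [39] (.kill [45, 59] (.branch (.dead) (.dead))))))))) (.kill [46] (.kill [38, 57] (.branch (.kill [47] (.kill [41, 58] (.branch (.dead) (.dead)))) (.kill [47] (.kill [41, 58] (.kill [39] (.dead))))))))) (.kill [37, 42] (.kill [38, 57] (.kill [46] (.branch (.branch (.dead) (.dead)) (.branch (.dead) (.dead))))))) (.branch (.branch (.branch (.kill [46] (.branch (.branch (.kill [47] (.branch (.branch (.kill [49, 61] (.kill [48, 50] (.kill [51] (.kill [53] (.branch (.leaf) (.leaf)))))) (.kill [49, 61] (.kill [37, 42] (.kill [51] (.dead))))) (.branch (.kill [37, 42] (.kill [38, 57] (.kill [51] (.kill [53] (.kill [52, 62] (.leaf)))))) (.kill [37, 42] (.kill [38, 57] (.kill [51] (.dead))))))) (.kill [47] (.branch (.kill [39] (.kill [49, 61] (.kill [40, 43] (.dead)))) (.kill [39] (.kill [37, 42] (.kill [38, 57] (.dead))))))) (.branch (.kill [47] (.branch (.branch (.kill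 [40, 43] (.kill [41, 58] (.kill [51] (.kill [53] (.kill [54, 64] (.leaf)))))) (.kill [40, 43] (.kill [37, 42] (.kill [51] (.dead))))) (.branch (.kill [37, 42] (.kill [38, 57] (.kill [51] (.kill [53] (.back 0 39 54))))) (.kill [37, 42] (.kill [38, 57] (.kill [51] (.dead))))))) (.kill [47] (.branch (.branch (.kill [40, 43] (.kill [41, 58] (.dead))) (.kill [40, 43] (.kill [37, 42] (.dead)))) (.branch (.kill [37, 42] (.kill [38, 57] (.dead))) (.kill [37, 42] (.kill [38, 57] (.dead))))))))) (.kill [46] (.kill [37, 42] (.kill [38, 57] (.kill [47] (.kill [40, 43] (.kill [41, 58] (.dead)))))))) (.branch (.kill [46] (.kill [38, 57] (.branch (.kill [47] (.kill [41, 58] (.branch (.kill [45, 59] (.dead)) (.kill [45, 59] (.dead))))) (.kill [47] (.kill [41, 58] (.kill [39] (.kill [45, 59] (.dead)))))))) (.kill [46] (.kill [38, 57] (.branch (.kill [47] (.kill [41, 58] (.branch (.dead) (.dead)))) (.kill [47] (.kill [41, 58] (.kill [39] (.dead))))))))) (.kill [37, 42] (.kill [38, 57] (.kill [46] (.branch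 (.branch (.dead) (.dead)) (.branch (.dead) (.dead)))))))))) (.branch (.kill [37, 42] (.kill [38, 57] (.branch (.branch (.branch (.branch (.branch (.branch (.branch (.kill [48, 50] (.kill [49, 61] (.branch (.kill [52, 62] (.branch (.kill [55, 67] (.branch (.leaf) (.leaf))) (.kill [39] (.kill [47] (.leaf))))) (.kill [36, 56] (.branch (.back 0 51 55) (.back 1 51 55)))))) (.kill [36, 56] (.kill [49, 61] (.branch (.kill [52, 62] (.branch (.kill [60] (.kill [63] (.leaf))) (.kill [39] (.kill [47] (.leaf))))) (.kill [52, 62] (.branch (.back 0 51 55) (.back 1 51 55))))))) (.branch (.kill [48, 50] (.kill [39] (.branch (.kill [40, 43] (.kill [44] (.kill [55, 67] (.kill [53] (.leaf))))) (.kill [36, 56] (.kill [44] (.back 0 51 55)))))) (.kill [36, 56] (.kill [39] (.branch (.kill [40, 43] (.kill [44] (.kill [60] (.dead)))) (.kill [40, 43] (.kill [44] (.back 0 51 55)))))))) (.kill [36, 56] (.branch (.kill [48, 50] (.kill [49, 61] (.kill [40, 43] (.dead)))) (.kill [48, 50] (.kill [49, 61] (.kill [40,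 43] (.dead))))))) (.kill [36, 56] (.branch (.kill [39] (.kill [48, 50] (.kill [49, 61] (.dead)))) (.kill [39] (.kill [48, 50] (.kill [49, 61] (.dead))))))) (.branch (.branch (.branch (.branch (.kill [40, 43] (.back 0 46 49)) (.kill [36, 56] (.back 1 46 49))) (.branch (.kill [40, 43] (.back 1 46 49)) (.kill [36, 56] (.back 2 46 49)))) (.kill [36, 56] (.branch (.kill [40, 43] (.back 1 46 49)) (.kill [40, 43] (.back 2 46 49))))) (.kill [36, 56] (.branch (.kill [39] (.kill [40, 43] (.back 1 46 49))) (.kill [39] (.kill [40, 43] (.back 2 46 49))))))) (.kill [36, 56] (.branch (.branch (.branch (.kill [40, 43] (.dead)) (.kill [40, 43] (.dead))) (.branch (.kill [40, 43] (.dead)) (.kill [40, 43] (.dead)))) (.branch (.branch (.kill [39] (.dead)) (.kill [39] (.dead))) (.branch (.kill [39] (.dead)) (.kill [39] (.dead))))))) (.branch (.branch (.branch (.branch (.branch (.kill [44] (.kill [45, 59] (.kill [60] (.branch (.kill [52, 62] (.branch (.kill [55, 67] (.kill [69] (.leaf))) (.kill [39] (.dead))))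 (.kill [36, 56] (.branch (.back 0 51 55) (.back 1 51 55))))))) (.kill [44] (.kill [45, 59] (.kill [39] (.branch (.kill [40, 43] (.branch (.kill [55, 67] (.kill [53] (.leaf))) (.kill [55, 67] (.dead)))) (.kill [36, 56] (.branch (.back 0 51 55) (.back 1 51 55)))))))) (.kill [36, 56] (.kill [44] (.kill [45, 59] (.kill [60] (.kill [40, 43] (.dead))))))) (.kill [36, 56] (.branch (.kill [39] (.kill [45, 59] (.kill [60] (.dead)))) (.kill [39] (.kill [45, 59] (.kill [60] (.dead))))))) (.branch (.branch (.branch (.kill [44] (.kill [40, 43] (.back 0 46 49))) (.kill [44] (.kill [40, 43] (.back 1 46 49)))) (.kill [36, 56] (.kill [44] (.kill [40, 43] (.back 1 46 49))))) (.kill [36, 56] (.branch (.kill [39] (.kill [40, 43] (.back 1 46 49))) (.kill [39] (.kill [40, 43] (.back 2 46 49))))))) (.kill [36, 56] (.branch (.branch (.branch (.kill [44] (.dead)) (.kill [44] (.dead))) (.branch (.kill [44] (.dead)) (.kill [44] (.dead)))) (.branch (.branch (.kill [39] (.dead)) (.kill [39] (.dead))) (.branch (.kill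 [39] (.dead)) (.kill [39] (.dead)))))))))) (.kill [36, 56] (.kill [38, 57] (.branch (.branch (.branch (.branch (.branch (.branch (.kill [47] (.kill [48, 50] (.kill [49, 61] (.branch (.kill [52, 62] (.kill [63] (.kill [65] (.branch (.leaf) (.leaf))))) (.kill [52, 62] (.kill [63] (.back 0 51 55))))))) (.kill [47] (.kill [48, 50] (.kill [39] (.branch (.kill [40, 43] (.dead)) (.kill [40, 43] (.dead))))))) (.branch (.kill [47] (.kill [48, 50] (.kill [49, 61] (.kill [40, 43] (.dead))))) (.kill [47] (.kill [48, 50] (.kill [49, 61] (.kill [40, 43] (.dead))))))) (.branch (.branch (.kill [39] (.kill [48, 50] (.kill [49, 61] (.dead)))) (.kill [39] (.kill [48, 50] (.kill [49, 61] (.dead))))) (.branch (.kill [39] (.kill [48, 50] (.kill [49, 61] (.dead)))) (.kill [39] (.kill [48, 50] (.kill [49, 61] (.dead))))))) (.branch (.branch (.branch (.kill [47] (.kill [40, 43] (.back 0 46 49))) (.kill [47] (.kill [40, 43] (.back 1 46 49)))) (.branch (.kill [47] (.kill [40, 43] (.back 1 46 49))) (.kill [47] (.kill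 [40, 43] (.back 2 46 49))))) (.branch (.branch (.kill [39] (.kill [40, 43] (.back 1 46 49))) (.kill [39] (.kill [40, 43] (.back 2 46 49)))) (.branch (.kill [39] (.kill [40, 43] (.back 2 46 49))) (.kill [39] (.kill [40, 43] (.back 3 46 49))))))) (.branch (.branch (.branch (.branch (.kill [47] (.dead)) (.kill [47] (.dead))) (.branch (.kill [47] (.dead)) (.kill [47] (.dead)))) (.branch (.branch (.kill [39] (.dead)) (.kill [39] (.dead))) (.branch (.kill [39] (.dead)) (.kill [39] (.dead))))) (.branch (.branch (.branch (.kill [47] (.dead)) (.kill [47] (.dead))) (.branch (.kill [47] (.dead)) (.kill [47] (.dead)))) (.branch (.branch (.kill [39] (.dead)) (.kill [39] (.dead))) (.branch (.kill [39] (.dead)) (.kill [39] (.dead))))))) (.branch (.branch (.branch (.branch (.branch (.dead) (.dead)) (.branch (.dead) (.dead))) (.branch (.branch (.dead) (.dead)) (.branch (.dead) (.dead)))) (.branch (.branch (.branch (.dead) (.dead)) (.branch (.dead) (.dead))) (.branch (.branch (.dead) (.dead)) (.branch (.dead)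 (.dead))))) (.branch (.branch (.branch (.branch (.dead) (.dead)) (.branch (.dead) (.dead))) (.branch (.branch (.dead) (.dead)) (.branch (.dead) (.dead)))) (.branch (.branch (.branch (.dead) (.dead)) (.branch (.dead) (.dead))) (.branch (.branch (.dead) (.dead)) (.branch (.dead) (.dead))))))))))) (.kill [36, 56] (.kill [37, 42] (.kill [38, 57] (.branch (.branch (.branch (.branch (.branch (.branch (.branch (.kill [48, 50] (.kill [49, 61] (.branch (.kill [52, 62] (.branch (.branch (.kill [66, 68] (.branch (.leaf) (.leaf))) (.kill [39] (.kill [47] (.leaf)))) (.branch (.back 0 63 66) (.back 1 63 66)))) (.kill [52, 62] (.branch (.branch (.kill [44] (.kill [51] (.leaf))) (.kill [39] (.kill [47] (.leaf)))) (.branch (.back 0 63 66) (.back 1 63 66))))))) (.kill [48, 50] (.kill [49, 61] (.kill [39] (.kill [52, 62] (.dead)))))) (.branch (.kill [48, 50] (.kill [49, 61] (.branch (.dead) (.dead)))) (.kill [48, 50] (.kill [49, 61] (.branch (.dead) (.dead)))))) (.branch (.branch (.kill [39] (.kill [49,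 61] (.branch (.kill [41, 58] (.branch (.kill [60] (.kill [66, 68] (.kill [65] (.leaf)))) (.kill [60] (.back 0 63 66)))) (.kill [41, 58] (.branch (.kill [60] (.kill [44] (.dead))) (.kill [60] (.back 0 63 66))))))) (.kill [39] (.kill [49, 61] (.branch (.kill [41, 58] (.dead)) (.kill [41, 58] (.dead)))))) (.branch (.kill [39] (.kill [49, 61] (.branch (.dead) (.dead)))) (.kill [39] (.kill [49, 61] (.branch (.dead) (.dead))))))) (.branch (.branch (.branch (.kill [48, 50] (.dead)) (.kill [48, 50] (.dead))) (.branch (.kill [48, 50] (.dead)) (.kill [48, 50] (.dead)))) (.branch (.branch (.kill [39] (.dead)) (.kill [39] (.dead))) (.branch (.kill [39] (.dead)) (.kill [39] (.dead)))))) (.branch (.branch (.branch (.branch (.back 0 46 48) (.back 1 46 48)) (.branch (.back 1 46 48) (.back 2 46 48))) (.branch (.branch (.back 1 46 48) (.back 2 46 48)) (.branch (.back 2 46 48) (.back 3 46 48)))) (.branch (.branch (.branch (.back 1 46 48) (.back 2 46 48)) (.branch (.back 2 46 48) (.back 3 46 48))) (.branch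 (.branch (.back 2 46 48) (.back 3 46 48)) (.branch (.back 3 46 48) (.back 4 46 48)))))) (.branch (.branch (.branch (.branch (.branch (.kill [44] (.kill [45, 59] (.kill [60] (.kill [52, 62] (.branch (.branch (.kill [66, 68] (.kill [69] (.leaf))) (.kill [39] (.dead))) (.branch (.back 0 63 66) (.back 1 63 66))))))) (.kill [44] (.kill [45, 59] (.kill [39] (.kill [52, 62] (.dead)))))) (.branch (.kill [44] (.kill [45, 59] (.kill [60] (.dead)))) (.kill [44] (.kill [45, 59] (.kill [60] (.dead)))))) (.branch (.branch (.kill [39] (.kill [45, 59] (.kill [60] (.kill [41, 58] (.branch (.branch (.kill [66, 68] (.kill [65] (.leaf))) (.kill [66, 68] (.dead))) (.branch (.back 0 63 66) (.back 1 63 66))))))) (.kill [39] (.kill [45, 59] (.kill [60] (.kill [41, 58] (.dead)))))) (.branch (.kill [39] (.kill [45, 59] (.kill [60] (.dead)))) (.kill [39] (.kill [45, 59] (.kill [60] (.dead))))))) (.branch (.branch (.branch (.kill [44] (.dead)) (.kill [44] (.dead))) (.branch (.kill [44] (.dead)) (.kill [44] (.dead))))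 (.branch (.branch (.kill [39] (.dead)) (.kill [39] (.dead))) (.branch (.kill [39] (.dead)) (.kill [39] (.dead)))))) (.branch (.branch (.branch (.branch (.back 0 46 48) (.back 1 46 48)) (.branch (.back 1 46 48) (.back 2 46 48))) (.branch (.branch (.back 1 46 48) (.back 2 46 48)) (.branch (.back 2 46 48) (.back 3 46 48)))) (.branch (.branch (.branch (.back 1 46 48) (.back 2 46 48)) (.branch (.back 2 46 48) (.back 3 46 48))) (.branch (.branch (.back 2 46 48) (.back 3 46 48)) (.branch (.back 3 46 48) (.back 4 46 48))))))) (.branch (.branch (.branch (.branch (.branch (.branch (.kill [48, 50] (.kill [49, 61] (.kill [47] (.kill [52, 62] (.branch (.kill [51] (.kill [53] (.branch (.leaf) (.leaf)))) (.kill [51] (.back 0 63 66))))))) (.kill [48, 50] (.kill [49, 61] (.kill [39] (.kill [52, 62] (.dead)))))) (.branch (.kill [48, 50] (.kill [49, 61] (.kill [47] (.dead)))) (.kill [48, 50] (.kill [49, 61] (.kill [47] (.dead)))))) (.branch (.branch (.kill [39] (.kill [49, 61] (.kill [47] (.kill [41, 58]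 (.branch (.dead) (.dead)))))) (.kill [39] (.kill [49, 61] (.kill [47] (.kill [41, 58] (.dead)))))) (.branch (.kill [39] (.kill [49, 61] (.kill [47] (.dead)))) (.kill [39] (.kill [49, 61] (.kill [47] (.dead))))))) (.branch (.branch (.branch (.kill [48, 50] (.dead)) (.kill [48, 50] (.dead))) (.branch (.kill [48, 50] (.dead)) (.kill [48, 50] (.dead)))) (.branch (.branch (.kill [39] (.dead)) (.kill [39] (.dead))) (.branch (.kill [39] (.dead)) (.kill [39] (.dead)))))) (.branch (.branch (.branch (.branch (.back 0 46 48) (.back 1 46 48)) (.branch (.back 1 46 48) (.back 2 46 48))) (.branch (.branch (.back 1 46 48) (.back 2 46 48)) (.branch (.back 2 46 48) (.back 3 46 48)))) (.branch (.branch (.branch (.back 1 46 48) (.back 2 46 48)) (.branch (.back 2 46 48) (.back 3 46 48))) (.branch (.branch (.back 2 46 48) (.back 3 46 48)) (.branch (.back 3 46 48) (.back 4 46 48)))))) (.branch (.branch (.branch (.branch (.branch (.kill [44] (.kill [45, 59] (.dead))) (.kill [44] (.kill [45, 59] (.dead)))) (.branch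 (.kill [44] (.kill [45, 59] (.dead))) (.kill [44] (.kill [45, 59] (.dead))))) (.branch (.branch (.kill [39] (.kill [45, 59] (.dead))) (.kill [39] (.kill [45, 59] (.dead)))) (.branch (.kill [39] (.kill [45, 59] (.dead))) (.kill [39] (.kill [45, 59] (.dead)))))) (.branch (.branch (.branch (.kill [44] (.dead)) (.kill [44] (.dead))) (.branch (.kill [44] (.dead)) (.kill [44] (.dead)))) (.branch (.branch (.kill [39] (.dead)) (.kill [39] (.dead))) (.branch (.kill [39] (.dead)) (.kill [39] (.dead)))))) (.branch (.branch (.branch (.branch (.back 0 46 48) (.back 1 46 48)) (.branch (.back 1 46 48) (.back 2 46 48))) (.branch (.branch (.back 1 46 48) (.back 2 46 48)) (.branch (.back 2 46 48) (.back 3 46 48)))) (.branch (.branch (.branch (.back 1 46 48) (.back 2 46 48)) (.branch (.back 2 46 48) (.back 3 46 48))) (.branch (.branch (.back 2 46 48) (.back 3 46 48)) (.branch (.back 3 46 48) (.back 4 46 48)))))))))))) (.kill [37, 42] (.kill [38, 57] (.branch (.branch (.branch (.kill [46] (.branch (.branch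 (.branch (.branch (.branch (.kill [51] (.kill [52, 62] (.kill [63] (.branch (.branch (.branch (.kill [69] (.branch (.leaf) (.leaf))) (.dead)) (.branch (.kill [69] (.kill [48, 50] (.leaf))) (.dead))) (.kill [36, 56] (.branch (.kill [69] (.kill [49, 61] (.leaf))) (.dead))))))) (.kill [51] (.kill [52, 62] (.dead)))) (.kill [36, 56] (.kill [51] (.dead)))) (.kill [36, 56] (.branch (.dead) (.dead)))) (.branch (.branch (.branch (.kill [51] (.kill [40, 43] (.kill [63] (.branch (.kill [45, 59] (.branch (.kill [69] (.kill [55, 67] (.leaf))) (.dead))) (.kill [36, 56] (.branch (.kill [69] (.back 0 44 55)) (.dead))))))) (.kill [51] (.kill [40, 43] (.dead)))) (.kill [36, 56] (.kill [51] (.dead)))) (.kill [36, 56] (.branch (.dead) (.dead))))) (.kill [36, 56] (.branch (.branch (.branch (.kill [51] (.kill [41, 58] (.kill [63] (.kill [45, 59] (.branch (.branch (.kill [69] (.kill [66, 68] (.leaf))) (.dead)) (.branch (.kill [69] (.back 0 60 66)) (.dead))))))) (.kill [51] (.kill [41, 58] (.dead)))) (.branch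 (.kill [51] (.dead)) (.kill [51] (.dead)))) (.branch (.branch (.dead) (.dead)) (.branch (.dead) (.dead))))))) (.kill [46] (.branch (.branch (.branch (.branch (.branch (.kill [51] (.kill [52, 62] (.kill [47] (.branch (.kill [48, 50] (.branch (.kill [53] (.branch (.leaf) (.leaf))) (.dead))) (.kill [36, 56] (.branch (.kill [53] (.kill [49, 61] (.leaf))) (.dead))))))) (.kill [51] (.kill [52, 62] (.dead)))) (.kill [36, 56] (.kill [51] (.dead)))) (.kill [36, 56] (.branch (.dead) (.dead)))) (.branch (.branch (.branch (.kill [51] (.kill [40, 43] (.kill [47] (.branch (.kill [45, 59] (.branch (.kill [53] (.kill [55, 67] (.leaf))) (.dead))) (.kill [36, 56] (.branch (.kill [53] (.back 0 44 55)) (.dead))))))) (.kill [51] (.kill [40, 43] (.dead)))) (.kill [36, 56] (.kill [51] (.dead)))) (.kill [36, 56] (.branch (.dead) (.dead))))) (.kill [36, 56] (.branch (.branch (.branch (.kill [51] (.kill [41, 58] (.kill [47] (.kill [45, 59] (.dead))))) (.kill [51] (.kill [41, 58] (.dead)))) (.branch (.kill [51]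 (.dead)) (.kill [51] (.dead)))) (.branch (.branch (.dead) (.dead)) (.branch (.dead) (.dead)))))))) (.kill [36, 56] (.kill [46] (.branch (.branch (.branch (.branch (.branch (.kill [51] (.kill [52, 62] (.kill [63] (.kill [48, 50] (.kill [49, 61] (.branch (.kill [69] (.branch (.leaf) (.leaf))) (.dead))))))) (.kill [51] (.kill [52, 62] (.dead)))) (.branch (.kill [51] (.dead)) (.kill [51] (.dead)))) (.branch (.branch (.dead) (.dead)) (.branch (.dead) (.dead)))) (.branch (.branch (.branch (.kill [51] (.kill [40, 43] (.kill [63] (.kill [48, 50] (.dead))))) (.kill [51] (.kill [40, 43] (.dead)))) (.branch (.kill [51] (.dead)) (.kill [51] (.dead)))) (.branch (.branch (.dead) (.dead)) (.branch (.dead) (.dead))))) (.branch (.branch (.branch (.branch (.kill [51] (.kill [41, 58] (.kill [63] (.dead)))) (.kill [51] (.kill [41, 58] (.dead)))) (.branch (.kill [51] (.dead)) (.kill [51] (.dead)))) (.branch (.branch (.dead) (.dead)) (.branch (.dead) (.dead)))) (.branch (.branch (.branch (.kill [51] (.kill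 [41, 58] (.kill [63] (.dead)))) (.kill [51] (.kill [41, 58] (.dead)))) (.branch (.kill [51] (.dead)) (.kill [51] (.dead)))) (.branch (.branch (.dead) (.dead)) (.branch (.dead) (.dead))))))))) (.kill [36, 56] (.branch (.kill [46] (.branch (.branch (.branch (.branch (.branch (.kill [47] (.kill [52, 62] (.kill [63] (.kill [49, 61] (.branch (.branch (.kill [65] (.branch (.leaf) (.leaf))) (.dead)) (.branch (.kill [65] (.kill [48, 50] (.leaf))) (.dead))))))) (.kill [47] (.kill [52, 62] (.dead)))) (.branch (.kill [47] (.dead)) (.kill [47] (.dead)))) (.branch (.branch (.dead) (.dead)) (.branch (.dead) (.dead)))) (.branch (.branch (.branch (.kill [47] (.kill [40, 43] (.kill [63] (.dead)))) (.kill [47] (.kill [40, 43] (.dead)))) (.branch (.kill [47] (.dead)) (.kill [47] (.dead)))) (.branch (.branch (.dead) (.dead)) (.branch (.dead) (.dead))))) (.branch (.branch (.branch (.branch (.kill [47] (.kill [41, 58] (.kill [63] (.kill [45, 59] (.branch (.branch (.kill [65] (.kill [66, 68] (.leaf))) (.dead))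 (.branch (.kill [65] (.back 0 60 66)) (.dead))))))) (.kill [47] (.kill [41, 58] (.dead)))) (.branch (.kill [47] (.dead)) (.kill [47] (.dead)))) (.branch (.branch (.dead) (.dead)) (.branch (.dead) (.dead)))) (.branch (.branch (.branch (.kill [47] (.kill [41, 58] (.kill [63] (.dead)))) (.kill [47] (.kill [41, 58] (.dead)))) (.branch (.kill [47] (.dead)) (.kill [47] (.dead)))) (.branch (.branch (.dead) (.dead)) (.branch (.dead) (.dead))))))) (.kill [46] (.branch (.branch (.branch (.branch (.branch (.kill [47] (.kill [52, 62] (.kill [63] (.kill [49, 61] (.kill [48, 50] (.branch (.kill [53] (.branch (.leaf) (.leaf))) (.dead))))))) (.kill [47] (.kill [52, 62] (.dead)))) (.branch (.kill [47] (.dead)) (.kill [47] (.dead)))) (.branch (.branch (.dead) (.dead)) (.branch (.dead) (.dead)))) (.branch (.branch (.branch (.kill [47] (.kill [40, 43] (.kill [63] (.dead)))) (.kill [47] (.kill [40, 43] (.dead)))) (.branch (.kill [47] (.dead)) (.kill [47] (.dead)))) (.branch (.branch (.dead) (.dead)) (.branch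 (.dead) (.dead))))) (.branch (.branch (.branch (.branch (.kill [47] (.kill [41, 58] (.kill [63] (.kill [45, 59] (.dead))))) (.kill [47] (.kill [41, 58] (.dead)))) (.branch (.kill [47] (.dead)) (.kill [47] (.dead)))) (.branch (.branch (.dead) (.dead)) (.branch (.dead) (.dead)))) (.branch (.branch (.branch (.kill [47] (.kill [41, 58] (.kill [63] (.dead)))) (.kill [47] (.kill [41, 58] (.dead)))) (.branch (.kill [47] (.dead)) (.kill [47] (.dead)))) (.branch (.branch (.dead) (.dead)) (.branch (.dead) (.dead))))))))))))) (.branch (.branch (.branch (.branch (.branch (.branch (.kill [39] (.kill [40, 43] (.kill [41, 58] (.kill [44] (.kill [45, 59] (.kill [60] (.branch (.branch (.branch (.branch (.branch (.branch (.branch (.kill [70] (.leaf)) (.dead)) (.branch (.kill [47] (.leaf)) (.dead))) (.kill [37, 42] (.branch (.kill [70] (.leaf)) (.dead)))) (.kill [36, 56] (.kill [38, 57] (.branch (.kill [70] (.leaf)) (.dead))))) (.branch (.kill [37, 42] (.branch (.branch (.kill [51] (.leaf)) (.dead)) (.branch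 (.kill [47] (.leaf)) (.dead)))) (.kill [36, 56] (.kill [38, 57] (.branch (.kill [51] (.leaf)) (.dead)))))) (.kill [36, 56] (.kill [37, 42] (.kill [38, 57] (.branch (.branch (.kill [70] (.leaf)) (.dead)) (.branch (.kill [47] (.leaf)) (.dead))))))) (.kill [36, 56] (.branch (.kill [38, 57] (.branch (.branch (.branch (.kill [63] (.leaf)) (.dead)) (.branch (.kill [47] (.leaf)) (.dead))) (.kill [37, 42] (.branch (.kill [63] (.leaf)) (.dead))))) (.kill [38, 57] (.kill [37, 42] (.branch (.branch (.kill [51] (.leaf)) (.dead)) (.branch (.kill [47] (.leaf)) (.dead)))))))))))))) (.kill [39] (.kill [40, 43] (.kill [41, 58] (.kill [44] (.kill [45, 59] (.dead))))))) (.kill [36, 56] (.kill [39] (.kill [40, 43] (.kill [41, 58] (.kill [44] (.dead))))))) (.kill [36, 56] (.branch (.kill [39] (.kill [40, 43] (.kill [41, 58] (.dead)))) (.kill [39] (.kill [40, 43] (.kill [41, 58] (.dead))))))) (.branch (.kill [37, 42] (.kill [38, 57] (.kill [39] (.kill [40, 43] (.dead))))) (.kill [36, 56] (.kill [38, 57] (.kill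 [39] (.kill [40, 43] (.dead))))))) (.kill [36, 56] (.kill [37, 42] (.kill [38, 57] (.branch (.kill [39] (.dead)) (.kill [39] (.dead))))))) (.kill [37, 42] (.kill [38, 57] (.branch (.branch (.branch (.dead) (.dead)) (.kill [36, 56] (.dead))) (.kill [36, 56] (.branch (.dead) (.dead)))))))) (.branch (.branch (.branch (.branch (.branch (.kill [40, 43] (.kill [41, 58] (.branch (.branch (.branch (.branch (.kill [48, 50] (.kill [49, 61] (.branch (.branch (.branch (.branch (.kill [54, 64] (.kill [55, 67] (.branch (.branch (.leaf) (.leaf)) (.kill [46] (.leaf))))) (.kill [36, 56] (.back 0 53 55))) (.branch (.kill [37, 42] (.kill [55, 67] (.kill [44] (.kill [51] (.leaf))))) (.kill [36, 56] (.back 0 53 55)))) (.kill [36, 56] (.kill [37, 42] (.dead)))) (.kill [36, 56] (.branch (.dead) (.dead)))))) (.kill [36, 56] (.kill [49, 61] (.branch (.branch (.branch (.branch (.kill [54, 64] (.kill [60] (.branch (.kill [65] (.leaf)) (.kill [46] (.leaf))))) (.kill [54, 64] (.back 0 53 55))) (.branch (.kill [37,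 42] (.kill [60] (.kill [44] (.dead)))) (.kill [37, 42] (.back 0 53 55)))) (.branch (.kill [37, 42] (.dead)) (.kill [37, 42] (.dead)))) (.branch (.branch (.dead) (.dead)) (.branch (.dead) (.dead))))))) (.branch (.kill [37, 42] (.back 0 47 49)) (.kill [36, 56] (.back 1 47 49)))) (.kill [36, 56] (.kill [37, 42] (.dead)))) (.kill [37, 42] (.dead))))) (.kill [36, 56] (.kill [41, 58] (.branch (.branch (.branch (.kill [46] (.kill [48, 50] (.kill [49, 61] (.branch (.branch (.branch (.branch (.kill [54, 64] (.kill [63] (.kill [65] (.branch (.leaf) (.leaf))))) (.kill [54, 64] (.back 0 53 55))) (.branch (.kill [37, 42] (.kill [63] (.dead))) (.kill [37, 42] (.back 0 53 55)))) (.branch (.kill [37, 42] (.dead)) (.kill [37, 42] (.dead)))) (.branch (.branch (.dead) (.dead)) (.branch (.dead) (.dead))))))) (.kill [46] (.kill [37, 42] (.back 0 47 49)))) (.branch (.kill [46] (.dead)) (.kill [46] (.dead)))) (.kill [37, 42] (.dead)))))) (.branch (.kill [37, 42] (.back 0 39 41)) (.kill [36, 56] (.back 1 39 41))))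 (.kill [36, 56] (.kill [37, 42] (.dead)))) (.kill [37, 42] (.dead))) (.branch (.branch (.branch (.branch (.kill [40, 43] (.kill [41, 58] (.branch (.branch (.branch (.kill [44] (.kill [45, 59] (.kill [60] (.branch (.branch (.branch (.branch (.kill [54, 64] (.kill [55, 67] (.branch (.kill [70] (.leaf)) (.dead)))) (.kill [36, 56] (.back 0 53 55))) (.branch (.kill [37, 42] (.kill [55, 67] (.branch (.kill [51] (.leaf)) (.dead)))) (.kill [36, 56] (.back 0 53 55)))) (.kill [36, 56] (.kill [37, 42] (.dead)))) (.kill [36, 56] (.branch (.dead) (.dead))))))) (.kill [44] (.kill [37, 42] (.back 0 47 49)))) (.kill [36, 56] (.kill [44] (.dead)))) (.kill [37, 42] (.dead))))) (.kill [36, 56] (.kill [41, 58] (.branch (.branch (.branch (.dead) (.dead)) (.branch (.dead) (.dead))) (.kill [37, 42] (.dead)))))) (.branch (.kill [37, 42] (.back 0 39 41)) (.kill [36, 56] (.back 1 39 41)))) (.kill [36, 56] (.kill [37, 42] (.dead)))) (.kill [37, 42] (.dead))))) (.kill [36, 56] (.branch (.branch (.branch (.branch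 (.kill [40, 43] (.kill [41, 58] (.branch (.branch (.branch (.branch (.kill [48, 50] (.kill [49, 61] (.branch (.branch (.branch (.branch (.kill [54, 64] (.branch (.kill [66, 68] (.branch (.branch (.leaf) (.leaf)) (.kill [46] (.leaf)))) (.back 0 65 66))) (.kill [54, 64] (.dead))) (.branch (.dead) (.dead))) (.branch (.branch (.kill [38, 57] (.branch (.kill [66, 68] (.kill [60] (.kill [63] (.leaf)))) (.back 0 65 66))) (.kill [38, 57] (.dead))) (.branch (.dead) (.dead)))) (.branch (.branch (.branch (.kill [54, 64] (.branch (.kill [44] (.branch (.kill [53] (.leaf)) (.kill [46] (.leaf)))) (.back 0 65 66))) (.kill [54, 64] (.dead))) (.branch (.dead) (.dead))) (.branch (.branch (.kill [38, 57] (.branch (.kill [44] (.kill [60] (.dead))) (.back 0 65 66))) (.kill [38, 57] (.dead))) (.branch (.dead) (.dead))))))) (.kill [48, 50] (.dead))) (.branch (.back 0 47 48) (.back 1 47 48))) (.dead)) (.branch (.branch (.branch (.kill [48, 50] (.kill [49, 61] (.kill [46] (.branch (.branch (.branch (.kill [54,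 64] (.branch (.kill [51] (.kill [53] (.branch (.leaf) (.leaf)))) (.back 0 65 66))) (.kill [54, 64] (.dead))) (.branch (.dead) (.dead))) (.branch (.branch (.kill [38, 57] (.branch (.kill [51] (.dead)) (.back 0 65 66))) (.kill [38, 57] (.dead))) (.branch (.dead) (.dead))))))) (.kill [48, 50] (.dead))) (.branch (.back 0 47 48) (.back 1 47 48))) (.dead))))) (.kill [40, 43] (.dead))) (.branch (.back 0 39 40) (.back 1 39 40))) (.dead)) (.branch (.branch (.branch (.kill [40, 43] (.kill [41, 58] (.branch (.branch (.branch (.branch (.kill [44] (.kill [45, 59] (.kill [60] (.branch (.branch (.branch (.kill [54, 64] (.branch (.kill [66, 68] (.branch (.kill [70] (.leaf)) (.dead))) (.back 0 65 66))) (.kill [54, 64] (.dead))) (.branch (.dead) (.dead))) (.branch (.branch (.kill [38, 57] (.branch (.kill [66, 68] (.branch (.kill [63] (.leaf)) (.dead))) (.back 0 65 66))) (.kill [38, 57] (.dead))) (.branch (.dead) (.dead))))))) (.kill [44] (.dead))) (.branch (.back 0 47 48) (.back 1 47 48))) (.dead)) (.branch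 (.branch (.branch (.kill [44] (.kill [45, 59] (.dead))) (.kill [44] (.dead))) (.branch (.back 0 47 48) (.back 1 47 48))) (.dead))))) (.kill [40, 43] (.dead))) (.branch (.back 0 39 40) (.back 1 39 40))) (.dead))))) (.branch (.kill [37, 42] (.branch (.branch (.branch (.kill [40, 43] (.branch (.branch (.kill [45, 59] (.branch (.branch (.kill [48, 50] (.branch (.branch (.kill [52, 62] (.branch (.branch (.kill [54, 64] (.branch (.kill [55, 67] (.branch (.branch (.branch (.leaf) (.leaf)) (.kill [46] (.leaf))) (.kill [39] (.kill [47] (.leaf))))) (.dead))) (.back 0 53 54)) (.dead))) (.back 0 51 52)) (.dead))) (.dead)) (.branch (.kill [38, 57] (.branch (.branch (.kill [52, 62] (.branch (.branch (.kill [60] (.branch (.kill [55, 67] (.branch (.branch (.kill [69] (.leaf)) (.kill [46] (.leaf))) (.kill [39] (.dead)))) (.dead))) (.back 0 53 54)) (.dead))) (.back 0 51 52)) (.dead))) (.dead)))) (.back 0 44 45)) (.dead))) (.dead)) (.branch (.kill [38, 57] (.branch (.branch (.kill [45, 59] (.kill [46] (.branch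 (.kill [48, 50] (.branch (.branch (.kill [52, 62] (.branch (.branch (.kill [63] (.branch (.kill [55, 67] (.branch (.kill [69] (.branch (.leaf) (.leaf))) (.dead))) (.dead))) (.back 0 53 54)) (.dead))) (.back 0 51 52)) (.dead))) (.dead)))) (.back 0 44 45)) (.dead))) (.dead))) (.branch (.branch (.kill [40, 43] (.branch (.branch (.kill [45, 59] (.kill [39] (.branch (.kill [41, 58] (.branch (.branch (.kill [60] (.branch (.branch (.kill [54, 64] (.branch (.kill [55, 67] (.branch (.branch (.kill [70] (.leaf)) (.dead)) (.branch (.kill [47] (.leaf)) (.dead)))) (.dead))) (.back 0 53 54)) (.dead))) (.back 0 51 52)) (.dead))) (.dead)))) (.back 0 44 45)) (.dead))) (.dead)) (.branch (.kill [38, 57] (.branch (.branch (.kill [45, 59] (.dead)) (.back 0 44 45)) (.dead))) (.dead))))) (.dead))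

/-- Rank certificate 0: piv. -/
def pivTwE6_0 : List ℕ := [1, 2, 3, 4, 5, 6, 7, 8, 9, 10, 16, 17, 18, 19, 20, 21, 22, 23, 24, 25, 73, 0]

/-- Rank certificate 0: spn. -/
def spnTwE6_0 : List (List ℕ) := [[21], [0], [1], [2], [3], [4], [5], [6], [7], [8], [9], [], [], [], [], [], [10], [11], [12], [13], [14], [15], [16], [17], [18], [19], [], [], [], [], [], [], [], [], [], [], [], [], [], [], [], [], [], [], [], [], [], [], [], [], [], [], [], [], [], [], [], [], [], [], [], [], [], [], [], [], [], [], [], [], [], [], [], [20], [], [], [], []]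

/-- Rank certificate 0: dual. -/
def dualTwE6_0 : List (List ℕ) := [[46], [47], [48], [49], [50], [51], [52], [53], [54], [55], [61], [62], [63], [64], [65], [66], [67], [68], [69], [70], [71, 72], [72]]

theorem rankTwE6_0 : packE6.rankOK (Pack.oneWord [71]) pivTwE6_0 spnTwE6_0 dualTwE6_0 = true := by
  decide +kernel

theorem pivTwE6_0_length : pivTwE6_0.length = 22 := by decide +kernel

/-- Rank certificate 1: piv. -/
def pivTwE6_1 : List ℕ := [4, 7, 9, 10, 12, 13, 14, 15, 16, 17, 19, 20, 22, 26, 27, 29, 30, 33, 34, 35, 39, 47, 72, 74, 0, 1, 3, 5, 8, 11, 2, 6]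

/-- Rank certificate 1: spn. -/
def spnTwE6_1 : List (List ℕ) := [[24], [25], [30], [26], [0], [27], [31], [1], [28], [2], [3], [29], [4], [5], [6], [7], [8], [9], [], [10], [11], [], [12], [], [11], [], [13], [14], [], [15], [16], [], [14], [17], [18], [19], [], [15], [], [20], [], [], [18], [], [20], [], [], [21], [], [], [], [21], [], [], [], [], [], [], [], [], [], [], [], [], [], [], [], [], [], [], [], [], [22], [], [23], [23], [23], [22]]

/-- Rank certificate 1: dual. -/
def dualTwE6_1 : List (List ℕ) := [[38], [36], [45], [41], [52], [49], [55], [54], [57], [56], [59], [60, 20], [58], [62], [63, 27], [66, 29], [61], [67], [68, 34], [64], [70, 39], [71, 47], [65, 69, 72], [69, 72, 74], [20], [27], [29], [34], [39], [47], [72, 74], [74]]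

theorem rankTwE6_1 : packE6.rankOK (Pack.oneWord [65, 69]) pivTwE6_1 spnTwE6_1 dualTwE6_1 = true := by
  decide +kernel

theorem pivTwE6_1_length : pivTwE6_1.length = 32 := by decide +kernel

/-- Rank certificate 2: piv. -/
def pivTwE6_2 : List ℕ := [9, 10, 12, 13, 14, 15, 19, 21, 22, 23, 26, 28, 29, 30, 31, 33, 34, 35, 39, 47, 72, 74, 3, 4, 5, 7, 8, 11, 16, 17, 20, 27, 75, 2, 18, 6, 0, 1]

/-- Rank certificate 2: spn. -/
def spnTwE6_2 : List (List ℕ) := [[36], [37], [33], [22], [23], [24], [35], [25], [26], [0], [1], [27], [2], [3], [4], [5], [28], [29], [34], [6], [30], [7], [8], [9], [18, 26, 30], [], [10], [31], [11], [12], [13], [14], [19, 27, 31], [15], [16], [17], [5], [12], [4], [18], [], [], [16], [], [18], [], [], [19], [], [], [], [19], [], [], [], [], [17], [15], [], [], [18], [], [], [19], [], [], [], [], [], [], [], [], [20], [], [21], [32], [21], [20]]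

/-- Rank certificate 2: dual. -/
def dualTwE6_2 : List (List ℕ) := [[45], [41], [52], [49], [55, 14], [54, 15], [59], [40], [58], [43], [62], [48], [66, 29], [61], [50], [67, 33], [68, 34], [64, 35], [70, 39], [71, 47], [65, 69, 72], [53, 65, 74], [29], [14], [34], [15], [44, 8], [51, 11], [33], [35], [39, 44], [47, 51], [53, 65, 69, 73], [73, 74], [72, 73], [72, 73, 74], [8], [11]]

theorem rankTwE6_2 : packE6.rankOK (Pack.oneWord [53, 65, 69]) pivTwE6_2 spnTwE6_2 dualTwE6_2 = true := by
  decide +kernel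

theorem pivTwE6_2_length : pivTwE6_2.length = 38 := by decide +kernel

theorem twDescE6 : packE6.twDescOK symE6.mor.ρ 4 symE6.wEval ordTwE6 repsTwE6 tabTwE6 treeTwE6 = true := by
  decide +kernel

theorem fixTwE6 : repsTwE6.all (fun R => R.all (packE6.fixB symE6.mor.ρ) && packE6.orthsOK R) = true := by
  decide +kernel

end CfsgLib.Chev
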