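/-
The classes of involutions of ²E₆(q), q even.
-/
import Cfsg.Agent.Lib.Chev.InvClass.TwDataE6
import Cfsg.Agent.Lib.Chev.InvClass.LacedData
import Cfsg.Agent.Lib.Chev.Twist.OrderE6

set_option autoImplicit false
set_option linter.dupNamespace false
set_option linter.unusedSectionVars false
set_option maxRecDepth 100000
set_option maxHeartbeats 1000000

namespace CfsgLib.Chev.T2E6

open Cfsg.Lie Matrix Chev

local notation "Φ" => CfsgLib.Chev.chevE6

theorem tabEq : (CfsgLib.Chev.chevE6).TabEq packE6 := by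
  have hn : Cfsg.Lie.chevE6.nroots = packE6.n := (packE6.rank_eq (hd := datumOKE6)).2
  refine ⟨hn, fun r s => packE6.pair_prP r s, fun r s h => ?_, fun r => (packE6.rev_eq hn r).symm⟩
  have hlt : packE6.S r.val s.val < Cfsg.Lie.chevE6.nroots := by
    replace h : packE6.prP r.val s.val = -1 := (packE6.pair_prP r s).symm.trans h
    have hS : allN packE6.n (fun r => allN packE6.n fun s =>
        (!(zeq (packE6.prP r s) (-1))) || Nat.blt (packE6.S r s) packE6.n) = true := by decide +kernel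
    have := allN_iff.1 (allN_iff.1 hS r.val (hn ▸ r.isLt)) s.val (hn ▸ s.isLt)
    simp only [Bool.or_eq_true, Bool.not_eq_true', Nat.blt_eq] at this
    rcases this with e | e
    · rw [zeq_iff.2 h] at e; exact absurd e (by decide)
    · exact lt_of_lt_of_eq e hn.symm
  exact Nat.mod_eq_of_lt hlt

variable {K : Type*} [Field K] [Fintype K] {q : ℕ} (hq : IsPrimePow q) (hK : Fintype.card K = q ^ 2)

include hK in
theorem two_pow [CharP K 2] : ∃ n : ℕ, q = 2 ^ n := by
  obtain ⟨n, hp, hn⟩ := FiniteField.card K 2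
  rw [hK] at hn
  obtain ⟨i, -, hi⟩ := (Nat.dvd_prime_pow hp).1 ⟨q, by rw [← hn, sq]⟩
  exact ⟨i, hi⟩

theorem involTwist [CharP K 2] :
    (CfsgLib.Chev.chevE6).InvolTwist (tw hq hK) q symE6.mor.ρ := by
  haveI : Fact (Nat.Prime 2) := ⟨Nat.prime_two⟩
  obtain ⟨n, hn⟩ := two_pow (q := q) hK
  have hadd : ∀ a b : K, (a + b) ^ q = a ^ q + b ^ q := fun a b => by
    rw [hn]; exact add_pow_char_pow a b 2 n
  refine ⟨fun r t => ?_, fun r => symOKE6.rho_val r, fun r => Fin.ext ?_, pow_q_q hK, hadd,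
    fun c hc => ?_, by have := hq.one_lt; omega⟩
  · rw [(tw hq hK).app_xg]
    congr 1
    have hl : morE6.l r.val = 1 := by
      rcases (check_root checkMorE6 r.isLt).2.1 with h | ⟨-, h⟩
      · exact h
      · exact absurd rfl h
    have he : (morE6.e r.val : ℤ) % 2 ≠ 0 := by
      rcases (check_root checkMorE6 r.isLt).2.2.1 with h | h <;> rw [h] <;> decide
    show ((morE6.e r.val : ℤ) : K) * t ^ (morE6.l r.val * q) = t ^ q
    rw [Chev.int_cast_odd he, hl, one_mul, one_mul]
  · have h : ∀ r : Fin Cfsg.Lie.chevE6.nroots, symE6.mor.ρ (symE6.mor.ρ r.val) = r.val := by decide +kernel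
    exact h r
  · -- the trace is onto the fixed field
    obtain ⟨θ, hθ⟩ : ∃ θ : K, θ + θ ^ q ≠ 0 := by
      by_contra! hall
      classical
      have hle : (Finset.univ : Finset K).card ≤ q := by
        have hsub : (Finset.univ : Finset K) ⊆ (Polynomial.X ^ q + Polynomial.X : Polynomial K).roots.toFinset := by
          intro x _
          rw [Multiset.mem_toFinset, Polynomial.mem_roots]
          · simp [Polynomial.IsRoot, add_comm, hall x]
          · intro h0
            have := congrArg (fun p : Polynomial K => p.coeff 1) h0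
            have hq1 : 1 ≠ q := hq.one_lt.ne
            simp [Polynomial.coeff_X_pow, hq1] at this
        refine (Finset.card_le_card hsub).trans ((Multiset.toFinset_card_le _).trans
          ((Polynomial.card_roots' _).trans ?_))
        refine (Polynomial.natDegree_add_le _ _).trans ?_
        rw [Polynomial.natDegree_X_pow, Polynomial.natDegree_X]
        have := hq.one_lt
        omega
      rw [Finset.card_univ, hK] at hle
      have := hq.one_lt
      nlinarith
    refine ⟨c * θ / (θ + θ ^ q), ?_⟩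
    have hden : (θ + θ ^ q) ^ q = θ + θ ^ q := by rw [hadd, pow_q_q hK, add_comm]
    rw [div_pow, mul_pow, hc, hden, ← add_div, ← mul_add, mul_div_assoc, div_self hθ, mul_one]

theorem wevReal [CharP K 2] :
    Chev.WevReal (tw hq hK) 4 symE6.wEval := fun b hb => by
  let a : Fin S.m := ⟨b, hb⟩
  obtain ⟨n, hn, -, hm⟩ := (gen hq hK).exists_n a
  refine ⟨n, (gen hq hK).le_fix hn, S.w a, hm, fun r => (SymOK.wEval_eq symOKE6 (a := b) hb r).symm,
    fun r => S.w_comm a r⟩

theorem sylow_conj [CharP K 2] {g : GL Cfsg.Lie.chevE6.Idx K} (hg : g ∈ (tw hq hK).fix)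
    (h2 : g * g = 1) :
    ∃ x ∈ (tw hq hK).fix, x * g * x⁻¹ ∈ (Φ).US K (Φ).toTables.Pos := by
  haveI : Fact (Nat.Prime 2) := ⟨Nat.prime_two⟩
  obtain ⟨n, hn⟩ := two_pow (q := q) hK
  set G := (tw hq hK).fix
  set U := (Cfsg.Lie.chevE6.posUnipotent K ⊓ G).subgroupOf G
  have hcardU : Nat.card ↥U = q ^ 36 := by
    have := card_U hq hK
    rw [eq_fix hq hK] at this
    rw [← this]
    exact Nat.card_congr (Subgroup.subgroupOfEquivOfLe inf_le_right).toEquiv
  have hev : Even q := by
    have : n ≠ 0 := by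
      rintro rfl
      exact absurd (hn ▸ hq.one_lt) (by norm_num)
    rw [hn]; exact even_two.pow_of_ne_zero this
  have hidx : ¬ 2 ∣ U.index := by
    have hG := card_G hq hK
    rw [eq_fix hq hK, ← U.card_mul_index, hcardU] at hG
    intro hd
    have e : Nat.gcd 3 (q + 1) * U.index =
        (q ^ 2 - 1) * (q ^ 5 + 1) * (q ^ 6 - 1) * (q ^ 8 - 1) * (q ^ 9 + 1) * (q ^ 12 - 1) := by
      refine Nat.eq_of_mul_eq_mul_left (pow_pos hq.pos 36) ?_
      linarith
    have hsub : ∀ k, k ≠ 0 → Odd (q ^ k - 1) := fun k hk =>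
      Nat.Even.sub_odd (Nat.one_le_pow _ _ hq.pos) (hev.pow_of_ne_zero hk) odd_one
    have hadd : ∀ k, k ≠ 0 → Odd (q ^ k + 1) := fun k hk => (hev.pow_of_ne_zero hk).add_one
    have hodd := ((((((hsub 2 two_ne_zero).mul (hadd 5 (by norm_num))).mul (hsub 6 (by norm_num))).mul
      (hsub 8 (by norm_num))).mul (hadd 9 (by norm_num))).mul (hsub 12 (by norm_num))).not_two_dvd_nat
    exact hodd (e ▸ hd.mul_left _)
  have hP : IsPGroup 2 U := IsPGroup.of_card (n := n * 36) (by rw [hcardU, hn, ← pow_mul])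
  let P : Sylow 2 ↥G := hP.toSylow hidx
  let g' : ↥G := ⟨g, hg⟩
  have hz : IsPGroup 2 (Subgroup.zpowers g') := by
    have h1 : orderOf g' ∣ 2 ^ 1 := orderOf_dvd_of_pow_eq_one (Subtype.ext (by simpa [g', sq] using h2))
    obtain ⟨i, -, hi⟩ := (Nat.dvd_prime_pow Nat.prime_two).1 h1
    exact IsPGroup.of_card (n := i) (by rw [Nat.card_zpowers, hi])
  obtain ⟨Q, hQ⟩ := hz.exists_le_sylow
  obtain ⟨x, hx⟩ := MulAction.exists_smul_eq ↥G Q P
  refine ⟨x, x.2, ?_⟩
  have : x * g' * x⁻¹ ∈ (P : Subgroup ↥G) := by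
    rw [← hx, Sylow.smul_def, Sylow.pointwise_smul_def]
    exact ⟨g', hQ (Subgroup.mem_zpowers g'), rfl⟩
  rw [← (Φ).posUnipotent_eq_US]
  exact (Subgroup.mem_subgroupOf.mp this).1

include hq hK in
/-- ²E₆(q) has exactly three classes of involutions for q even. -/
theorem involution_count [CharP K 2] :
    (ConjClasses.mk '' {g : ↥(twistedE6 K q) | orderOf g = 2}).ncard = 3 := by
  rw [eq_fix hq hK]
  set L0 : List (Fin Cfsg.Lie.chevE6.nroots) := [⟨71, by decide⟩] with hL0
  set L1 : List (Fin Cfsg.Lie.chevE6.nroots) := [⟨65, by decide⟩, ⟨69, by decide⟩] with hL1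
  set L2 : List (Fin Cfsg.Lie.chevE6.nroots) := [⟨53, by decide⟩, ⟨65, by decide⟩, ⟨69, by decide⟩] with hL2
  have hrk : [L0, L1, L2].map (fun L => ((((Φ).el1 L : GL Cfsg.Lie.chevE6.Idx K) :
      Matrix Cfsg.Lie.chevE6.Idx Cfsg.Lie.chevE6.Idx K) - 1).rank) = [22, 32, 38] := by
    simp only [List.map_cons, List.map_nil]
    refine List.ext_getElem (by rfl) fun i h1 h2 => ?_
    match i, h1 with
    | 0, _ => exact (packE6.rank_el1 (F := K) (L := L0) rankTwE6_0).trans pivTwE6_0_length
    | 1, _ => exact (packE6.rank_el1 (F := K) (L := L1) rankTwE6_1).trans pivTwE6_1_length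
    | 2, _ => exact (packE6.rank_el1 (F := K) (L := L2) rankTwE6_2).trans pivTwE6_2_length
    | n + 3, h => exact absurd h (by simp)
  have hcode : ∀ r : Fin Cfsg.Lie.chevE6.nroots, (Φ).toTables.code r = packE6.code r.val :=
    fun r => packE6.code_toChev r
  refine (involution_twist_ncard (P := packE6) lacedE6 tabEq (involTwist hq hK) (wevReal hq hK) hcode
    (fun g hg h2 => sylow_conj hq hK hg h2) twDescE6 [L0, L1, L2] rfl (by simp [L0, L1, L2]) fixTwE6 _
    (fun L _ => rfl) (fun L hL h0 => ?_) ?_).trans rfl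
  · have : (0 : ℕ) ∈ ([22, 32, 38] : List ℕ) := hrk ▸ List.mem_map.2 ⟨L, hL, h0⟩
    exact absurd this (by decide)
  · exact (congrArg List.Nodup hrk).mpr (by decide)

end CfsgLib.Chev.T2E6
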