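/-
Fusion of involutions of ²F₄ and their two classes.
-/
import Cfsg.Agent.Lib.Chev.InvClass.TwDescentF4
import Cfsg.Agent.Lib.Chev.InvClass.DataF4Inv
import Cfsg.Agent.Lib.Chev.Twist.ParabolicF4
import Cfsg.Agent.Lib.Chev.Twist.TitsIndex

set_option autoImplicit false
set_option linter.dupNamespace false
set_option linter.unusedSectionVars false
set_option linter.unusedSimpArgs false
set_option maxRecDepth 100000
set_option maxHeartbeats 1000000

namespace CfsgLib.Chev.T2F4Inv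

open Cfsg.Lie Matrix Chev

local notation "Φ" => CfsgLib.Chev.chevF4

/-- The generator of the position is a pair of commuting root elements. -/
noncomputable def pairI (j : ℕ) : Bool :=
  Nat.blt j 12 && (genI j == [(lead j, 1, 0), (mate j, 0, morF4.l (lead j))]) &&
  Nat.blt (lead j) 48 && Nat.blt (mate j) 48 &&
  Nat.beq (morF4.ρ (lead j)) (mate j) && Nat.beq (morF4.ρ (mate j)) (lead j) &&
  Nat.beq (morF4.l (lead j) * morF4.l (mate j)) 2 && packF4.commB (lead j) (mate j) &&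
  !(Nat.beq (lead j) (mate j)) && Nat.ble 24 (lead j) && Nat.ble 24 (mate j)

/-- The word maps the generator of `i` to that of `j`. -/
noncomputable def imgB (bs : List ℕ) (i j : ℕ) : Bool :=
  pairI i && pairI j && bs.all (fun b => Nat.blt b 2) &&
  (([lead i, mate i].map (fun r => bs.foldr symF4.wEval r) == [lead j, mate j]) ||
    ([lead i, mate i].map (fun r => bs.foldr symF4.wEval r) == [mate j, lead j]))

theorem pairs_ok : [0, 3, 6, 7, 8, 9, 10, 11].all pairI = true := by decide +kernel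

theorem pairI_of {j : ℕ} (h : j ∈ [0, 3, 6, 7, 8, 9, 10, 11]) : pairI j = true :=
  List.all_eq_true.1 pairs_ok j h

variable {K : Type*} [Field K] [Fintype K] {m : ℕ} (hK : Fintype.card K = 2 ^ (2 * m + 1)) [CharP K 2]

local notation "T" => CfsgLib.Chev.T2F4.tw hK

include hK in
theorem pair_param {a b : Fin Cfsg.Lie.chevF4.nroots}
    (h : morF4.ρ a.val = b.val ∧ morF4.ρ b.val = a.val ∧ morF4.l a.val * morF4.l b.val = 2 ∧
      packF4.commB a.val b.val = true) (hab : a ≠ b) (hb : (Φ).toTables.Pos b) {A B : K}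
    (hf : (Φ).toAlg.xg a A * (Φ).toAlg.xg b B ∈ (T).fix) : B = A ^ (morF4.l a.val * 2 ^ m) := by
  set D := -(A ^ (morF4.l a.val * 2 ^ m)) + B with hD
  have h1 := mul_mem (inv_mem (pair_fix hK h A)) hf
  rw [_root_.mul_inv_rev, mul_assoc, inv_mul_cancel_left, ← Alg.xg_neg, ← Alg.xg_add, ← hD] at h1
  have h2 := h1.2
  rw [app_x hK b h.2.1] at h2
  by_contra hne
  have hD0 : D ≠ 0 := fun e => hne (by rw [hD, neg_add_eq_zero] at e; exact e.symm)
  have hcl : (Φ).Closed (fun y => y = b) := by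
    intro x y hx hy hN
    rw [hx, hy] at hN
    exact absurd ((Φ).toSys.N_self _) hN
  exact hab ((Φ).mem_of_xg_mem (U := fun y => y = b) (fun y hy => hy ▸ hb) hcl
    (by rw [h2]; exact (Φ).xg_mem_US (S := fun y => y = b) rfl D) (pow_ne_zero _ hD0))

theorem pairI_spec {j : ℕ} (h : pairI j = true) :
    j < 12 ∧ (morF4.ρ (fn (lead j)).val = (fn (mate j)).val ∧ morF4.ρ (fn (mate j)).val = (fn (lead j)).val ∧
      morF4.l (fn (lead j)).val * morF4.l (fn (mate j)).val = 2 ∧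
      packF4.commB (fn (lead j)).val (fn (mate j)).val = true) ∧
    fn (lead j) ≠ fn (mate j) ∧ (Φ).toTables.Pos (fn (mate j)) ∧
    ((fn (lead j)).val = lead j ∧ (fn (mate j)).val = mate j) ∧
    genI j = [(lead j, 1, 0), (mate j, 0, morF4.l (lead j))] := by
  simp only [pairI, Bool.and_eq_true, Nat.blt_eq, beq_iff_eq, Nat.beq_eq, Bool.not_eq_true', Nat.ble_eq] at h
  obtain ⟨⟨⟨⟨⟨⟨⟨⟨⟨⟨h1, h2⟩, h3⟩, h4⟩, h5⟩, h6⟩, h7⟩, h8⟩, h9⟩, -⟩, h11⟩ := h
  have e1 : (fn (lead j)).val = lead j := Nat.mod_eq_of_lt h3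
  have e2 : (fn (mate j)).val = mate j := Nat.mod_eq_of_lt h4
  refine ⟨h1, by rw [e1, e2]; exact ⟨h5, h6, h7, h8⟩, fun e => ?_, ?_, ⟨e1, e2⟩, h2⟩
  · have := congrArg Fin.val e
    rw [e1, e2] at this
    rw [this, Nat.beq_refl] at h9
    exact Bool.noConfusion h9
  · show 48 ≤ 2 * (fn (mate j)).val
    omega

omit [Fintype K] in
theorem el_gv_pair {j : ℕ} (h : pairI j = true) (c : K) :
    (Φ).el (gv m j c) = (Φ).toAlg.xg (fn (lead j)) c *
      (Φ).toAlg.xg (fn (mate j)) (c ^ (morF4.l (fn (lead j)).val * 2 ^ m)) := by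
  obtain ⟨-, -, -, -, ⟨e1, -⟩, hg⟩ := pairI_spec h
  rw [gv, hg, e1]
  simp [Chev.el, expo]

include hK in
theorem fixed_pair {j : ℕ} (h : pairI j = true) {A B : K}
    (hf : (Φ).toAlg.xg (fn (lead j)) A * (Φ).toAlg.xg (fn (mate j)) B ∈ (T).fix) :
    (Φ).toAlg.xg (fn (lead j)) A * (Φ).toAlg.xg (fn (mate j)) B = (Φ).el (gv m j A) := by
  obtain ⟨-, h2, h3, h4, -, -⟩ := pairI_spec h
  rw [el_gv_pair h, pair_param hK h2 h3 h4 hf]

include hK in
theorem word_real : ∀ {bs : List ℕ}, bs.all (fun b => Nat.blt b 2) = true →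
    ∃ n ∈ (T).fix, ∃ π : Equiv.Perm (Fin Cfsg.Lie.chevF4.nroots), (Φ).Mono n π ∧
      ∀ r, (π r).val = bs.foldr symF4.wEval r.val
  | [], _ => ⟨1, one_mem _, 1, Mono.one _, fun _ => rfl⟩
  | b :: bs, h => by
    simp only [List.all_cons, Bool.and_eq_true, Nat.blt_eq] at h
    let a : Fin (T2F4.S).m := ⟨b, h.1⟩
    obtain ⟨n, hn, -, hm⟩ := (T2F4.gen hK).exists_n a
    obtain ⟨n', hn', π', hm', hv'⟩ := word_real h.2
    refine ⟨n * n', mul_mem ((T2F4.gen hK).le_fix hn) hn', (T2F4.S).w a * π', Mono.mul _ hm hm', fun r => ?_⟩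
    show ((T2F4.S).w a (π' r)).val = symF4.wEval b (bs.foldr symF4.wEval r.val)
    rw [← hv']
    exact (SymOK.wEval_eq symOKF4 (a := b) h.1 (π' r)).symm

include hK in
theorem move {bs : List ℕ} (hbs : bs.all (fun b => Nat.blt b 2) = true) :
    ∃ n ∈ (T).fix, ∀ i j, imgB bs i j = true → ∀ c : K, c ≠ 0 →
      ∃ A : K, A ≠ 0 ∧ n * (Φ).el (gv m i c) * n⁻¹ = (Φ).el (gv m j A) := by
  obtain ⟨n, hn, π, hm, hv⟩ := word_real hK hbs
  choose e he hxe _ using hm.1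
  refine ⟨n, hn, fun i j h c hc => ?_⟩
  simp only [imgB, Bool.and_eq_true, Bool.or_eq_true, beq_iff_eq, List.map_cons, List.map_nil,
    List.cons.injEq, and_true] at h
  obtain ⟨⟨⟨hi, hj⟩, -⟩, hcase⟩ := h
  obtain ⟨hi1, hi2, -, -, ⟨ei1, ei2⟩, -⟩ := pairI_spec hi
  obtain ⟨-, hj2, -, -, ⟨ej1, ej2⟩, -⟩ := pairI_spec hj
  set p := morF4.l (fn (lead i)).val * 2 ^ m
  have hconj : n * (Φ).el (gv m i c) * n⁻¹ = (Φ).toAlg.xg (π (fn (lead i))) (e (fn (lead i)) * c) *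
      (Φ).toAlg.xg (π (fn (mate i))) (e (fn (mate i)) * c ^ p) := by
    rw [el_gv_pair hi, ← hxe, ← hxe]
    simp only [p, mul_assoc, inv_mul_cancel_left]
  have hmem : n * (Φ).el (gv m i c) * n⁻¹ ∈ (T).fix := mul_mem (mul_mem hn (gv_fix hK hi1 c)) (inv_mem hn)
  rw [hconj] at hmem
  rcases hcase with ⟨h1, h2⟩ | ⟨h1, h2⟩
  · have p1 : π (fn (lead i)) = fn (lead j) := Fin.ext (by rw [hv, ei1, h1, ej1])
    have p2 : π (fn (mate i)) = fn (mate j) := Fin.ext (by rw [hv, ei2, h2, ej2])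
    rw [p1, p2] at hmem hconj
    exact ⟨_, mul_ne_zero (he _) hc, hconj.trans (fixed_pair hK hj hmem)⟩
  · have p1 : π (fn (lead i)) = fn (mate j) := Fin.ext (by rw [hv, ei1, h1, ej2])
    have p2 : π (fn (mate i)) = fn (lead j) := Fin.ext (by rw [hv, ei2, h2, ej1])
    rw [p1, p2] at hmem hconj
    have hcm : ∀ u v : K, Commute ((Φ).toAlg.xg (fn (lead j)) u) ((Φ).toAlg.xg (fn (mate j)) v) :=
      fun u v => packF4.commute_commB hj2.2.2.2 u v
    rw [← (hcm _ _).eq] at hmem hconj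
    exact ⟨_, mul_ne_zero (he _) (pow_ne_zero _ hc), hconj.trans (fixed_pair hK hj hmem)⟩

/-! Tori. -/

/-- The hypotheses on the roots of a torus element. -/
def TorOK (a b : Fin Cfsg.Lie.chevF4.nroots) : Prop :=
  morF4.ρ a.val = b.val ∧ morF4.ρ b.val = a.val ∧ morF4.ρ a.rev.val = b.rev.val ∧
  morF4.ρ b.rev.val = a.rev.val ∧ morF4.l a.rev.val = morF4.l a.val ∧ morF4.l b.rev.val = morF4.l b.val ∧
  morF4.l a.val * morF4.l b.val = 2

include hK in
theorem app_nw' {a b : Fin Cfsg.Lie.chevF4.nroots} (h1 : morF4.ρ a.val = b.val)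
    (h2 : morF4.ρ a.rev.val = b.rev.val) (h3 : morF4.l a.rev.val = morF4.l a.val) (t : Kˣ) :
    (T).app ((Φ).nw a t) = (Φ).nw b (t ^ (morF4.l a.val * 2 ^ m)) := by
  have g := fun r (x : K) => (Φ).toAlg.xg_mem_group r x
  simp only [Chev.nw]
  rw [Tw.app_mul _ (mul_mem (g _ _) (g _ _)) (g _ _), Tw.app_mul _ (g _ _) (g _ _), app_x hK a h1,
    app_x hK a.rev h2, h3]
  simp only [Units.val_pow_eq_pow_val, CharTwo.neg_eq, inv_pow]

include hK in
theorem app_hw' {a b : Fin Cfsg.Lie.chevF4.nroots} (h1 : morF4.ρ a.val = b.val)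
    (h2 : morF4.ρ a.rev.val = b.rev.val) (h3 : morF4.l a.rev.val = morF4.l a.val) (t : Kˣ) :
    (T).app ((Φ).hw a t) = (Φ).hw b (t ^ (morF4.l a.val * 2 ^ m)) := by
  have e : (-1 : Kˣ) ^ (morF4.l a.val * 2 ^ m) = -1 := Units.ext (by simp [CharTwo.neg_eq])
  rw [Chev.hw, Tw.app_mul _ ((Φ).nw_mem_group _ _) ((Φ).nw_mem_group _ _), app_nw' hK h1 h2 h3,
    app_nw' hK h1 h2 h3, e, Chev.hw]

include hK in
theorem tor_fix {a b : Fin Cfsg.Lie.chevF4.nroots} (h : TorOK a b) (u : Kˣ) :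
    (Φ).hw a u * (Φ).hw b (u ^ (morF4.l a.val * 2 ^ m)) ∈ (T).fix := by
  obtain ⟨h1, h2, h3, h4, h5, h6, h7⟩ := h
  have hm : ∀ r (v : Kˣ), (Φ).hw r v ∈ Cfsg.Lie.chevF4.group K := fun r v =>
    mul_mem ((Φ).nw_mem_group _ _) ((Φ).nw_mem_group _ _)
  have e : (u ^ (morF4.l a.val * 2 ^ m)) ^ (morF4.l b.val * 2 ^ m) = u := Units.ext (by
    rw [Units.val_pow_eq_pow_val, Units.val_pow_eq_pow_val, pow_back hK h7])
  refine ⟨mul_mem (hm _ _) (hm _ _), ?_⟩
  rw [Tw.app_mul _ (hm _ _) (hm _ _), app_hw' hK h1 h3 h5, app_hw' hK h2 h4 h6, e, (Φ).hw_eq, (Φ).hw_eq,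
    ← map_mul, mul_comm, map_mul]

/-- The scaling of a root by a torus element. -/
def chiT (m : ℕ) (l : ℕ) (pa pb : ℤ) (u : Kˣ) : K := ((u ^ pa * (u ^ (l * 2 ^ m)) ^ pb : Kˣ) : K)

include hK in
theorem tor_conj {a b : Fin Cfsg.Lie.chevF4.nroots} (u : Kˣ) {j : ℕ} (hj : pairI j = true) {pa pb : ℤ}
    (ha : packF4.prP a.val (lead j) = pa) (hb : packF4.prP b.val (lead j) = pb)
    (hT : TorOK a b) (c : K) :
    (Φ).hw a u * (Φ).hw b (u ^ (morF4.l a.val * 2 ^ m)) * (Φ).el (gv m j c) *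
        ((Φ).hw a u * (Φ).hw b (u ^ (morF4.l a.val * 2 ^ m)))⁻¹ =
      (Φ).el (gv m j (chiT m (morF4.l a.val) pa pb u * c)) := by
  obtain ⟨hj1, -, -, -, ⟨e1, -⟩, -⟩ := pairI_spec hj
  set h := (Φ).hw a u * (Φ).hw b (u ^ (morF4.l a.val * 2 ^ m))
  have hh : h ∈ (T).fix := tor_fix hK hT u
  have hsum : ∀ r : Fin Cfsg.Lie.chevF4.nroots, (∑ k, (Φ).C r k * (Φ).A k (fn (lead j))) =
      packF4.prP r.val (lead j) := fun r => (packF4.pair_prP r (fn (lead j))).trans (by rw [e1])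
  have hstep : ∀ (r : Fin Cfsg.Lie.chevF4.nroots) (v : Kˣ) (t : K),
      (Φ).hw r v * (Φ).toAlg.xg (fn (lead j)) t * ((Φ).hw r v)⁻¹ =
        (Φ).toAlg.xg (fn (lead j)) (((v ^ packF4.prP r.val (lead j) : Kˣ) : K) * t) := fun r v t => by
    rw [(Φ).hw_eq, (Φ).toAlg.torus_xg, (Φ).chi_coChar, hsum, mul_inv_cancel_right]
  have hscale : h * (Φ).toAlg.xg (fn (lead j)) c * h⁻¹ =
      (Φ).toAlg.xg (fn (lead j)) (chiT m (morF4.l a.val) pa pb u * c) := by
    rw [show h * (Φ).toAlg.xg (fn (lead j)) c * h⁻¹ = (Φ).hw a u * ((Φ).hw b (u ^ (morF4.l a.val * 2 ^ m)) *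
      (Φ).toAlg.xg (fn (lead j)) c * ((Φ).hw b (u ^ (morF4.l a.val * 2 ^ m)))⁻¹) * ((Φ).hw a u)⁻¹ by
      simp only [h, _root_.mul_inv_rev, mul_assoc],
      hstep, hstep, ha, hb, chiT, Units.val_mul, mul_assoc]
  obtain ⟨v, hv⟩ : ∃ v : K, h * (Φ).toAlg.xg (fn (mate j)) (c ^ (morF4.l (fn (lead j)).val * 2 ^ m)) * h⁻¹ =
      (Φ).toAlg.xg (fn (mate j)) v := by
    refine ⟨((( u ^ (∑ k, (Φ).C a k * (Φ).A k (fn (mate j))) : Kˣ)) : K) *
      ((((u ^ (morF4.l a.val * 2 ^ m)) ^ (∑ k, (Φ).C b k * (Φ).A k (fn (mate j))) : Kˣ) : K) *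
        c ^ (morF4.l (fn (lead j)).val * 2 ^ m)), ?_⟩
    simp only [h, _root_.mul_inv_rev, (Φ).hw_eq]
    rw [mul_assoc ((Φ).toAlg.torus _), (Φ).toAlg.torus_xg, (Φ).chi_coChar, ← mul_assoc ((Φ).toAlg.torus _),
      ← mul_assoc, mul_inv_cancel_right, (Φ).toAlg.torus_xg, (Φ).chi_coChar, mul_inv_cancel_right]
  have hmem : h * (Φ).el (gv m j c) * h⁻¹ ∈ (T).fix := mul_mem (mul_mem hh (gv_fix hK hj1 c)) (inv_mem hh)
  have heq : h * (Φ).el (gv m j c) * h⁻¹ =
      (Φ).toAlg.xg (fn (lead j)) (chiT m (morF4.l a.val) pa pb u * c) * (Φ).toAlg.xg (fn (mate j)) v := by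
    rw [el_gv_pair hj, ← hscale, ← hv]; group
  rw [heq] at hmem
  exact heq.trans (fixed_pair hK hj hmem)

omit [Fintype K] in
theorem flv_single (m i : ℕ) (c : K) : flv m [(i, c)] = gv m i c := by simp [flv]

include hK in
/-- A single orbit with parameter one. -/
theorem single_one {j : ℕ} (hj : pairI j = true) (a b : Fin Cfsg.Lie.chevF4.nroots) (hT : TorOK a b)
    (ha : packF4.prP a.val (lead j) = -1) (hb : packF4.prP b.val (lead j) = 0) {c : K} (hc : c ≠ 0) :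
    ∃ x ∈ (T).fix, x * (Φ).el (gv m j c) * x⁻¹ = (Φ).el (gv m j 1) := by
  refine ⟨_, tor_fix hK hT (Units.mk0 c hc), ?_⟩
  rw [tor_conj hK _ hj ha hb hT]
  congr 2
  simp [chiT, hc]

include hK in
theorem units_root (i : ℕ) (x : Kˣ) : ∃ u : Kˣ, u ^ (2 ^ i) = x := by
  obtain ⟨l, hl⟩ := exists_root hK i (x : K)
  have hl0 : l ≠ 0 := by
    intro e
    rw [e, zero_pow (by positivity)] at hl
    exact x.ne_zero hl.symm
  exact ⟨Units.mk0 l hl0, Units.ext (by rw [Units.val_pow_eq_pow_val, Units.val_mk0, hl])⟩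

include hK in
theorem pair_param_surj (c d : Kˣ) : ∃ u v : Kˣ, u ^ 2 ^ m * v ^ (2 ^ m + 1) = c ∧
    u ^ (2 ^ m + 1) * v ^ 2 ^ m = d := by
  let f : Kˣ × Kˣ →* Kˣ × Kˣ :=
    { toFun := fun p => (p.1 ^ 2 ^ m * p.2 ^ (2 ^ m + 1), p.1 ^ (2 ^ m + 1) * p.2 ^ 2 ^ m)
      map_one' := by simp
      map_mul' := fun p q => by simp only [Prod.fst_mul, Prod.snd_mul, mul_pow, Prod.mk_mul_mk]; ext1 <;> ac_rfl }
  have hf : Function.Injective f := by
    refine (injective_iff_map_eq_one f).2 ?_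
    rintro ⟨u, v⟩ h
    obtain ⟨h1, h2⟩ : u ^ 2 ^ m * v ^ (2 ^ m + 1) = 1 ∧ u ^ (2 ^ m + 1) * v ^ 2 ^ m = 1 := Prod.mk.inj h
    obtain rfl : u = v := by
      have e : u ^ (2 ^ m + 1) * v ^ 2 ^ m = u ^ 2 ^ m * v ^ (2 ^ m + 1) := h2.trans h1.symm
      rw [pow_succ, pow_succ, mul_right_comm, ← mul_assoc] at e
      exact mul_left_cancel e
    have h3 : u ^ (2 * 2 ^ m) = u⁻¹ := by
      refine eq_inv_of_mul_eq_one_left ?_
      rw [← h1, ← pow_succ, ← pow_add]; ring_nf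
    have h4 : u = (u⁻¹) ^ 2 ^ m := by rw [← h3]; exact (T2F4.units_pow_q hK u).2.symm
    have h5 : u ^ 2 ^ m = u⁻¹ := by
      conv_rhs => rw [h4]
      simp
    have h6 : u⁻¹ = u⁻¹ * u⁻¹ := by
      conv_lhs => rw [← h3, two_mul, pow_add, h5]
    have h7 : u = 1 := inv_eq_one.1 (mul_eq_left.1 h6.symm)
    simp [h7]
  obtain ⟨⟨u, v⟩, h⟩ := (Finite.injective_iff_surjective.1 hf) (c, d)
  exact ⟨u, v, (Prod.mk.inj h).1, (Prod.mk.inj h).2⟩

include hK in
theorem norm_7_10 {c d : K} (hc : c ≠ 0) (hd : d ≠ 0) :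
    ∃ x ∈ (T).fix, x * ((Φ).el (gv m 7 c) * (Φ).el (gv m 10 d)) * x⁻¹ =
      (Φ).el (gv m 7 1) * (Φ).el (gv m 10 1) := by
  obtain ⟨u, v, h1, h2⟩ := pair_param_surj hK (Units.mk0 c hc) (Units.mk0 d hd)
  have t1 : TorOK (fn 2) (fn 8) := by simp only [TorOK]; decide +kernel
  have t2 : TorOK (fn 4) (fn 9) := by simp only [TorOK]; decide +kernel
  refine ⟨_, mul_mem (tor_fix hK t1 u) (tor_fix hK t2 v), ?_⟩
  set A := (Φ).hw (fn 2) u * (Φ).hw (fn 8) (u ^ (morF4.l (fn 2).val * 2 ^ m))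
  set B := (Φ).hw (fn 4) v * (Φ).hw (fn 9) (v ^ (morF4.l (fn 4).val * 2 ^ m))
  rw [show A * B * ((Φ).el (gv m 7 c) * (Φ).el (gv m 10 d)) * (A * B)⁻¹ =
    (A * (B * (Φ).el (gv m 7 c) * B⁻¹) * A⁻¹) * (A * (B * (Φ).el (gv m 10 d) * B⁻¹) * A⁻¹) by group,
    tor_conj hK v (pairI_of (j := 7) (by simp)) (pa := -1) (pb := -1) (by decide +kernel) (by decide +kernel) t2,
    tor_conj hK v (pairI_of (j := 10) (by simp)) (pa := 0) (pb := -1) (by decide +kernel) (by decide +kernel) t2,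
    tor_conj hK u (pairI_of (j := 7) (by simp)) (pa := 0) (pb := -1) (by decide +kernel) (by decide +kernel) t1,
    tor_conj hK u (pairI_of (j := 10) (by simp)) (pa := -1) (pb := -1) (by decide +kernel) (by decide +kernel) t1]
  have l2 : morF4.l (fn 2).val = 1 := by decide +kernel
  have l4 : morF4.l (fn 4).val = 1 := by decide +kernel
  have e1 : (Units.mk0 c hc : K) = c := rfl
  have e2 : (Units.mk0 d hd : K) = d := rfl
  congr 3
  · rw [← e1, ← h1, l2, l4]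
    simp only [chiT, one_mul, _root_.zpow_neg_one, zpow_zero, ← Units.val_mul, Units.val_eq_one]
    rw [← mul_assoc, ← _root_.mul_inv, ← _root_.mul_inv, inv_mul_eq_one, pow_succ]
    ac_rfl
  · rw [← e2, ← h2, l2, l4]
    simp only [chiT, one_mul, _root_.zpow_neg_one, zpow_zero, ← Units.val_mul, Units.val_eq_one]
    rw [← mul_assoc, ← _root_.mul_inv, ← _root_.mul_inv, inv_mul_eq_one, pow_succ]
    ac_rfl

include hK in
theorem norm_0_9 {c d : K} (hc : c ≠ 0) (hd : d ≠ 0) :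
    ∃ x ∈ (T).fix, x * ((Φ).el (gv m 0 c) * (Φ).el (gv m 9 d)) * x⁻¹ =
      (Φ).el (gv m 0 1) * (Φ).el (gv m 9 1) := by
  obtain ⟨v, hv⟩ := units_root hK (m + 1) (Units.mk0 c hc)
  obtain ⟨u, hu⟩ := units_root hK (m + 1) (Units.mk0 d hd * v⁻¹)
  have t1 : TorOK (fn 2) (fn 8) := by simp only [TorOK]; decide +kernel
  have t2 : TorOK (fn 4) (fn 9) := by simp only [TorOK]; decide +kernel
  refine ⟨_, mul_mem (tor_fix hK t1 u) (tor_fix hK t2 v), ?_⟩
  set A := (Φ).hw (fn 2) u * (Φ).hw (fn 8) (u ^ (morF4.l (fn 2).val * 2 ^ m))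
  set B := (Φ).hw (fn 4) v * (Φ).hw (fn 9) (v ^ (morF4.l (fn 4).val * 2 ^ m))
  rw [show A * B * ((Φ).el (gv m 0 c) * (Φ).el (gv m 9 d)) * (A * B)⁻¹ =
    (A * (B * (Φ).el (gv m 0 c) * B⁻¹) * A⁻¹) * (A * (B * (Φ).el (gv m 9 d) * B⁻¹) * A⁻¹) by group,
    tor_conj hK v (pairI_of (j := 0) (by simp)) (pa := 0) (pb := -2) (by decide +kernel) (by decide +kernel) t2,
    tor_conj hK v (pairI_of (j := 9) (by simp)) (pa := -1) (pb := 0) (by decide +kernel) (by decide +kernel) t2,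
    tor_conj hK u (pairI_of (j := 0) (by simp)) (pa := 0) (pb := 0) (by decide +kernel) (by decide +kernel) t1,
    tor_conj hK u (pairI_of (j := 9) (by simp)) (pa := 0) (pb := -2) (by decide +kernel) (by decide +kernel) t1]
  have l2 : morF4.l (fn 2).val = 1 := by decide +kernel
  have l4 : morF4.l (fn 4).val = 1 := by decide +kernel
  have e1 : (Units.mk0 c hc : K) = c := rfl
  have e2 : (Units.mk0 d hd : K) = d := rfl
  have hz : ∀ w : Kˣ, (w ^ 2 ^ m) ^ (-2 : ℤ) = (w ^ 2 ^ (m + 1))⁻¹ := fun w => by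
    rw [_root_.zpow_neg, show (2 : ℤ) = ((2 : ℕ) : ℤ) from rfl, zpow_natCast, ← pow_mul, pow_succ]
  congr 3
  · rw [← e1, l2, l4, ← hv]
    simp only [chiT, hz, zpow_zero, one_mul, mul_one, ← Units.val_mul, Units.val_eq_one, inv_mul_cancel]
  · rw [← e2, l2, l4, show Units.mk0 d hd = u ^ 2 ^ (m + 1) * v by rw [hu, inv_mul_cancel_right]]
    simp only [chiT, hz, zpow_zero, _root_.zpow_neg_one, one_mul, mul_one, ← Units.val_mul, Units.val_eq_one]
    rw [← mul_assoc, ← _root_.mul_inv, inv_mul_eq_one]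

/-! Two identities over the prime field. -/

/-- The word with parameters one. -/
def ones (R : List ℕ) : List (Fin Cfsg.Lie.chevF4.nroots × ℤ) := R.map fun r => (fn r, 1)

omit [Fintype K] in
theorem el_gv_one (i : ℕ) : (Φ).el (gv m i (1 : K)) = (Φ).wordG K (ones ((genI i).map Prod.fst)) := by
  simp [Chev.el, Chev.wordG, ones, gv, List.map_map, Function.comp_def]

include hK in
theorem neg_tri_fix : (Φ).wordG K (ones [20, 22, 19]) ∈ (T).fix := by
  have := tri_fix hK (ra := fn 20) (rb := fn 22) (rc := fn 19) (rd := fn 17) (by decide +kernel)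
    (by decide +kernel) 1
  simpa [Chev.el, Chev.wordG, ones] using this

theorem ident7 : packF4.eqMod 2 ((ones [20, 22, 19, 27, 25, 28, 24, 33, 36, 42, 40, 46]).map fun a => (a.1.val, a.2))
    ((ones [39, 45, 20, 22, 19, 27, 25, 28, 24, 33]).map fun a => (a.1.val, a.2)) = true := by
  decide +kernel

theorem ident0 : packF4.eqMod 2 ((ones [32, 37, 20, 22, 19, 34, 26, 36, 24, 33, 39, 45]).map fun a => (a.1.val, a.2))
    ((ones [24, 33, 32, 37, 20, 22, 19, 34, 26, 36]).map fun a => (a.1.val, a.2)) = true := by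
  decide +kernel

include hK in
theorem fuse_7_10 : ∃ x ∈ (T).fix, x * ((Φ).el (gv m 7 (1 : K)) * (Φ).el (gv m 10 1)) * x⁻¹ =
    (Φ).el (gv m 9 1) := by
  refine ⟨(Φ).wordG K (ones [20, 22, 19]) * (Φ).el (gv m 1 1) * (Φ).el (gv m 0 1),
    mul_mem (mul_mem (neg_tri_fix hK) (gv_fix hK (by norm_num) 1)) (gv_fix hK (by norm_num) 1), ?_⟩
  rw [mul_inv_eq_iff_eq_mul]
  simp only [el_gv_one, ← wordG_append]
  exact (Φ).wordG_eq_of_eqMod (P := packF4) (hd := datumOKF4) (ht := tabOKF4) (hr := rootsOKF4) rfl 2 _ _ ident7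

include hK in
theorem fuse_0_9 : ∃ x ∈ (T).fix, x * ((Φ).el (gv m 0 (1 : K)) * (Φ).el (gv m 9 1)) * x⁻¹ =
    (Φ).el (gv m 0 1) := by
  refine ⟨(Φ).el (gv m 6 1) * (Φ).wordG K (ones [20, 22, 19]) * (Φ).el (gv m 2 1),
    mul_mem (mul_mem (gv_fix hK (by norm_num) 1) (neg_tri_fix hK)) (gv_fix hK (by norm_num) 1), ?_⟩
  rw [mul_inv_eq_iff_eq_mul]
  simp only [el_gv_one, ← wordG_append]
  exact (Φ).wordG_eq_of_eqMod (P := packF4) (hd := datumOKF4) (ht := tabOKF4) (hr := rootsOKF4) rfl 2 _ _ ident0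

/-- The element goes to a representative. -/
def Red (hK : Fintype.card K = 2 ^ (2 * m + 1)) (g : GL Cfsg.Lie.chevF4.Idx K) : Prop :=
  ∃ i ∈ [11, 9], ∃ x ∈ (CfsgLib.Chev.T2F4.tw hK).fix, x * g * x⁻¹ = (Φ).el (gv m i 1)

include hK in
theorem red_conj {g g' : GL Cfsg.Lie.chevF4.Idx K} (h : ∃ y ∈ (T).fix, y * g * y⁻¹ = g') (h' : Red hK g') :
    Red hK g := by
  obtain ⟨y, hy, rfl⟩ := h
  obtain ⟨i, hi, x, hx, e⟩ := h'
  exact ⟨i, hi, x * y, mul_mem hx hy, by rw [← e]; group⟩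

include hK in
theorem red_word {i j : ℕ} (bs : List ℕ) (hbs : bs.all (fun b => Nat.blt b 2) = true)
    (h : imgB bs i j = true) {c : K} (hc : c ≠ 0) (hj : ∀ A : K, A ≠ 0 → Red hK ((Φ).el (gv m j A))) :
    Red hK ((Φ).el (gv m i c)) := by
  obtain ⟨n, hn, hmv⟩ := move hK (m := m) hbs
  obtain ⟨A, hA, e⟩ := hmv i j h c hc
  exact red_conj hK ⟨n, hn, e⟩ (hj A hA)

include hK in
theorem red11 {c : K} (hc : c ≠ 0) : Red hK ((Φ).el (gv m 11 c)) :=
  ⟨11, by simp, single_one hK (pairI_of (by simp)) (fn 10) (fn 15) (by simp only [TorOK]; decide +kernel)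
    (by decide +kernel) (by decide +kernel) hc⟩

include hK in
theorem red9 {c : K} (hc : c ≠ 0) : Red hK ((Φ).el (gv m 9 c)) :=
  ⟨9, by simp, single_one hK (pairI_of (by simp)) (fn 4) (fn 9) (by simp only [TorOK]; decide +kernel)
    (by decide +kernel) (by decide +kernel) hc⟩

include hK in
theorem red0 {c : K} (hc : c ≠ 0) : Red hK ((Φ).el (gv m 0 c)) :=
  red_word hK [1, 0, 1] (by decide) (j := 9) (by decide +kernel) hc fun _ hA => red9 hK hA

include hK in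
theorem red_7_10 {c d : K} (hc : c ≠ 0) (hd : d ≠ 0) :
    Red hK ((Φ).el (gv m 7 c) * (Φ).el (gv m 10 d)) :=
  red_conj hK (norm_7_10 hK hc hd) (red_conj hK (fuse_7_10 hK) (red9 hK one_ne_zero))

include hK in
theorem red_leaf : ∀ {L : List (ℕ × K)}, L.map Prod.fst ∈ leaves → (∀ p ∈ L, p.2 ≠ 0) → L ≠ [] →
    Red hK ((Φ).el (flv m L)) := by
  intro L hL hnz hne
  have hflat : ∀ (i j : ℕ) (c d : K),
      (Φ).el (flv m [(i, c), (j, d)]) = (Φ).el (gv m i c) * (Φ).el (gv m j d) := fun i j c d => by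
    rw [← Chev.el_append]; simp [flv]
  simp only [leaves, List.mem_cons, List.not_mem_nil, or_false, List.map_eq_nil_iff] at hL
  rcases hL with hL | hL | hL | hL | hL | hL | hL | hL | hL | hL | hL | hL
  · exact absurd hL hne
  all_goals obtain ⟨⟨i, c⟩, L1, rfl, hi, hL1⟩ := List.map_eq_cons_iff.1 hL
  all_goals obtain rfl : i = _ := hi
  all_goals have hc : c ≠ 0 := hnz (_, c) List.mem_cons_self
  · rw [List.map_eq_nil_iff.1 hL1, flv_single]; exact red11 hK hc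
  · rw [List.map_eq_nil_iff.1 hL1, flv_single]
    exact red_word hK [0] (by decide) (j := 11) (by decide +kernel) hc fun _ hA => red11 hK hA
  · rw [List.map_eq_nil_iff.1 hL1, flv_single]; exact red9 hK hc
  · rw [List.map_eq_nil_iff.1 hL1, flv_single]
    exact red_word hK [1] (by decide) (j := 9) (by decide +kernel) hc fun _ hA => red9 hK hA
  · rw [List.map_eq_nil_iff.1 hL1, flv_single]
    exact red_word hK [0, 1] (by decide) (j := 11) (by decide +kernel) hc fun _ hA => red11 hK hA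
  · obtain ⟨⟨j, d⟩, L2, rfl, hj, hL2⟩ := List.map_eq_cons_iff.1 hL1
    obtain rfl : j = 10 := hj
    rw [List.map_eq_nil_iff.1 hL2, hflat]
    exact red_7_10 hK hc (hnz (10, d) (by simp))
  · rw [List.map_eq_nil_iff.1 hL1, flv_single]
    exact red_word hK [1, 0] (by decide) (j := 9) (by decide +kernel) hc fun _ hA => red9 hK hA
  · rw [List.map_eq_nil_iff.1 hL1, flv_single]
    exact red_word hK [0, 1, 0] (by decide) (j := 11) (by decide +kernel) hc fun _ hA => red11 hK hA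
  · obtain ⟨⟨j, d⟩, L2, rfl, hj, hL2⟩ := List.map_eq_cons_iff.1 hL1
    obtain rfl : j = 11 := hj
    rw [List.map_eq_nil_iff.1 hL2, hflat]
    obtain ⟨n, hn, hmv⟩ := move hK (m := m) (bs := [0]) (by decide)
    obtain ⟨A, hA, eA⟩ := hmv 3 7 (by decide +kernel) c hc
    obtain ⟨B, hB, eB⟩ := hmv 11 10 (by decide +kernel) d (hnz (11, d) (by simp))
    exact red_conj hK ⟨n, hn, by rw [← eA, ← eB]; group⟩ (red_7_10 hK hA hB)
  · rw [List.map_eq_nil_iff.1 hL1, flv_single]; exact red0 hK hc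
  · obtain ⟨⟨j, d⟩, L2, rfl, hj, hL2⟩ := List.map_eq_cons_iff.1 hL1
    obtain rfl : j = 9 := hj
    rw [List.map_eq_nil_iff.1 hL2, hflat]
    exact red_conj hK (norm_0_9 hK hc (hnz (9, d) (by simp)))
      (red_conj hK (fuse_0_9 hK) (red0 hK one_ne_zero))

include hK in
/-- Every involution of the fixed group is conjugate there to a representative. -/
theorem red_involution {g : GL Cfsg.Lie.chevF4.Idx K} (hg : g ∈ (T).fix) (h2 : g * g = 1) (h1 : g ≠ 1) :
    Red hK g := by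
  have hgG : g ∈ twistedF4 K (2 ^ m) := by rw [T2F4.eq_fix hK]; exact hg
  have hp : IsPGroup 2 ↥(Subgroup.zpowers g) := by
    haveI : Fact (Nat.Prime 2) := ⟨Nat.prime_two⟩
    exact IsPGroup.of_card (n := 1) (by
      rw [Nat.card_zpowers, pow_one, orderOf_eq_prime (by rw [sq, h2]) h1])
  obtain ⟨y, hy, hyU⟩ := T2F4.exists_conj_le_U hK ((Subgroup.zpowers_le).2 hgG) hp
  rw [T2F4.eq_fix hK] at hy
  have hU : y⁻¹ * g * y ∈ (Φ).US K (Φ).toTables.Pos := by
    rw [← (Φ).posUnipotent_eq_US]; exact hyU g (Subgroup.mem_zpowers g)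
  obtain ⟨L, hL1, hL2, x, hx, e⟩ := descend (L := ([] : List (ℕ × K))) (k := 0) hK tree_ok
    (fun p hp => absurd hp List.not_mem_nil) (y⁻¹ * g * y) (mul_mem (mul_mem (inv_mem hy) hg) hy)
    (by rw [show y⁻¹ * g * y * (y⁻¹ * g * y) = y⁻¹ * (g * g) * y by group, h2]; group)
    (by
      rw [show flv m ([] : List (ℕ × K)) = [] from rfl, Chev.el_nil, _root_.inv_one, one_mul]
      refine (Φ).US_mono (fun r hr => ?_) hU
      have hsub : ∀ r ∈ posL, r ∈ sk 0 := by decide +kernel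
      exact hsub r.val (mem_posL hr))
  refine red_conj hK ⟨x * y⁻¹, mul_mem hx (inv_mem hy), ?_⟩ (red_leaf hK hL1 (fun p hp => (hL2 p hp).2) ?_)
  · rw [← e]; group
  · rintro rfl
    rw [show flv m ([] : List (ℕ × K)) = [] from rfl, Chev.el_nil,
      show x * (y⁻¹ * g * y) * x⁻¹ = x * y⁻¹ * g * (x * y⁻¹)⁻¹ by group, conj_eq_one_iff] at e
    exact h1 e

omit [Fintype K] in
theorem rep_facts :
    ((Φ).el (gv m 11 (1 : K)) * (Φ).el (gv m 11 1) = 1 ∧ (Φ).el (gv m 9 (1 : K)) * (Φ).el (gv m 9 1) = 1) ∧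
    (((Φ).el (gv m 11 (1 : K))).val - 1).rank = 21 ∧
    (((Φ).el (gv m 9 (1 : K))).val - 1).rank = 24 := by
  have e11 : (Φ).el (gv m 11 (1 : K)) = (Φ).el1 [fn 47, fn 44] := by
    have h := packF4.commute_commB (F := K) (a := fn 44) (f := fn 47) (hn := (by decide : 0 < Cfsg.Lie.chevF4.nroots))
      (hd := datumOKF4) (ht := tabOKF4) (hr := rootsOKF4) (hj := jacAllF4) (hw := weylOKF4) (hc := commOKF4)
      (by decide +kernel) 1 1
    simp only [gv, genI, genL, List.getD_cons_succ, List.getD_cons_zero]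
    simp [Chev.el, Chev.el1]
    exact h.eq
  have e9 : (Φ).el (gv m 9 (1 : K)) = (Φ).el1 [fn 39, fn 45] := by
    simp only [gv, genI, genL, List.getD_cons_succ, List.getD_cons_zero]
    simp [Chev.el, Chev.el1]
  refine ⟨⟨packF4.el_sq_comms (L := gv m 11 (1 : K)) ?_, packF4.el_sq_comms (L := gv m 9 (1 : K)) ?_⟩, ?_, ?_⟩
  · rw [gv_roots]; decide +kernel
  · rw [gv_roots]; decide +kernel
  · rw [e11]
    exact (packF4.rank_el1 (F := K) (L := [fn 47, fn 44]) rankF4_2).trans pivF4_2_length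
  · rw [e9]
    exact (packF4.rank_el1 (F := K) (L := [fn 39, fn 45]) rankF4_3).trans pivF4_3_length

omit [Fintype K] in
theorem orderOf_rep {i : ℕ} (hi : i ∈ [11, 9]) : orderOf ((Φ).el (gv m i (1 : K))) = 2 := by
  haveI : Fact (Nat.Prime 2) := ⟨Nat.prime_two⟩
  obtain ⟨⟨s11, s9⟩, r11, r9⟩ := rep_facts (K := K) (m := m)
  have key : ∀ {g : GL Cfsg.Lie.chevF4.Idx K} {k : ℕ}, g * g = 1 →
      (((g : Matrix Cfsg.Lie.chevF4.Idx Cfsg.Lie.chevF4.Idx K)) - 1).rank = k → k ≠ 0 → orderOf g = 2 :=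
    fun {g k} h hr hk => orderOf_eq_prime (by rw [sq, h]) fun e => by
      rw [e, Units.val_one, sub_self, Matrix.rank_zero] at hr
      exact hk hr.symm
  simp only [List.mem_cons, List.not_mem_nil, or_false] at hi
  rcases hi with rfl | rfl
  · exact key s11 r11 (by norm_num)
  · exact key s9 r9 (by norm_num)

omit [Fintype K] in
theorem not_conj {y : GL Cfsg.Lie.chevF4.Idx K} :
    y * (Φ).el (gv m 11 (1 : K)) * y⁻¹ ≠ (Φ).el (gv m 9 1) := by
  intro e
  obtain ⟨-, r11, r9⟩ := rep_facts (K := K) (m := m)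
  have := rank_sub_one_conj e
  omega

include hK in
/-- ²F₄(q) has exactly two classes of involutions. -/
theorem involution_count :
    (ConjClasses.mk '' {g : ↥(twistedF4 K (2 ^ m)) | orderOf g = 2}).ncard = 2 := by
  rw [T2F4.eq_fix hK]
  let R : ∀ i, i < 12 → ↥(T).fix := fun i hi => ⟨_, gv_fix hK hi (1 : K)⟩
  have himg : ConjClasses.mk '' {g : ↥(T).fix | orderOf g = 2} =
      {ConjClasses.mk (R 11 (by norm_num)), ConjClasses.mk (R 9 (by norm_num))} := by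
    ext C
    constructor
    · rintro ⟨g, hg, rfl⟩
      replace hg : orderOf g = 2 := hg
      obtain ⟨i, hi, x, hx, e⟩ := red_involution hK g.2
        (by rw [← Subgroup.coe_mul, ← sq, ← hg, pow_orderOf_eq_one]; rfl)
        (fun e => by
          rw [← Subgroup.orderOf_coe, e, orderOf_one] at hg
          exact absurd hg (by norm_num))
      simp only [List.mem_cons, List.not_mem_nil, or_false] at hi
      rcases hi with rfl | rfl
      · exact Or.inl (ConjClasses.mk_eq_mk_iff_isConj.2 (isConj_iff.2 ⟨⟨x, hx⟩, Subtype.ext e⟩))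
      · exact Or.inr (ConjClasses.mk_eq_mk_iff_isConj.2 (isConj_iff.2 ⟨⟨x, hx⟩, Subtype.ext e⟩))
    · rintro (rfl | rfl)
      · exact ⟨_, by rw [Set.mem_ofPred_eq, ← Subgroup.orderOf_coe]; exact orderOf_rep (by simp), rfl⟩
      · exact ⟨_, by rw [Set.mem_ofPred_eq, ← Subgroup.orderOf_coe]; exact orderOf_rep (by simp), rfl⟩
  rw [himg, Set.ncard_pair]
  intro e
  obtain ⟨c, hc⟩ := isConj_iff.1 (ConjClasses.mk_eq_mk_iff_isConj.1 e)
  exact not_conj (congrArg Subtype.val hc)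

end CfsgLib.Chev.T2F4Inv
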