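/-
The classes of involutions of the Tits group.
-/
import Cfsg.Agent.Lib.Chev.InvClass.TwFusionF4

set_option autoImplicit false
set_option linter.dupNamespace false
set_option linter.unusedSectionVars false
set_option maxRecDepth 100000
set_option maxHeartbeats 1000000

namespace CfsgLib.Chev.T2F4Inv

open Cfsg.Lie Matrix Chev CfsgLib.Chev.T2F4Two

local notation "Φ" => CfsgLib.Chev.chevF4

theorem aval_rep {i : ℕ} (hi : i ∈ [11, 9]) : aval [i] = (Φ).el (gv 0 i (1 : T2F4Two.F)) := by
  simp only [List.mem_cons, List.not_mem_nil, or_false] at hi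
  have h : ∀ a b : ℕ, ∀ ha : a < Cfsg.Lie.chevF4.nroots, ∀ hb : b < Cfsg.Lie.chevF4.nroots,
      val [a, b] = (Φ).toAlg.xg ⟨a, ha⟩ 1 * (Φ).toAlg.xg ⟨b, hb⟩ 1 := fun a b ha hb => by
    rw [val_cons a ha, val_cons b hb, val_nil, mul_one]
  rw [aval_single]
  rcases hi with rfl | rfl
  · rw [show gw 11 = [44, 47] from rfl, h 44 47 (by decide) (by decide), el_gv_pair (pairI_of (by simp))]
    simp only [one_pow]
    rfl
  · rw [show gw 9 = [39, 45] from rfl, h 39 45 (by decide) (by decide), el_gv_pair (pairI_of (by simp))]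
    simp only [one_pow]
    rfl

theorem gel_rep {i : ℕ} (hi : i ∈ [11, 9]) :
    ((gel [i] : G) : GL Cfsg.Lie.chevF4.Idx T2F4Two.F) = (Φ).el (gv 0 i 1) := by
  rw [gel_val (fun k hk => ?_), aval_rep hi]
  rw [List.mem_singleton.1 hk]
  simp only [List.mem_cons, List.not_mem_nil, or_false] at hi
  omega

theorem gel_comm {i : ℕ} (hi : i ∈ [11, 9]) : gel [i] * gel [4] = gel [4] * gel [i] := by
  have hc : comT i 4 = [] ∧ 4 < i ∧ i < 12 := by
    simp only [List.mem_cons, List.not_mem_nil, or_false] at hi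
    rcases hi with rfl | rfl <;> exact ⟨rfl, by norm_num, by norm_num⟩
  refine Subtype.ext ?_
  rw [Subgroup.coe_mul, Subgroup.coe_mul, gel_val (by simp [hc.2.2]), gel_val (by simp), aval_single,
    aval_single, com_val hc.2.2 hc.2.1, hc.1, aval_nil, mul_one]

theorem gel_four_not_mem : gel [4] ∉ commutator ↥G := fun h => cl_one_ne (by
  rw [← Abelianization.ker_of] at h
  have h4 : cl 4 = cl 1 := by rw [cl_values.2 4 (by norm_num)]; simp [par]
  rw [← h4]
  exact h)

theorem gel_rep_order {i : ℕ} (hi : i ∈ [11, 9]) : orderOf (gel [i] : G) = 2 := by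
  rw [← Subgroup.orderOf_coe, gel_rep hi]
  exact orderOf_rep hi

theorem red_G {g : G} (hg : orderOf g = 2) :
    ∃ i ∈ [11, 9], ∃ x : G, x * g * x⁻¹ = gel [i] := by
  obtain ⟨i, hi, x, hx, e⟩ := red_involution (m := 0) T2F4Two.hK
    (g := (g : GL Cfsg.Lie.chevF4.Idx T2F4Two.F)) (by rw [← T2F4.eq_fix T2F4Two.hK]; exact g.2)
    (by rw [← Subgroup.coe_mul, ← sq, orderOf_dvd_iff_pow_eq_one.1 hg.dvd]; rfl)
    (fun e => by
      rw [← Subgroup.orderOf_coe, e, orderOf_one] at hg
      exact absurd hg (by norm_num))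
  rw [← T2F4.eq_fix T2F4Two.hK] at hx
  exact ⟨i, hi, ⟨x, hx⟩, Subtype.ext (by rw [gel_rep hi, ← e]; rfl)⟩

attribute [local irreducible] gel

/-- The classes of involutions do not split in the derived group. -/
theorem tits_count :
    (ConjClasses.mk '' {g : ↥(commutator ↥G) | orderOf g = 2}).ncard = 2 := by
  have hmem : ∀ i ∈ [11, 9], gel [i] ∈ commutator ↥G := fun i hi =>
    involution_mem_commutator _ (gel_rep_order hi)
  let r : ∀ i, i ∈ [11, 9] → ↥(commutator ↥G) := fun i hi => ⟨gel [i], hmem i hi⟩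
  have himg : ConjClasses.mk '' {g : ↥(commutator ↥G) | orderOf g = 2} =
      {ConjClasses.mk (r 11 (by simp)), ConjClasses.mk (r 9 (by simp))} := by
    ext C
    constructor
    · rintro ⟨g, hg, rfl⟩
      replace hg : orderOf g = 2 := hg
      obtain ⟨i, hi, x, e⟩ := red_G (g := (g : G)) (by rw [Subgroup.orderOf_coe]; exact hg)
      obtain ⟨y, hy, ey⟩ : ∃ y ∈ commutator ↥G, y * (g : G) * y⁻¹ = gel [i] := by
        by_cases hx : x ∈ commutator ↥G
        · exact ⟨x, hx, e⟩
        · refine ⟨gel [4] * x, (Subgroup.mul_mem_iff_of_index_two index_commutator).2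
            ⟨fun h => absurd h gel_four_not_mem, fun h => absurd h hx⟩, ?_⟩
          rw [show gel [4] * x * (g : G) * (gel [4] * x)⁻¹ = gel [4] * (x * (g : G) * x⁻¹) * (gel [4])⁻¹ by
            group, e, ← gel_comm hi, mul_inv_cancel_right]
      have hconj : ConjClasses.mk g = ConjClasses.mk (r i hi) :=
        ConjClasses.mk_eq_mk_iff_isConj.2 (isConj_iff.2 ⟨⟨y, hy⟩, Subtype.ext ey⟩)
      simp only [List.mem_cons, List.not_mem_nil, or_false] at hi
      rcases hi with rfl | rfl
      · exact Or.inl hconj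
      · exact Or.inr hconj
    · have ho : ∀ i (hi : i ∈ [11, 9]), r i hi ∈ {g : ↥(commutator ↥G) | orderOf g = 2} := fun i hi =>
        Set.mem_ofPred.2 ((Subgroup.orderOf_coe (r i hi)).symm.trans (gel_rep_order hi))
      rintro (rfl | rfl)
      · exact Set.mem_image_of_mem _ (ho 11 (by simp))
      · exact Set.mem_image_of_mem _ (ho 9 (by simp))
  rw [himg, Set.ncard_pair]
  intro e
  obtain ⟨c, hc⟩ := isConj_iff.1 (ConjClasses.mk_eq_mk_iff_isConj.1 e)
  have h1 : (c : G) * gel [11] * (c : G)⁻¹ = gel [9] := by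
    have := congrArg (Subtype.val) hc
    simp only [Subgroup.coe_mul, Subgroup.coe_inv, r] at this
    exact this
  have h := congrArg (Subtype.val) h1
  simp only [Subgroup.coe_mul, Subgroup.coe_inv] at h
  rw [gel_rep (by simp), gel_rep (by simp)] at h
  exact not_conj h

end CfsgLib.Chev.T2F4Inv
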